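import Mathlib
import Cfsg.Prelude.Def_OddOrderLocal

/-! CALL S1351B (helper62), piece NPC: in a group with a normal `q`-complement, a Sylow
`q`-subgroup contained in the derived subgroup is trivial. -/

set_option autoImplicit false
open Cfsg Subgroup

namespace Cfsg.Agent.Helper27

universe u

variable {G : Type u} [Group G] [Finite G]

/-- PIECE NPC -/
theorem bg51_npc_sylow {S T : Subgroup G} {q : ℕ} [Fact q.Prime]
    (hnpc : Cfsg.HasNormalPComplement q ↥S) (hTS : T ≤ S) (hTq : IsPGroup q T)
    (hidx : ¬ q ∣ T.relIndex S) (hT : T ≤ ⁅S, S⁆) : T = ⊥ := by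
  classical
  obtain ⟨P, N, hN, hcompl⟩ := hnpc
  have hq : q.Prime := Fact.out
  -- the copy of `T` inside `↥S`
  have hT'q : IsPGroup q (T.subgroupOf S) :=
    hTq.of_equiv (Subgroup.subgroupOfEquivOfLe hTS).symm
  have hT'idx : ¬ q ∣ (T.subgroupOf S).index := hidx
  have hcardT' : Nat.card (T.subgroupOf S) = Nat.card (P : Subgroup ↥S) := by
    have h1 := Sylow.card_eq_multiplicity (hT'q.toSylow hT'idx)
    have h2 := Sylow.card_eq_multiplicity P
    rw [h2]
    exact h1
  -- `T'` lies in the commutator subgroup of `↥S`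
  have hT'comm : T.subgroupOf S ≤ commutator ↥S := by
    intro x hx
    have hx' : (x : G) ∈ ⁅S, S⁆ := hT (Subgroup.mem_subgroupOf.mp hx)
    rw [← Subgroup.map_subtype_commutator] at hx'
    obtain ⟨y, hy, hyx⟩ := Subgroup.mem_map.mp hx'
    have : y = x := Subtype.ext hyx
    rw [← this]
    exact hy
  -- `T'` is a complement of `N`
  have hNP : Nat.card N * Nat.card (P : Subgroup ↥S) = Nat.card ↥S := hcompl.card_mul_card
  have hNcop : ¬ q ∣ Nat.card N := by
    rw [← hcompl.index_eq_card]
    exact P.not_dvd_index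
  obtain ⟨k, hk⟩ := (IsPGroup.iff_card.mp hT'q)
  have hcop : Nat.Coprime (Nat.card (T.subgroupOf S)) (Nat.card N) := by
    rw [hk]
    exact Nat.Coprime.pow_left k ((Nat.Prime.coprime_iff_not_dvd hq).mpr hNcop)
  have hcompl' : (T.subgroupOf S).IsComplement' N :=
    Subgroup.isComplement'_of_coprime (by rw [hcardT', mul_comm]; exact hNP) hcop
  have hsup : T.subgroupOf S ⊔ N = ⊤ := hcompl'.sup_eq_top
  -- the quotient `↥S ⧸ N` is a `q`-group equal to its commutator subgroup
  have hcardQ : Nat.card (↥S ⧸ N) = Nat.card (T.subgroupOf S) := by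
    have h1 : N.index = Nat.card (T.subgroupOf S) := hcompl'.index_eq_card
    rw [← h1]
    rfl
  have hQq : IsPGroup q (↥S ⧸ N) := IsPGroup.of_card (hcardQ.trans hk)
  have hmapT : (T.subgroupOf S).map (QuotientGroup.mk' N) = ⊤ := by
    have h1 : (T.subgroupOf S ⊔ N).map (QuotientGroup.mk' N) = ⊤ := by
      rw [hsup]
      exact Subgroup.map_top_of_surjective _ (QuotientGroup.mk'_surjective N)
    rw [Subgroup.map_sup, QuotientGroup.map_mk'_self, sup_bot_eq] at h1
    exact h1
  have hcommQ : commutator (↥S ⧸ N) = ⊤ := by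
    apply top_le_iff.mp
    rw [← hmapT]
    calc (T.subgroupOf S).map (QuotientGroup.mk' N)
        ≤ (commutator ↥S).map (QuotientGroup.mk' N) := Subgroup.map_mono hT'comm
      _ ≤ commutator (↥S ⧸ N) := by
          rw [commutator_def, commutator_def, Subgroup.map_commutator]
          exact Subgroup.commutator_mono le_top le_top
  -- hence the quotient is trivial
  have hsub : Subsingleton (↥S ⧸ N) := by
    by_contra hns
    rw [not_subsingleton_iff_nontrivial] at hns
    haveI := hns
    haveI : Group.IsNilpotent (↥S ⧸ N) := hQq.isNilpotent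
    have hlt := Group.IsSolvable.commutator_lt_top_of_nontrivial (↥S ⧸ N)
    exact hlt.ne hcommQ
  have hcard1 : Nat.card (T.subgroupOf S) = 1 := by
    rw [← hcardQ]
    exact Nat.card_of_subsingleton (1 : ↥S ⧸ N)
  have hbot : T.subgroupOf S = ⊥ := Subgroup.card_eq_one.mp hcard1
  exact (Subgroup.subgroupOf_eq_bot.mp hbot).eq_bot_of_le hTS

end Cfsg.Agent.Helper27
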