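/-
helper27: S2176 (`E₈(q)`, `q` even, four classes of involutions) - the ranks of `y - 1` for the four
representatives `y` on the adjoint module (58, 92, 110, 120), part A (machine certificates from
Gaussian elimination over `GF(2)`, checked by the kernel through `Cfsg.Agent.Helper81.ChRank`).
-/
import Cfsg.Agent.Helper81.ChRank
import Cfsg.Prelude.Def_ChevE8

set_option autoImplicit false
set_option linter.unusedSectionVars false
set_option linter.unusedVariables false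
set_option maxRecDepth 100000

namespace Cfsg.Agent.Helper27

open Cfsg Cfsg.Lie Cfsg.Agent.Helper18 Cfsg.Agent.Helper38 Cfsg.Agent.Helper81

noncomputable def e8rLB1 : List (FVec × ℕ) :=
  [([(7, 1, 0)], 247), ([(9, 1, 0)], 128), ([(10, 1, 0)], 130), ([(11, 1, 0)], 133), ([(12, 1, 0)], 137), ([(13, 1, 0)], 142), ([(14, 1, 0)], 148), ([(15, 1, 0)], 154), ([(16, 1, 0)], 159), ([(17, 1, 0)], 163), ([(18, 1, 0)], 166), ([(19, 1, 0)], 168), ([(20, 1, 0)], 169), ([(22, 1, 0)], 176), ([(23, 1, 0)], 181), ([(24, 1, 0)], 185), ([(25, 1, 0)], 188), ([(26, 1, 0)], 190), ([(27, 1, 0)], 191), ([(29, 1, 0)], 195), ([(30, 1, 0)], 198), ([(31, 1, 0)], 200), ([(32, 1, 0)], 201), ([(34, 1, 0)], 204), ([(35, 1, 0)], 206), ([(36, 1, 0)], 207), ([(38, 1, 0)], 209), ([(39, 1, 0)], 210), ([(41, 1, 0)], 211), ([(44, 1, 0)], 214), ([(45, 1, 0)], 216), ([(46, 1, 0)], 217), ([(48, 1, 0)], 219), ([(49, 1, 0)],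 220), ([(51, 1, 0)], 221), ([(54, 1, 0)], 223), ([(55, 1, 0)], 224), ([(57, 1, 0)], 225), ([(60, 1, 0)], 226), ([(64, 1, 0)], 228), ([(65, 1, 0)], 229), ([(67, 1, 0)], 230), ([(70, 1, 0)], 231), ([(74, 1, 0)], 232), ([(79, 1, 0)], 233), ([(86, 1, 0)], 235), ([(87, 1, 0)], 236), ([(89, 1, 0)], 237), ([(92, 1, 0)], 238), ([(96, 1, 0)], 239), ([(101, 1, 0)], 240), ([(107, 1, 0)], 241), ([(113, 1, 0)], 242), ([(118, 1, 0)], 243), ([(122, 1, 0)], 244), ([(125, 1, 0)], 245), ([(127, 1, 0)], 246), ([(7, 1, 0), (8, 1, 0)], 1)]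

theorem e8r_lb1 {F : Type*} [Field F] [CharP F 2] :
    58 ≤ (chevE8.wordMat F ([239].map fun r => (r, (1 : F))) - 1).rank :=
  le_trans (le_of_eq (by decide +kernel : (58 : ℕ) = e8rLB1.length))
    (chr_lb F chevE8 [239] e8rLB1 (by decide +kernel) (by decide +kernel))

noncomputable def e8rLB2 : List (FVec × ℕ) :=
  [([(0, 1, 0)], 241), ([(22, 1, 0)], 170), ([(23, 1, 0)], 171), ([(24, 1, 0)], 172), ([(25, 1, 0)], 173), ([(26, 1, 0)], 174), ([(27, 1, 0)], 175), ([(28, 1, 0)], 176), ([(29, 1, 0)], 177), ([(30, 1, 0)], 178), ([(31, 1, 0)], 179), ([(32, 1, 0)], 180), ([(33, 1, 0)], 181), ([(34, 1, 0)], 182), ([(35, 1, 0)], 183), ([(36, 1, 0)], 184), ([(37, 1, 0)], 185), ([(38, 1, 0)], 186), ([(39, 1, 0)], 187), ([(40, 1, 0)], 188), ([(41, 1, 0)], 189), ([(42, 1, 0)], 190), ([(43, 1, 0)], 191), ([(44, 1, 0)], 192), ([(45, 1, 0)], 193), ([(46, 1, 0)], 194), ([(47, 1, 0)], 195), ([(48, 1,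 0)], 196), ([(49, 1, 0)], 197), ([(50, 1, 0)], 198), ([(51, 1, 0)], 199), ([(52, 1, 0)], 200), ([(53, 1, 0)], 201), ([(54, 1, 0)], 202), ([(55, 1, 0)], 203), ([(56, 1, 0)], 204), ([(57, 1, 0)], 205), ([(58, 1, 0)], 206), ([(59, 1, 0)], 207), ([(60, 1, 0)], 208), ([(61, 1, 0)], 209), ([(62, 1, 0)], 210), ([(63, 1, 0)], 211), ([(64, 1, 0)], 212), ([(65, 1, 0)], 213), ([(66, 1, 0)], 214), ([(67, 1, 0)], 215), ([(68, 1, 0)], 216), ([(69, 1, 0)], 217), ([(70, 1, 0)], 218), ([(71, 1, 0)], 219), ([(72, 1, 0)], 220), ([(73, 1, 0)], 221), ([(74, 1, 0)], 222), ([(75, 1, 0)], 223), ([(76, 1, 0)], 224), ([(77, 1, 0)], 225), ([(78, 1, 0)], 226), ([(79, 1, 0)], 227), ([(80, 1, 0)], 228), ([(81, 1, 0)], 229), ([(82, 1, 0)], 230), ([(83, 1, 0)], 231), ([(84, 1, 0)], 232), ([(85, 1, 0)], 233), ([(101, 1, 0)], 234), ([(102, 1, 0)], 235), ([(103, 1, 0)], 236), ([(104, 1, 0)], 237), ([(105, 1, 0)], 238),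 ([(106, 1, 0)], 239), ([(143, 1, 0)], 242), ([(144, 1, 0)], 243), ([(145, 1, 0)], 244), ([(146, 1, 0)], 245), ([(147, 1, 0)], 246), ([(148, 1, 0)], 247), ([(0, 1, 0), (1, 1, 0)], 240), ([(8, 1, 0), (101, 1, 0)], 101), ([(9, 1, 0), (102, 1, 0)], 102), ([(10, 1, 0), (103, 1, 0)], 103), ([(11, 1, 0), (104, 1, 0)], 104), ([(12, 1, 0), (105, 1, 0)], 105), ([(13, 1, 0), (106, 1, 0)], 106), ([(16, 1, 0), (143, 1, 0)], 143), ([(17, 1, 0), (144, 1, 0)], 144), ([(18, 1, 0), (145, 1, 0)], 145), ([(19, 1, 0), (146, 1, 0)], 146), ([(20, 1, 0), (147, 1, 0)], 147), ([(21, 1, 0), (148, 1, 0)], 148), ([(0, 1, 0), (1, 1, 0), (15, 1, 0)], 3), ([(1, 1, 0), (14, 1, 0), (15, 1, 0)], 1)]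

theorem e8r_lb2 {F : Type*} [Field F] [CharP F 2] :
    92 ≤ (chevE8.wordMat F ([232, 233].map fun r => (r, (1 : F))) - 1).rank :=
  le_trans (le_of_eq (by decide +kernel : (92 : ℕ) = e8rLB2.length))
    (chr_lb F chevE8 [232, 233] e8rLB2 (by decide +kernel) (by decide +kernel))

end Cfsg.Agent.Helper27
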