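/-
helper27: S2176 (`E₈(q)`, `q` even, four classes of involutions) - the ranks of `y - 1` for the four
representatives `y` on the adjoint module (58, 92, 110, 120), part B (machine certificates from
Gaussian elimination over `GF(2)`, checked by the kernel through `Cfsg.Agent.Helper81.ChRank`).
-/
import Cfsg.Agent.Helper81.ChRank
import Cfsg.Prelude.Def_ChevE8

set_option autoImplicit false
set_option linter.unusedSectionVars false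
set_option linter.unusedVariables false
set_option maxRecDepth 100000

namespace Cfsg.Agent.Helper27

open Cfsg Cfsg.Lie Cfsg.Agent.Helper18 Cfsg.Agent.Helper38 Cfsg.Agent.Helper81

noncomputable def e8rLB3 : List (FVec × ℕ) :=
  [([(6, 1, 0)], 236), ([(20, 1, 0)], 129), ([(21, 1, 0)], 130), ([(27, 1, 0)], 132), ([(28, 1, 0)], 133), ([(32, 1, 0)], 136), ([(33, 1, 0)], 137), ([(36, 1, 0)], 141), ([(37, 1, 0)], 142), ([(39, 1, 0)], 147), ([(40, 1, 0)], 148), ([(41, 1, 0)], 175), ([(42, 1, 0)], 176), ([(46, 1, 0)], 153), ([(47, 1, 0)], 154), ([(49, 1, 0)], 158), ([(50, 1, 0)], 159), ([(51, 1, 0)], 180), ([(52, 1, 0)], 181), ([(55, 1, 0)], 162), ([(56, 1, 0)], 163), ([(57, 1, 0)], 184), ([(58, 1, 0)], 185), ([(62, 1, 0)], 169), ([(63, 1, 0)], 191), ([(65, 1, 0)], 165), ([(66, 1, 0)], 166), ([(70, 1, 0)], 197), ([(71, 1, 0)], 198), ([(73, 1, 0)], 201), ([(74, 1, 0)],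 203), ([(75, 1, 0)], 204), ([(77, 1, 0)], 207), ([(78, 1, 0)], 210), ([(79, 1, 0)], 213), ([(80, 1, 0)], 214), ([(82, 1, 0)], 217), ([(83, 1, 0)], 220), ([(84, 1, 0)], 224), ([(85, 1, 0)], 229), ([(89, 1, 0)], 189), ([(90, 1, 0)], 190), ([(92, 1, 0)], 199), ([(93, 1, 0)], 200), ([(96, 1, 0)], 205), ([(97, 1, 0)], 206), ([(100, 1, 0)], 211), ([(101, 1, 0)], 208), ([(102, 1, 0)], 209), ([(107, 1, 0)], 215), ([(108, 1, 0)], 216), ([(111, 1, 0)], 221), ([(112, 1, 0)], 225), ([(113, 1, 0)], 218), ([(114, 1, 0)], 219), ([(118, 1, 0)], 222), ([(119, 1, 0)], 223), ([(122, 1, 0)], 227), ([(123, 1, 0)], 228), ([(125, 1, 0)], 234), ([(126, 1, 0)], 235), ([(131, 1, 0)], 237), ([(134, 1, 0)], 231), ([(135, 1, 0)], 238), ([(139, 1, 0)], 232), ([(140, 1, 0)], 239), ([(146, 1, 0)], 240), ([(151, 1, 0)], 233), ([(152, 1, 0)], 241), ([(157, 1, 0)], 242), ([(161, 1, 0)], 243), ([(164,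 1, 0)], 244), ([(167, 1, 0)], 246), ([(168, 1, 0)], 247), ([(186, 1, 0)], 245), ([(0, 1, 0), (6, 1, 0)], 230), ([(0, 1, 0), (2, 1, 0), (6, 1, 0)], 226), ([(10, 1, 0), (62, 1, 0)], 62), ([(11, 1, 0), (63, 1, 0)], 63), ([(12, 1, 0), (73, 1, 0)], 73), ([(13, 1, 0), (77, 1, 0)], 77), ([(14, 1, 0), (78, 1, 0)], 78), ([(15, 1, 0), (82, 1, 0)], 82), ([(16, 1, 0), (83, 1, 0)], 83), ([(17, 1, 0), (84, 1, 0)], 84), ([(18, 1, 0), (85, 1, 0)], 85), ([(22, 1, 0), (100, 1, 0)], 100), ([(23, 1, 0), (111, 1, 0)], 111), ([(24, 1, 0), (112, 1, 0)], 112), ([(26, 1, 0), (131, 1, 0)], 131), ([(30, 1, 0), (134, 1, 0)], 134), ([(31, 1, 0), (135, 1, 0)], 135), ([(34, 1, 0), (139, 1, 0)], 139), ([(35, 1, 0), (140, 1, 0)], 140), ([(38, 1, 0), (146, 1, 0)], 146), ([(44, 1, 0), (151, 1, 0)], 151), ([(45, 1, 0), (152, 1, 0)], 152), ([(48, 1, 0), (157, 1, 0)], 157), ([(54, 1, 0), (161, 1,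 0)], 161), ([(67, 1, 0), (167, 1, 0)], 167), ([(68, 1, 0), (168, 1, 0)], 168), ([(64, 1, 0), (164, 1, 0)], 164), ([(60, 1, 0), (67, 1, 0)], 187), ([(61, 1, 0), (68, 1, 0)], 188), ([(86, 1, 0), (186, 1, 0)], 186), ([(2, 1, 0), (25, 1, 0), (29, 1, 0)], 2), ([(0, 1, 0), (19, 1, 0), (25, 1, 0)], 0), ([(2, 1, 0), (6, 1, 0), (19, 1, 0), (25, 1, 0), (29, 1, 0)], 7), ([(8, 1, 0), (60, 1, 0)], 60), ([(9, 1, 0), (61, 1, 0)], 61)]

theorem e8r_lb3 {F : Type*} [Field F] [CharP F 2] :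
    110 ≤ (chevE8.wordMat F ([228, 222, 218].map fun r => (r, (1 : F))) - 1).rank :=
  le_trans (le_of_eq (by decide +kernel : (110 : ℕ) = e8rLB3.length))
    (chr_lb F chevE8 [228, 222, 218] e8rLB3 (by decide +kernel) (by decide +kernel))

noncomputable def e8rLB4 : List (FVec × ℕ) :=
  [([(1, 1, 0)], 221), ([(44, 1, 0)], 149), ([(45, 1, 0)], 150), ([(46, 1, 0)], 155), ([(47, 1, 0)], 177), ([(48, 1, 0)], 151), ([(49, 1, 0)], 156), ([(50, 1, 0)], 178), ([(54, 1, 0)], 152), ([(57, 1, 0)], 161), ([(58, 1, 0)], 183), ([(60, 1, 0)], 164), ([(61, 1, 0)], 186), ([(65, 1, 0)], 158), ([(67, 1, 0)], 162), ([(69, 1, 0)], 194), ([(70, 1, 0)], 165), ([(72, 1, 0)], 197), ([(74, 1, 0)], 167), ([(77, 1, 0)], 205), ([(78, 1, 0)], 208), ([(80, 1, 0)], 212), ([(81, 1, 0)], 213), ([(82, 1, 0)], 215), ([(83, 1, 0)], 218), ([(84, 1, 0)], 222), ([(85, 1, 0)], 227), ([(88, 1, 0)], 181),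 ([(90, 1, 0)], 185), ([(91, 1, 0)], 195), ([(93, 1, 0)], 188), ([(94, 1, 0)], 198), ([(97, 1, 0)], 190), ([(99, 1, 0)], 206), ([(100, 1, 0)], 209), ([(103, 1, 0)], 201), ([(104, 1, 0)], 207), ([(105, 1, 0)], 210), ([(106, 1, 0)], 211), ([(109, 1, 0)], 214), ([(110, 1, 0)], 216), ([(111, 1, 0)], 219), ([(112, 1, 0)], 223), ([(116, 1, 0)], 217), ([(117, 1, 0)], 220), ([(128, 1, 0)], 235), ([(129, 1, 0)], 229), ([(130, 1, 0)], 236), ([(131, 1, 0)], 225), ([(132, 1, 0)], 230), ([(133, 1, 0)], 237), ([(135, 1, 0)], 226), ([(136, 1, 0)], 231), ([(137, 1, 0)], 238), ([(141, 1, 0)], 232), ([(142, 1, 0)], 239), ([(148, 1, 0)], 240), ([(153, 1, 0)], 233), ([(154, 1, 0)], 241), ([(159, 1, 0)], 242), ([(163, 1, 0)], 243), ([(166, 1, 0)], 244), ([(168, 1, 0)], 245), ([(169, 1, 0)], 246), ([(191, 1, 0)], 247), ([(1, 1, 0), (2, 1, 0), (3, 1, 0)], 228), ([(1, 1, 0), (3, 1, 0)],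 224), ([(0, 1, 0), (1, 1, 0), (2, 1, 0), (3, 1, 0)], 234), ([(15, 1, 0), (80, 1, 0)], 80), ([(16, 1, 0), (81, 1, 0)], 81), ([(17, 1, 0), (82, 1, 0)], 82), ([(18, 1, 0), (83, 1, 0)], 83), ([(19, 1, 0), (84, 1, 0)], 84), ([(20, 1, 0), (85, 1, 0)], 85), ([(23, 1, 0), (109, 1, 0)], 109), ([(24, 1, 0), (110, 1, 0)], 110), ([(25, 1, 0), (111, 1, 0)], 111), ([(26, 1, 0), (112, 1, 0)], 112), ([(28, 1, 0), (128, 1, 0)], 128), ([(29, 1, 0), (116, 1, 0)], 116), ([(30, 1, 0), (117, 1, 0)], 117), ([(32, 1, 0), (129, 1, 0)], 129), ([(33, 1, 0), (130, 1, 0)], 130), ([(35, 1, 0), (131, 1, 0)], 131), ([(36, 1, 0), (132, 1, 0)], 132), ([(37, 1, 0), (133, 1, 0)], 133), ([(38, 1, 0), (135, 1, 0)], 135), ([(39, 1, 0), (136, 1, 0)], 136), ([(40, 1, 0), (137, 1, 0)], 137), ([(41, 1, 0), (141, 1, 0)], 141), ([(42, 1, 0), (142, 1, 0)], 142), ([(43, 1, 0), (148, 1, 0)], 148), ([(55, 1,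 0), (153, 1, 0)], 153), ([(56, 1, 0), (154, 1, 0)], 154), ([(66, 1, 0), (159, 1, 0)], 159), ([(51, 1, 0), (55, 1, 0)], 157), ([(52, 1, 0), (56, 1, 0)], 179), ([(68, 1, 0), (163, 1, 0)], 163), ([(71, 1, 0), (166, 1, 0)], 166), ([(75, 1, 0), (168, 1, 0)], 168), ([(53, 1, 0), (66, 1, 0)], 180), ([(59, 1, 0), (68, 1, 0)], 184), ([(62, 1, 0), (71, 1, 0)], 187), ([(76, 1, 0), (169, 1, 0)], 169), ([(63, 1, 0), (75, 1, 0)], 189), ([(73, 1, 0), (76, 1, 0)], 199), ([(98, 1, 0), (191, 1, 0)], 191), ([(95, 1, 0), (98, 1, 0)], 200), ([(2, 1, 0), (27, 1, 0), (31, 1, 0)], 2), ([(0, 1, 0), (21, 1, 0), (27, 1, 0)], 0), ([(0, 1, 0), (1, 1, 0), (3, 1, 0), (21, 1, 0), (27, 1, 0), (31, 1, 0)], 4), ([(3, 1, 0), (31, 1, 0), (34, 1, 0)], 3), ([(8, 1, 0), (51, 1, 0)], 51), ([(9, 1, 0), (52, 1, 0)], 52), ([(10, 1, 0), (53, 1, 0)], 53), ([(11, 1, 0), (59, 1, 0)], 59), ([(12, 1, 0), (62,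 1, 0)], 62), ([(13, 1, 0), (63, 1, 0)], 63), ([(14, 1, 0), (73, 1, 0)], 73), ([(22, 1, 0), (95, 1, 0)], 95)]

theorem e8r_lb4 {F : Type*} [Field F] [CharP F 2] :
    120 ≤ (chevE8.wordMat F ([226, 220, 213, 216].map fun r => (r, (1 : F))) - 1).rank :=
  le_trans (le_of_eq (by decide +kernel : (120 : ℕ) = e8rLB4.length))
    (chr_lb F chevE8 [226, 220, 213, 216] e8rLB4 (by decide +kernel) (by decide +kernel))

end Cfsg.Agent.Helper27
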