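/-
helper27: S2176 (`E₈(q)`, `q` even, four classes of involutions) - the ranks of `y - 1` for the four
representatives `y` on the adjoint module (58, 92, 110, 120), part D (machine certificates from
Gaussian elimination over `GF(2)`, checked by the kernel through `Cfsg.Agent.Helper81.ChRank`).
-/
import Cfsg.Agent.Helper81.ChRank
import Cfsg.Prelude.Def_ChevE8

set_option autoImplicit false
set_option linter.unusedSectionVars false
set_option linter.unusedVariables false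
set_option maxRecDepth 100000

namespace Cfsg.Agent.Helper27

open Cfsg Cfsg.Lie Cfsg.Agent.Helper18 Cfsg.Agent.Helper38 Cfsg.Agent.Helper81

noncomputable def e8rUB3 : List (FVec × ℕ) :=
  [([(1, 1, 0)], 1), ([(3, 1, 0)], 3), ([(7, 1, 0)], 7), ([(43, 1, 0)], 43), ([(53, 1, 0)], 53), ([(59, 1, 0)], 59), ([(72, 1, 0)], 72), ([(76, 1, 0)], 76), ([(81, 1, 0)], 81), ([(95, 1, 0)], 95), ([(99, 1, 0)], 99), ([(105, 1, 0)], 105), ([(106, 1, 0)], 106), ([(110, 1, 0)], 110), ([(117, 1, 0)], 117), ([(127, 1, 0)], 127), ([(128, 1, 0)], 128), ([(129, 1, 0)], 129), ([(130, 1, 0)], 130), ([(132, 1, 0)], 132), ([(133, 1, 0)], 133), ([(136, 1, 0)], 136), ([(137, 1, 0)], 137), ([(138, 1, 0)], 138), ([(141, 1, 0)], 141), ([(142, 1, 0)], 142), ([(145, 1, 0)], 145), ([(147, 1, 0)], 147), ([(148, 1, 0)], 148), ([(149, 1, 0)], 149), ([(150, 1, 0)], 150), ([(153, 1, 0)], 153), ([(154, 1, 0)], 154), ([(156,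 1, 0)], 156), ([(158, 1, 0)], 158), ([(159, 1, 0)], 159), ([(160, 1, 0)], 160), ([(162, 1, 0)], 162), ([(163, 1, 0)], 163), ([(165, 1, 0)], 165), ([(166, 1, 0)], 166), ([(169, 1, 0)], 169), ([(174, 1, 0)], 174), ([(175, 1, 0)], 175), ([(176, 1, 0)], 176), ([(179, 1, 0)], 179), ([(180, 1, 0)], 180), ([(181, 1, 0)], 181), ([(183, 1, 0)], 183), ([(184, 1, 0)], 184), ([(185, 1, 0)], 185), ([(189, 1, 0)], 189), ([(190, 1, 0)], 190), ([(191, 1, 0)], 191), ([(196, 1, 0)], 196), ([(197, 1, 0)], 197), ([(198, 1, 0)], 198), ([(199, 1, 0)], 199), ([(200, 1, 0)], 200), ([(201, 1, 0)], 201), ([(202, 1, 0)], 202), ([(203, 1, 0)], 203), ([(204, 1, 0)], 204), ([(205, 1, 0)], 205), ([(206, 1, 0)], 206), ([(207, 1, 0)], 207), ([(208, 1, 0)], 208), ([(209, 1, 0)], 209), ([(210, 1, 0)], 210), ([(211, 1, 0)], 211), ([(212, 1, 0)], 212), ([(213, 1, 0)], 213), ([(214, 1, 0)], 214), ([(215, 1, 0)], 215), ([(216,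 1, 0)], 216), ([(217, 1, 0)], 217), ([(218, 1, 0)], 218), ([(219, 1, 0)], 219), ([(220, 1, 0)], 220), ([(221, 1, 0)], 221), ([(222, 1, 0)], 222), ([(223, 1, 0)], 223), ([(224, 1, 0)], 224), ([(225, 1, 0)], 225), ([(226, 1, 0)], 226), ([(227, 1, 0)], 227), ([(228, 1, 0)], 228), ([(229, 1, 0)], 229), ([(230, 1, 0)], 230), ([(231, 1, 0)], 231), ([(232, 1, 0)], 232), ([(233, 1, 0)], 233), ([(234, 1, 0)], 234), ([(235, 1, 0)], 235), ([(236, 1, 0)], 236), ([(237, 1, 0)], 237), ([(238, 1, 0)], 238), ([(239, 1, 0)], 239), ([(240, 1, 0)], 240), ([(241, 1, 0)], 241), ([(242, 1, 0)], 242), ([(243, 1, 0)], 243), ([(244, 1, 0)], 244), ([(245, 1, 0)], 245), ([(246, 1, 0)], 246), ([(247, 1, 0)], 247), ([(62, 1, 0), (69, 1, 0)], 62), ([(63, 1, 0), (91, 1, 0)], 63), ([(73, 1, 0), (94, 1, 0)], 73), ([(77, 1, 0), (98, 1, 0)], 77), ([(78, 1, 0), (103, 1, 0)], 78), ([(100, 1, 0), (104, 1, 0)], 100), ([(82,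 1, 0), (109, 1, 0)], 82), ([(83, 1, 0), (115, 1, 0)], 83), ([(111, 1, 0), (116, 1, 0)], 111), ([(84, 1, 0), (120, 1, 0)], 84), ([(112, 1, 0), (121, 1, 0)], 112), ([(85, 1, 0), (124, 1, 0)], 85), ([(134, 1, 0), (143, 1, 0)], 134), ([(139, 1, 0), (144, 1, 0)], 139), ([(151, 1, 0), (155, 1, 0)], 151), ([(131, 1, 0), (170, 1, 0)], 131), ([(135, 1, 0), (171, 1, 0)], 135), ([(140, 1, 0), (172, 1, 0)], 140), ([(146, 1, 0), (173, 1, 0)], 146), ([(152, 1, 0), (177, 1, 0)], 152), ([(157, 1, 0), (178, 1, 0)], 157), ([(161, 1, 0), (182, 1, 0)], 161), ([(167, 1, 0), (194, 1, 0)], 167), ([(168, 1, 0), (195, 1, 0)], 168), ([(164, 1, 0), (192, 1, 0)], 164), ([(186, 1, 0), (193, 1, 0)], 186), ([(187, 1, 0), (194, 1, 0)], 187), ([(188, 1, 0), (195, 1, 0)], 188), ([(2, 1, 0), (4, 1, 0)], 2), ([(0, 1, 0), (5, 1, 0)], 0), ([(60, 1, 0), (67, 1, 0), (87, 1, 0), (194, 1, 0)], 60), ([(61, 1, 0), (68, 1, 0),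 (88, 1, 0), (195, 1, 0)], 61)]

theorem e8r_ub3 {F : Type*} [Field F] [CharP F 2] :
    (chevE8.wordMat F ([228, 222, 218].map fun r => (r, (1 : F))) - 1).rank ≤ 110 := by
  have h := chr_ub F chevE8 [228, 222, 218] e8rUB3 (by decide +kernel) (by decide +kernel)
  have h1 : e8rUB3.length = 138 := by decide +kernel
  have h2 : chevE8.rank + chevE8.nroots = 248 := by decide +kernel
  rw [h1, h2] at h
  omega

noncomputable def e8rUB4 : List (FVec × ℕ) :=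
  [([(4, 1, 0)], 4), ([(79, 1, 0)], 79), ([(108, 1, 0)], 108), ([(115, 1, 0)], 115), ([(121, 1, 0)], 121), ([(134, 1, 0)], 134), ([(140, 1, 0)], 140), ([(147, 1, 0)], 147), ([(149, 1, 0)], 149), ([(150, 1, 0)], 150), ([(151, 1, 0)], 151), ([(152, 1, 0)], 152), ([(155, 1, 0)], 155), ([(156, 1, 0)], 156), ([(158, 1, 0)], 158), ([(161, 1, 0)], 161), ([(162, 1, 0)], 162), ([(164, 1, 0)], 164), ([(165, 1, 0)], 165), ([(167, 1, 0)], 167), ([(176, 1, 0)], 176), ([(177, 1, 0)], 177), ([(178, 1, 0)], 178), ([(181, 1, 0)], 181), ([(183, 1, 0)], 183), ([(185, 1, 0)], 185), ([(186, 1, 0)], 186), ([(188, 1, 0)], 188), ([(190, 1, 0)], 190), ([(194, 1, 0)], 194), ([(195, 1, 0)], 195), ([(197, 1, 0)], 197), ([(198, 1, 0)], 198), ([(201, 1, 0)], 201), ([(205, 1, 0)], 205), ([(206, 1, 0)], 206), ([(207, 1, 0)], 207), ([(208, 1, 0)], 208), ([(209, 1, 0)], 209), ([(210, 1, 0)], 210), ([(211, 1, 0)], 211),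 ([(212, 1, 0)], 212), ([(213, 1, 0)], 213), ([(214, 1, 0)], 214), ([(215, 1, 0)], 215), ([(216, 1, 0)], 216), ([(217, 1, 0)], 217), ([(218, 1, 0)], 218), ([(219, 1, 0)], 219), ([(220, 1, 0)], 220), ([(221, 1, 0)], 221), ([(222, 1, 0)], 222), ([(223, 1, 0)], 223), ([(224, 1, 0)], 224), ([(225, 1, 0)], 225), ([(226, 1, 0)], 226), ([(227, 1, 0)], 227), ([(228, 1, 0)], 228), ([(229, 1, 0)], 229), ([(230, 1, 0)], 230), ([(231, 1, 0)], 231), ([(232, 1, 0)], 232), ([(233, 1, 0)], 233), ([(234, 1, 0)], 234), ([(235, 1, 0)], 235), ([(236, 1, 0)], 236), ([(237, 1, 0)], 237), ([(238, 1, 0)], 238), ([(239, 1, 0)], 239), ([(240, 1, 0)], 240), ([(241, 1, 0)], 241), ([(242, 1, 0)], 242), ([(243, 1, 0)], 243), ([(244, 1, 0)], 244), ([(245, 1, 0)], 245), ([(246, 1, 0)], 246), ([(247, 1, 0)], 247), ([(80, 1, 0), (107, 1, 0)], 80), ([(81, 1, 0), (113, 1, 0)], 81), ([(109, 1, 0), (114, 1, 0)], 109), ([(82,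 1, 0), (118, 1, 0)], 82), ([(110, 1, 0), (119, 1, 0)], 110), ([(116, 1, 0), (120, 1, 0)], 116), ([(83, 1, 0), (122, 1, 0)], 83), ([(111, 1, 0), (123, 1, 0)], 111), ([(117, 1, 0), (124, 1, 0)], 117), ([(84, 1, 0), (125, 1, 0)], 84), ([(112, 1, 0), (126, 1, 0)], 112), ([(85, 1, 0), (127, 1, 0)], 85), ([(131, 1, 0), (138, 1, 0)], 131), ([(135, 1, 0), (139, 1, 0)], 135), ([(129, 1, 0), (143, 1, 0)], 129), ([(132, 1, 0), (144, 1, 0)], 132), ([(136, 1, 0), (145, 1, 0)], 136), ([(141, 1, 0), (146, 1, 0)], 141), ([(153, 1, 0), (160, 1, 0)], 153), ([(157, 1, 0), (160, 1, 0)], 157), ([(128, 1, 0), (170, 1, 0)], 128), ([(130, 1, 0), (171, 1, 0)], 130), ([(133, 1, 0), (172, 1, 0)], 133), ([(137, 1, 0), (173, 1, 0)], 137), ([(142, 1, 0), (174, 1, 0)], 142), ([(148, 1, 0), (175, 1, 0)], 148), ([(154, 1, 0), (182, 1, 0)], 154), ([(159, 1, 0), (192, 1, 0)], 159), ([(179, 1, 0), (182, 1, 0)], 179), ([(163,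 1, 0), (193, 1, 0)], 163), ([(166, 1, 0), (196, 1, 0)], 166), ([(168, 1, 0), (202, 1, 0)], 168), ([(180, 1, 0), (192, 1, 0)], 180), ([(184, 1, 0), (193, 1, 0)], 184), ([(187, 1, 0), (196, 1, 0)], 187), ([(169, 1, 0), (203, 1, 0)], 169), ([(191, 1, 0), (204, 1, 0)], 191), ([(189, 1, 0), (202, 1, 0)], 189), ([(199, 1, 0), (203, 1, 0)], 199), ([(200, 1, 0), (204, 1, 0)], 200), ([(3, 1, 0), (5, 1, 0)], 3), ([(2, 1, 0), (6, 1, 0)], 2), ([(0, 1, 0), (7, 1, 0)], 0), ([(51, 1, 0), (55, 1, 0), (64, 1, 0), (160, 1, 0)], 51), ([(52, 1, 0), (56, 1, 0), (86, 1, 0), (182, 1, 0)], 52), ([(53, 1, 0), (66, 1, 0), (87, 1, 0), (192, 1, 0)], 53), ([(59, 1, 0), (68, 1, 0), (89, 1, 0), (193, 1, 0)], 59), ([(62, 1, 0), (71, 1, 0), (92, 1, 0), (196, 1, 0)], 62), ([(63, 1, 0), (75, 1, 0), (96, 1, 0), (202, 1, 0)], 63), ([(73, 1, 0), (76, 1, 0), (101, 1, 0), (203, 1, 0)], 73), ([(95, 1, 0), (98, 1, 0), (102,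 1, 0), (204, 1, 0)], 95)]

theorem e8r_ub4 {F : Type*} [Field F] [CharP F 2] :
    (chevE8.wordMat F ([226, 220, 213, 216].map fun r => (r, (1 : F))) - 1).rank ≤ 120 := by
  have h := chr_ub F chevE8 [226, 220, 213, 216] e8rUB4 (by decide +kernel) (by decide +kernel)
  have h1 : e8rUB4.length = 128 := by decide +kernel
  have h2 : chevE8.rank + chevE8.nroots = 248 := by decide +kernel
  rw [h1, h2] at h
  omega

end Cfsg.Agent.Helper27
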