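/-
helper27: S2176 (`E₈(q)`, `q` even, four classes of involutions) - the four representatives
`x₂₃₉(1)`, `x₂₃₂(1) x₂₃₃(1)`, `x₂₂₈(1) x₂₂₂(1) x₂₁₈(1)`, `x₂₂₆(1) x₂₂₀(1) x₂₁₃(1) x₂₁₆(1)` are pairwise
non-conjugate (even in `GL₂₄₈`): the ranks of `y - 1` on the adjoint module are `58, 92, 110, 120`.
-/
import Cfsg.Agent.Helper27.E8IRankA
import Cfsg.Agent.Helper27.E8IRankB
import Cfsg.Agent.Helper27.E8IRankC
import Cfsg.Agent.Helper27.E8IRankD
import Cfsg.Agent.Helper36.ChevUp

set_option autoImplicit false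

namespace Cfsg.Agent.Helper27

open Cfsg Cfsg.Lie Cfsg.Agent.Helper18 Cfsg.Agent.Helper38 Cfsg.Agent.Helper81 Cfsg.Agent.Helper36

variable {F : Type*} [Field F] [CharP F 2]

theorem e8r_rank1 : (chevE8.wordMat F ([239].map fun r => (r, (1 : F))) - 1).rank = 58 :=
  le_antisymm e8r_ub1 e8r_lb1

theorem e8r_rank2 : (chevE8.wordMat F ([232, 233].map fun r => (r, (1 : F))) - 1).rank = 92 :=
  le_antisymm e8r_ub2 e8r_lb2

theorem e8r_rank3 :
    (chevE8.wordMat F ([228, 222, 218].map fun r => (r, (1 : F))) - 1).rank = 110 :=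
  le_antisymm e8r_ub3 e8r_lb3

theorem e8r_rank4 :
    (chevE8.wordMat F ([226, 220, 213, 216].map fun r => (r, (1 : F))) - 1).rank = 120 :=
  le_antisymm e8r_ub4 e8r_lb4

/-- The four representatives of the classes of involutions of `E₈(q)`, `q` even (as lists of
positive roots; the representative is the product of the `x_r(1)`). -/
def e8iReps : List (List ℕ) := [[239], [232, 233], [228, 222, 218], [226, 220, 213, 216]]

/-- The rank of `y - 1` on the adjoint module. -/
def e8iRk (y : List ℕ) : ℕ :=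
  if y = [239] then 58 else if y = [232, 233] then 92 else if y = [228, 222, 218] then 110 else 120

theorem e8i_rank_eq {y : List ℕ} (hy : y ∈ e8iReps) :
    (chevE8.wordMat F (y.map fun r => (r, (1 : F))) - 1).rank = e8iRk y := by
  simp only [e8iReps, List.mem_cons, List.not_mem_nil, or_false] at hy
  rcases hy with rfl | rfl | rfl | rfl
  · exact e8r_rank1
  · exact e8r_rank2
  · exact e8r_rank3
  · exact e8r_rank4

/-- NC: representatives that are conjugate (in `GL`) are equal. -/
theorem e8i_noconj (hX : XAdd chevE8 F) (h : GL chevE8.Idx F) {y y' : List ℕ}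
    (hy : y ∈ e8iReps) (hy' : y' ∈ e8iReps)
    (e : h * wordGL hX (y.map fun r => (r, (1 : F))) * h⁻¹ =
      wordGL hX (y'.map fun r => (r, (1 : F)))) : y = y' := by
  have h1 := chr_rank_conj h _ _ e
  rw [wordGL_val, wordGL_val, e8i_rank_eq hy, e8i_rank_eq hy'] at h1
  simp only [e8iReps, List.mem_cons, List.not_mem_nil, or_false] at hy hy'
  rcases hy with rfl | rfl | rfl | rfl <;> rcases hy' with rfl | rfl | rfl | rfl <;>
    first
    | rfl
    | (exfalso; revert h1; decide)

/-- The representatives are not the identity. -/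
theorem e8i_ne_one (hX : XAdd chevE8 F) {y : List ℕ} (hy : y ∈ e8iReps) :
    wordGL hX (y.map fun r => (r, (1 : F))) ≠ 1 := by
  intro h1
  have h2 := e8i_rank_eq (F := F) hy
  rw [← wordGL_val hX, h1, Units.val_one, sub_self, Matrix.rank_zero] at h2
  simp only [e8iReps, List.mem_cons, List.not_mem_nil, or_false] at hy
  rcases hy with rfl | rfl | rfl | rfl <;> revert h2 <;> decide

end Cfsg.Agent.Helper27
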