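import Cfsg.Agent.Helper47.J2SpecA
import Cfsg.Agent.Helper7.AutTools2

/-!
# The outer automorphism group of the Hall–Janko group on 100 points has order 2

`K0` is the permutation group of S0423 (order 604800, stabiliser chain with base `0, 1, 37, 2`).
`A` has order 7 and is self-centralising, `B` has order 6 and `B A B⁻¹ = A ^ 3`, `U` is an
involution commuting with `B`, and `A`, `B`, `U` generate `K0`.  The involution `sig` of
`Fin 100` normalises `K0`, commutes with `A` and `B`, and `sig U sig = U B ^ 3`.  An automorphism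
fixing `A` and `B` maps `U` to an involution of the centraliser of `B` outside `⟨B⟩`, that is to
`U` or to `U B ^ 3`.
-/

set_option autoImplicit false

namespace Cfsg.Agent.Helper27.J2Out

open Cfsg Cfsg.Agent.Helper57 Cfsg.Agent.S0423 Cfsg.Agent.Helper47 Cfsg.Agent.Helper7

/-- every product along the chain is an element of `K0` -/
theorem comp_mem (i : Fin 100) (i1 : Fin 36) (i2 : Fin 42) (i3 : Fin 4) :
    ∃ κ ∈ K0, ∀ x, κ x = j2sComp i i1 i2 i3 x := by
  obtain ⟨σ0, h0, e0⟩ := step0.2 i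
  obtain ⟨σ1, h1, e1⟩ := step1.2 i1
  obtain ⟨σ2, h2, e2⟩ := step2.2 i2
  obtain ⟨σ3, h3, e3⟩ := step3.2 i3
  refine ⟨σ0 * (σ1 * (σ2 * σ3)),
    K0.mul_mem h0 (K1_le (K1.mul_mem h1 (K2_le (K2.mul_mem h2 (K3_le h3))))), fun x => ?_⟩
  rw [Equiv.Perm.mul_apply, Equiv.Perm.mul_apply, Equiv.Perm.mul_apply, e3, e2, e1, e0]
  rfl

theorem pow_apply_iter {A : Equiv.Perm (Fin 100)} {f : Fin 100 → Fin 100} (h : ∀ x, A x = f x)
    (e : ℕ) (x : Fin 100) : (A ^ e) x = f^[e] x := by
  have h1 : (⇑A : Fin 100 → Fin 100) = f := funext h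
  rw [← h1, Equiv.Perm.iterate_eq_pow]

/-! ### Centralisers by enumeration along the chain -/

/-- the test points -/
def tpts : List (Fin 100) := [37, 2]

def cent1 (fS : Fin 100 → Fin 100) : List (Fin 100) :=
  (List.finRange 100).filter fun i => fS (j2U0 i 0) == j2U0 i 0

def cent2 (fS : Fin 100 → Fin 100) (i : Fin 100) : List (Fin 36) :=
  (List.finRange 36).filter fun i1 => fS (j2U0 i (j2U1 i1 1)) == j2U0 i (j2U1 i1 1)

def cent3 (fT : Fin 100 → Fin 100) (i : Fin 100) (i1 : Fin 36) : List (Fin 42 × Fin 4) :=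
  ((List.finRange 42).flatMap fun i2 => (List.finRange 4).map fun i3 => (i2, i3)).filter
    fun p => tpts.all fun x => fT (j2sComp i i1 p.1 p.2 x) == j2sComp i i1 p.1 p.2 (fT x)

/-- candidates for the elements commuting with `S` (which fixes `0` and `1`) and with `T` -/
def centL (fS fT : Fin 100 → Fin 100) : List (Fin 100 × Fin 36 × Fin 42 × Fin 4) :=
  (cent1 fS).flatMap fun i => (cent2 fS i).flatMap fun i1 =>
    (cent3 fT i i1).map fun p => (i, i1, p.1, p.2)

theorem mem_centL {S T y : Equiv.Perm (Fin 100)} (hy : y ∈ K0) {fS fT : Fin 100 → Fin 100}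
    (hS : ∀ x, S x = fS x) (hT : ∀ x, T x = fT x) (hS0 : fS 0 = 0) (hS1 : fS 1 = 1)
    (hyS : y * S = S * y) (hyT : y * T = T * y) :
    ∃ q ∈ centL fS fT, ∀ x, y x = j2sComp q.1 q.2.1 q.2.2.1 q.2.2.2 x := by
  obtain ⟨i, i1, i2, i3, hx⟩ := j2s_K0_decomp y hy
  refine ⟨(i, i1, i2, i3), ?_, hx⟩
  have cS : ∀ x, y (fS x) = fS (y x) := by
    intro x
    have h := congrArg (fun f : Equiv.Perm (Fin 100) => f x) hyS
    simp only [Equiv.Perm.mul_apply] at h
    rw [hS, hS] at h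
    exact h
  have cT : ∀ x, y (fT x) = fT (y x) := by
    intro x
    have h := congrArg (fun f : Equiv.Perm (Fin 100) => f x) hyT
    simp only [Equiv.Perm.mul_apply] at h
    rw [hT, hT] at h
    exact h
  have e0 : y 0 = j2U0 i 0 := by
    rw [hx]
    unfold j2sComp
    rw [(j2s_tab3 i3).1, (j2s_tab2 i2).1, j2s_tab1 i1]
  have e1 : y 1 = j2U0 i (j2U1 i1 1) := by
    rw [hx]
    unfold j2sComp
    rw [(j2s_tab3 i3).2.1, (j2s_tab2 i2).2]
  unfold centL
  rw [List.mem_flatMap]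
  refine ⟨i, ?_, ?_⟩
  · unfold cent1
    rw [List.mem_filter]
    refine ⟨List.mem_finRange i, ?_⟩
    rw [beq_iff_eq, ← e0, ← cS, hS0]
  · rw [List.mem_flatMap]
    refine ⟨i1, ?_, ?_⟩
    · unfold cent2
      rw [List.mem_filter]
      refine ⟨List.mem_finRange i1, ?_⟩
      rw [beq_iff_eq, ← e1, ← cS, hS1]
    · rw [List.mem_map]
      refine ⟨(i2, i3), ?_, rfl⟩
      unfold cent3
      rw [List.mem_filter]
      refine ⟨?_, ?_⟩
      · rw [List.mem_flatMap]
        exact ⟨i2, List.mem_finRange i2, List.mem_map.mpr ⟨i3, List.mem_finRange i3, rfl⟩⟩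
      · rw [List.all_eq_true]
        intro x _
        rw [beq_iff_eq, ← hx, ← hx, cT]

/-! ### The elements -/

def fA : Fin 100 → Fin 100 := j2sComp 0 0 1 0
def fB : Fin 100 → Fin 100 := j2sComp 72 20 20 2
def fU : Fin 100 → Fin 100 := j2sComp 34 16 8 3
def fB2 (x : Fin 100) : Fin 100 := fB (fB x)
def fB3 (x : Fin 100) : Fin 100 := fB (fB (fB x))

/-- the outer involution, packed -/
def sigN : ℕ := 0x92171e98de8952d05a0580be990ab3aec347494df622456228e061aa0aad572e201864495846bc7195904d65b9ad84c264f0a6a456b1d289eed0a03f80eb63710cad7f6ee4726488d41e386c5172653e0ef2c637acc001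

def sigT (x : Fin 100) : Fin 100 := Fin.ofNat 100 (j2Ent sigN x.val)

theorem sig_sq : ∀ x : Fin 100, sigT (sigT x) = x := by decide +kernel

/-- the outer involution -/
def sig : Equiv.Perm (Fin 100) := ⟨sigT, sigT, sig_sq, sig_sq⟩

theorem sig_apply (x : Fin 100) : sig x = sigT x := rfl

theorem sig_inv_apply (x : Fin 100) : sig⁻¹ x = sigT x := rfl

/-! ### Table checks -/

theorem tA7 : ∀ x : Fin 100, fA^[7] x = x := by decide +kernel
theorem tA_ne : fA 37 ≠ 37 := by decide +kernel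
theorem tA0 : fA 0 = 0 := by decide +kernel
theorem tA1 : fA 1 = 1 := by decide +kernel
theorem tBA : ∀ x : Fin 100, fB (fA x) = fA^[3] (fB x) := by decide +kernel
theorem tB20 : fB2 0 = 0 := by decide +kernel
theorem tB21 : fB2 1 = 1 := by decide +kernel
theorem tB6 : ∀ x : Fin 100, fB3 (fB3 x) = x := by decide +kernel
theorem tB3_ne : fB3 0 ≠ 0 := by decide +kernel
theorem tUB : ∀ x : Fin 100, fU (fB x) = fB (fU x) := by decide +kernel
theorem tUU : ∀ x : Fin 100, fU (fU x) = x := by decide +kernel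
theorem tU_ne : fU 0 ≠ 0 := by decide +kernel
theorem tU_ne_B3 : fU 0 ≠ fB3 0 := by decide +kernel

def listA : List (Fin 100 × Fin 36 × Fin 42 × Fin 4) := [(0, 0, 0, 0), (0, 0, 1, 0), (0, 0, 3, 0), (0, 0, 7, 0), (0, 0, 13, 0), (0, 0, 18, 0), (0, 0, 23, 0)]
def listB : List (Fin 100 × Fin 36 × Fin 42 × Fin 4) := [(0, 0, 0, 0), (0, 0, 5, 1), (0, 0, 38, 2), (34, 16, 5, 3), (34, 16, 8, 3), (34, 16, 27, 2), (72, 20, 16, 2), (72, 20, 20, 2), (72, 20, 29, 0), (89, 16, 0, 2), (89, 16, 15, 3), (89, 16, 27, 0)]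

set_option maxRecDepth 100000 in
theorem tLA : centL fA fA = listA := by decide +kernel

/-- the chain product with indices `q` -/
def cq (q : Fin 100 × Fin 36 × Fin 42 × Fin 4) (x : Fin 100) : Fin 100 :=
  j2sComp q.1 q.2.1 q.2.2.1 q.2.2.2 x

def powChk (q : Fin 100 × Fin 36 × Fin 42 × Fin 4) : Bool :=
  (List.range 7).any fun e => (List.finRange 100).all fun x => cq q x == fA^[e] x

set_option maxRecDepth 100000 in
theorem tLA_powB : listA.all powChk = true := by decide +kernel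

theorem tLA_pow : ∀ q ∈ listA, ∃ e : ℕ,
    ∀ x : Fin 100, j2sComp q.1 q.2.1 q.2.2.1 q.2.2.2 x = fA^[e] x := by
  intro q hq
  have h := List.all_eq_true.mp tLA_powB q hq
  unfold powChk at h
  rw [List.any_eq_true] at h
  obtain ⟨e, -, he⟩ := h
  rw [List.all_eq_true] at he
  exact ⟨e, fun x => by
    have := he x (List.mem_finRange x)
    rw [beq_iff_eq] at this
    exact this⟩

set_option maxRecDepth 100000 in
theorem tLA_BB : listA.all (fun q => !(fB (cq q 37) == cq q (fB 37)) ||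
    decide (q = (0, 0, 0, 0))) = true := by decide +kernel

theorem tLA_B : ∀ q ∈ listA,
    fB (j2sComp q.1 q.2.1 q.2.2.1 q.2.2.2 37) = j2sComp q.1 q.2.1 q.2.2.1 q.2.2.2 (fB 37) →
    q = (0, 0, 0, 0) := by
  intro q hq h
  have h1 := List.all_eq_true.mp tLA_BB q hq
  rw [Bool.or_eq_true] at h1
  rcases h1 with h1 | h1
  · rw [Bool.not_eq_true', beq_eq_false_iff_ne] at h1
    exact absurd h h1
  · exact of_decide_eq_true h1

set_option maxRecDepth 100000 in
theorem tLB : centL fB2 fB = listB := by decide +kernel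

set_option maxRecDepth 100000 in
theorem tLB_sqB : listB.all (fun q => !(cq q (cq q 37) == 37) ||
    decide (q ∈ ([(0, 0, 0, 0), (72, 20, 29, 0), (34, 16, 8, 3), (89, 16, 0, 2)] : List (Fin 100 × Fin 36 × Fin 42 × Fin 4)))) = true := by
  decide +kernel

theorem tLB_sq : ∀ q ∈ listB,
    j2sComp q.1 q.2.1 q.2.2.1 q.2.2.2 (j2sComp q.1 q.2.1 q.2.2.1 q.2.2.2 37) = 37 →
    q ∈ ([(0, 0, 0, 0), (72, 20, 29, 0), (34, 16, 8, 3), (89, 16, 0, 2)] : List (Fin 100 × Fin 36 × Fin 42 × Fin 4)) := by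
  intro q hq h
  have h1 := List.all_eq_true.mp tLB_sqB q hq
  rw [Bool.or_eq_true] at h1
  rcases h1 with h1 | h1
  · rw [Bool.not_eq_true', beq_eq_false_iff_ne] at h1
    exact absurd h h1
  · exact of_decide_eq_true h1

theorem t_one : ∀ x : Fin 100, j2sComp 0 0 0 0 x = x := by decide +kernel
theorem t_B3 : ∀ x : Fin 100, j2sComp 72 20 29 0 x = fB3 x := by decide +kernel
theorem t_UB3 : ∀ x : Fin 100, j2sComp 89 16 0 2 x = fU (fB3 x) := by decide +kernel

theorem tS0 : ∀ x : Fin 100, sigT (j2GT0 0 (sigT x)) = j2sComp 95 11 19 3 x := by decide +kernel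
theorem tS1 : ∀ x : Fin 100, sigT (j2GT0 1 (sigT x)) = j2sComp 69 34 2 3 x := by decide +kernel
theorem tSA : ∀ x : Fin 100, sigT (fA x) = fA (sigT x) := by decide +kernel
theorem tSB : ∀ x : Fin 100, sigT (fB x) = fB (sigT x) := by decide +kernel
theorem tSU : ∀ x : Fin 100, sigT (fU (sigT x)) = fU (fB3 x) := by decide +kernel

theorem tW0 : ∀ x : Fin 100, j2GT0 0 x = fU (fA (fB (fU (fA (fB (fA (fU (fA (fA (fA (fA (fU (fA (fA (fU (x)))))))))))))))) := by decide +kernel
theorem tW1 : ∀ x : Fin 100, j2GT0 1 x = fB (fU (fA (fU (fA (fB (fA (fU (fA (fA (fU (fA (fA (fU (fA (fU (fA (fU (fA (fB (fU (fA (x)))))))))))))))))))))) := by decide +kernel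

/-! ### The normaliser element -/

theorem sig_gen (j : Fin 2) : sig * j2G0 j * sig⁻¹ ∈ K0 := by
  have key : ∀ (c : Fin 100 × Fin 36 × Fin 42 × Fin 4),
      (∀ x : Fin 100, sigT (j2GT0 j (sigT x)) = j2sComp c.1 c.2.1 c.2.2.1 c.2.2.2 x) →
      sig * j2G0 j * sig⁻¹ ∈ K0 := by
    intro c hc
    obtain ⟨κ, hκ, hκx⟩ := comp_mem c.1 c.2.1 c.2.2.1 c.2.2.2
    have e : sig * j2G0 j * sig⁻¹ = κ := by
      apply Equiv.ext
      intro x
      rw [Equiv.Perm.mul_apply, Equiv.Perm.mul_apply, sig_inv_apply, j2_g0_apply, sig_apply, hκx]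
      exact hc x
    rw [e]
    exact hκ
  match j with
  | 0 => exact key (95, 11, 19, 3) tS0
  | 1 => exact key (69, 34, 2, 3) tS1

theorem sig_norm : ∀ g ∈ K0, sig * g * sig⁻¹ ∈ K0 := by
  have key : ∀ (g : Equiv.Perm (Fin 100)) (_ : g ∈ Subgroup.closure (Set.range j2G0)),
      sig * g * sig⁻¹ ∈ K0 := by
    intro g hg
    induction hg using Subgroup.closure_induction with
    | mem y hy =>
      obtain ⟨j, rfl⟩ := hy
      exact sig_gen j
    | one =>
      have e : sig * 1 * sig⁻¹ = 1 := by group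
      rw [e]
      exact K0.one_mem
    | mul y z _ _ ihy ihz =>
      have e : sig * (y * z) * sig⁻¹ = (sig * y * sig⁻¹) * (sig * z * sig⁻¹) := by group
      rw [e]
      exact K0.mul_mem ihy ihz
    | inv y _ ih =>
      have e : sig * y⁻¹ * sig⁻¹ = (sig * y * sig⁻¹)⁻¹ := by group
      rw [e]
      exact K0.inv_mem ih
  exact key

theorem sig_inv : sig⁻¹ = sig := Equiv.ext fun _ => rfl

theorem sig_norm' : ∀ g ∈ K0, sig⁻¹ * g * sig ∈ K0 := by
  intro g hg
  have h := sig_norm g hg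
  rw [sig_inv] at h ⊢
  exact h

/-- the order of the outer automorphism group is an isomorphism invariant -/
theorem out_card_of_equiv {G H : Type*} [Group G] [Group H] (e : G ≃* H) :
    Nat.card (Cfsg.Out G) = Nat.card (Cfsg.Out H) := by
  have hmap : (Cfsg.Inn G).map (MulAut.congr e : MulAut G →* MulAut H) = Cfsg.Inn H := by
    ext φ
    constructor
    · rintro ⟨_, ⟨g, rfl⟩, rfl⟩
      refine ⟨e g, ?_⟩
      ext y
      simp [MulAut.congr, MulAut.conj_apply]
    · rintro ⟨h, rfl⟩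
      refine ⟨MulAut.conj (e.symm h), ⟨e.symm h, rfl⟩, ?_⟩
      ext y
      simp [MulAut.congr, MulAut.conj_apply]
  have h1 : (Cfsg.Inn H).index = (Cfsg.Inn G).index := by
    rw [← hmap]
    exact Subgroup.index_map_equiv (Cfsg.Inn G) (MulAut.congr e)
  show Nat.card (MulAut G ⧸ Cfsg.Inn G) = Nat.card (MulAut H ⧸ Cfsg.Inn H)
  rw [← Subgroup.index_eq_card, ← Subgroup.index_eq_card, h1]

/-! ### The outer automorphism group -/

/-- The outer automorphism group of `K0` has order 2. -/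
theorem card_out_K0 : Nat.card (Out ↥K0) = 2 := by
  have : Fact (Nat.Prime 7) := ⟨by norm_num⟩
  have hcard : Nat.card ↥K0 = 604800 := step0.1
  have : Finite ↥K0 := Nat.finite_of_card_ne_zero (by rw [hcard]; norm_num)
  have hp2 : ¬ 7 ^ 2 ∣ Nat.card ↥K0 := by rw [hcard]; norm_num
  obtain ⟨A, hA, hAx⟩ := comp_mem 0 0 1 0
  obtain ⟨B, hB, hBx⟩ := comp_mem 72 20 20 2
  obtain ⟨U, hU, hUx⟩ := comp_mem 34 16 8 3
  have hAx' : ∀ x, A x = fA x := hAx
  have hBx' : ∀ x, B x = fB x := hBx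
  have hUx' : ∀ x, U x = fU x := hUx
  have hB3x : ∀ x, (B ^ 3) x = fB3 x := fun x => by
    rw [pow_apply_iter hBx' 3 x]
    rfl
  obtain ⟨eA, heA⟩ : ∃ eA : ↥K0, eA = ⟨A, hA⟩ := ⟨_, rfl⟩
  obtain ⟨eB, heB⟩ : ∃ eB : ↥K0, eB = ⟨B, hB⟩ := ⟨_, rfl⟩
  obtain ⟨eU, heU⟩ : ∃ eU : ↥K0, eU = ⟨U, hU⟩ := ⟨_, rfl⟩
  have cA : (eA : Equiv.Perm (Fin 100)) = A := by rw [heA]
  have cB : (eB : Equiv.Perm (Fin 100)) = B := by rw [heB]
  have cU : (eU : Equiv.Perm (Fin 100)) = U := by rw [heU]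
  -- the order of `A`
  have hA7 : eA ^ 7 = 1 := by
    apply Subtype.ext
    rw [Subgroup.coe_pow, cA]
    apply Equiv.ext
    intro x
    rw [pow_apply_iter hAx' 7 x, tA7 x]
    rfl
  have hA1 : eA ≠ 1 := by
    intro h
    have h1 : A = 1 := by rw [← cA, h]; rfl
    have h2 : A 37 = 37 := by rw [h1]; rfl
    rw [hAx'] at h2
    exact tA_ne h2
  have hordA : orderOf eA = 7 := orderOf_eq_prime hA7 hA1
  -- `B A B⁻¹ = A ^ 3`
  have hBA : eB * eA * eB⁻¹ = eA ^ 3 := by
    rw [mul_inv_eq_iff_eq_mul]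
    apply Subtype.ext
    rw [Subgroup.coe_mul, Subgroup.coe_mul, Subgroup.coe_pow, cA, cB]
    apply Equiv.ext
    intro x
    rw [Equiv.Perm.mul_apply, Equiv.Perm.mul_apply, pow_apply_iter hAx' 3, hAx', hBx', hBx']
    exact tBA x
  -- the centraliser of `A`
  have hcentL : ∀ y : ↥K0, y * eA = eA * y → ∃ q ∈ listA,
      ∀ x, (y : Equiv.Perm (Fin 100)) x = j2sComp q.1 q.2.1 q.2.2.1 q.2.2.2 x := by
    intro y hy
    have hy' : y.1 * A = A * y.1 := by
      have := congrArg Subtype.val hy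
      rw [Subgroup.coe_mul, Subgroup.coe_mul, cA] at this
      exact this
    obtain ⟨q, hq, hqx⟩ := mem_centL y.2 hAx' hAx' tA0 tA1 hy' hy'
    rw [tLA] at hq
    exact ⟨q, hq, hqx⟩
  have hcent : ∀ y : ↥K0, y * eA = eA * y → ∃ i : ℕ, y = eA ^ i := by
    intro y hy
    obtain ⟨q, hq, hqx⟩ := hcentL y hy
    obtain ⟨e, he⟩ := tLA_pow q hq
    refine ⟨e, Subtype.ext (Equiv.ext fun x => ?_)⟩
    rw [hqx, he, Subgroup.coe_pow, cA, pow_apply_iter hAx' e x]
  -- the involution `U` commutes with `B`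
  have hUB : eU * eB = eB * eU := by
    apply Subtype.ext
    rw [Subgroup.coe_mul, Subgroup.coe_mul, cU, cB]
    apply Equiv.ext
    intro x
    rw [Equiv.Perm.mul_apply, Equiv.Perm.mul_apply, hUx', hUx', hBx', hBx']
    exact tUB x
  have hUU : eU * eU = 1 := by
    apply Subtype.ext
    rw [Subgroup.coe_mul, cU]
    apply Equiv.ext
    intro x
    rw [Equiv.Perm.mul_apply, hUx', hUx']
    exact tUU x
  have hB6 : eB ^ 3 * eB ^ 3 = 1 := by
    apply Subtype.ext
    rw [Subgroup.coe_mul, Subgroup.coe_pow, cB]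
    apply Equiv.ext
    intro x
    rw [Equiv.Perm.mul_apply, hB3x, hB3x]
    exact tB6 x
  have hB3ne : eB ^ 3 ≠ 1 := by
    intro h
    have h1 : B ^ 3 = 1 := by rw [← cB, ← Subgroup.coe_pow, h]; rfl
    have h2 : (B ^ 3) 0 = 0 := by rw [h1]; rfl
    rw [hB3x] at h2
    exact tB3_ne h2
  -- the outer automorphism
  obtain ⟨τ, hτdef⟩ : ∃ τ : MulAut ↥K0, τ = conjAut K0 sig sig_norm sig_norm' := ⟨_, rfl⟩
  have hτv : ∀ x : ↥K0, ((τ x : ↥K0) : Equiv.Perm (Fin 100)) = sig * x.1 * sig⁻¹ := by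
    intro x
    rw [hτdef]
    rfl
  have hτA : τ eA = eA := by
    apply Subtype.ext
    rw [hτv, cA, mul_inv_eq_iff_eq_mul]
    apply Equiv.ext
    intro x
    rw [Equiv.Perm.mul_apply, Equiv.Perm.mul_apply, sig_apply, sig_apply, hAx', hAx']
    exact tSA x
  have hτB : τ eB = eB := by
    apply Subtype.ext
    rw [hτv, cB, mul_inv_eq_iff_eq_mul]
    apply Equiv.ext
    intro x
    rw [Equiv.Perm.mul_apply, Equiv.Perm.mul_apply, sig_apply, sig_apply, hBx', hBx']
    exact tSB x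
  have hτU : τ eU = eU * eB ^ 3 := by
    apply Subtype.ext
    rw [hτv, cU, Subgroup.coe_mul, Subgroup.coe_pow, cU, cB]
    apply Equiv.ext
    intro x
    rw [Equiv.Perm.mul_apply, Equiv.Perm.mul_apply, Equiv.Perm.mul_apply, sig_inv_apply,
      sig_apply, hUx', hUx', hB3x]
    exact tSU x
  -- generation
  have hgen : K0 ≤ Subgroup.closure ({A, B, U} : Set (Equiv.Perm (Fin 100))) := by
    have hAc : A ∈ Subgroup.closure ({A, B, U} : Set (Equiv.Perm (Fin 100))) :=
      Subgroup.subset_closure (by simp)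
    have hBc : B ∈ Subgroup.closure ({A, B, U} : Set (Equiv.Perm (Fin 100))) :=
      Subgroup.subset_closure (by simp)
    have hUc : U ∈ Subgroup.closure ({A, B, U} : Set (Equiv.Perm (Fin 100))) :=
      Subgroup.subset_closure (by simp)
    have e0 : j2G0 0 = U * A * B * U * A * B * A * U * A * A * A * A * U * A * A * U := by
      apply Equiv.ext
      intro x
      simp only [Equiv.Perm.mul_apply, hAx', hBx', hUx']
      rw [j2_g0_apply]
      exact tW0 x
    have e1 : j2G0 1 = B * U * A * U * A * B * A * U * A * A * U * A * A * U * A * U * A * U * A * B * U * A := by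
      apply Equiv.ext
      intro x
      simp only [Equiv.Perm.mul_apply, hAx', hBx', hUx']
      rw [j2_g0_apply]
      exact tW1 x
    show Subgroup.closure (Set.range j2G0) ≤ _
    rw [Subgroup.closure_le]
    rintro _ ⟨j, rfl⟩
    match j with
    | 0 =>
      rw [e0]
      exact Subgroup.mul_mem _ (Subgroup.mul_mem _ (Subgroup.mul_mem _ (Subgroup.mul_mem _ (Subgroup.mul_mem _ (Subgroup.mul_mem _ (Subgroup.mul_mem _ (Subgroup.mul_mem _ (Subgroup.mul_mem _ (Subgroup.mul_mem _ (Subgroup.mul_mem _ (Subgroup.mul_mem _ (Subgroup.mul_mem _ (Subgroup.mul_mem _ (Subgroup.mul_mem _ (hUc) hAc) hBc) hUc) hAc) hBc) hAc) hUc) hAc) hAc) hAc) hAc) hUc) hAc) hAc) hUc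
    | 1 =>
      rw [e1]
      exact Subgroup.mul_mem _ (Subgroup.mul_mem _ (Subgroup.mul_mem _ (Subgroup.mul_mem _ (Subgroup.mul_mem _ (Subgroup.mul_mem _ (Subgroup.mul_mem _ (Subgroup.mul_mem _ (Subgroup.mul_mem _ (Subgroup.mul_mem _ (Subgroup.mul_mem _ (Subgroup.mul_mem _ (Subgroup.mul_mem _ (Subgroup.mul_mem _ (Subgroup.mul_mem _ (Subgroup.mul_mem _ (Subgroup.mul_mem _ (Subgroup.mul_mem _ (Subgroup.mul_mem _ (Subgroup.mul_mem _ (Subgroup.mul_mem _ (hBc) hUc) hAc) hUc) hAc) hBc) hAc) hUc) hAc) hAc) hUc) hAc) hAc) hUc) hAc) hUc) hAc) hUc) hAc) hBc) hUc) hAc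
  have key : ∀ γ : MulAut ↥K0, γ eA = eA → γ eB = eB → γ eU = eU → γ = 1 := by
    intro γ h1 h2 h3
    apply aut_eq_one_of_closure (S := ({A, B, U} : Set (Equiv.Perm (Fin 100)))) hgen (by
      rintro g (rfl | rfl | rfl)
      exacts [hA, hB, hU])
    intro x hx
    rcases hx with rfl | rfl | rfl
    · rw [← heA]; exact h1
    · rw [← heB]; exact h2
    · rw [← heU]; exact h3
  -- candidates for the image of `U`
  have cand : ∀ γ : MulAut ↥K0, γ eB = eB → γ eU = eU ∨ γ eU = eU * eB ^ 3 := by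
    intro γ h2
    have hyB : γ eU * eB = eB * γ eU := by
      have h := congrArg γ hUB
      rw [map_mul, map_mul, h2] at h
      exact h
    have hyy : γ eU * γ eU = 1 := by
      rw [← map_mul, hUU, map_one]
    have hyB' : (γ eU).1 * B = B * (γ eU).1 := by
      have := congrArg Subtype.val hyB
      rw [Subgroup.coe_mul, Subgroup.coe_mul, cB] at this
      exact this
    have hyB2 : (γ eU).1 * (B * B) = (B * B) * (γ eU).1 := by
      rw [← mul_assoc, hyB', mul_assoc, hyB', mul_assoc]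
    have hB2x : ∀ x, (B * B) x = fB2 x := fun x => by
      rw [Equiv.Perm.mul_apply, hBx', hBx']
      rfl
    obtain ⟨q, hq, hqx⟩ := mem_centL (γ eU).2 hB2x hBx' tB20 tB21 hyB2 hyB'
    rw [tLB] at hq
    have hsq : j2sComp q.1 q.2.1 q.2.2.1 q.2.2.2 (j2sComp q.1 q.2.1 q.2.2.1 q.2.2.2 37) = 37 := by
      rw [← hqx, ← hqx, ← Equiv.Perm.mul_apply, ← Subgroup.coe_mul, hyy]
      rfl
    have hq4 := tLB_sq q hq hsq
    simp only [List.mem_cons, List.mem_nil_iff, or_false] at hq4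
    rcases hq4 with rfl | rfl | rfl | rfl
    · exfalso
      have h1 : γ eU = 1 := Subtype.ext (Equiv.ext fun x => by rw [hqx, t_one x]; rfl)
      have h3 : eU = 1 := γ.injective (h1.trans (map_one γ).symm)
      have h4 : U 0 = 0 := by rw [← cU, h3]; rfl
      rw [hUx'] at h4
      exact tU_ne h4
    · exfalso
      have h1 : γ eU = eB ^ 3 := Subtype.ext (Equiv.ext fun x => by
        rw [hqx, t_B3 x, Subgroup.coe_pow, cB, hB3x])
      have h3 : eU = eB ^ 3 := γ.injective (by rw [h1, map_pow, h2])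
      have h4 : U 0 = (B ^ 3) 0 := by rw [← cU, h3, Subgroup.coe_pow, cB]
      rw [hUx', hB3x] at h4
      exact tU_ne_B3 h4
    · left
      exact Subtype.ext (Equiv.ext fun x => by rw [hqx, cU, hUx']; rfl)
    · right
      exact Subtype.ext (Equiv.ext fun x => by
        rw [hqx, t_UB3 x, Subgroup.coe_mul, Subgroup.coe_pow, cU, cB, Equiv.Perm.mul_apply, hUx',
          hB3x])
  -- `τ` is not inner
  have hτ : τ ∉ Inn ↥K0 := by
    rintro ⟨m, hm⟩
    have hm' : ∀ x : ↥K0, m * x * m⁻¹ = τ x := fun x => by rw [← hm]; rfl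
    have hmA : m * eA = eA * m := by
      have h := hm' eA
      rw [hτA, mul_inv_eq_iff_eq_mul] at h
      exact h
    have hmB : m * eB = eB * m := by
      have h := hm' eB
      rw [hτB, mul_inv_eq_iff_eq_mul] at h
      exact h
    obtain ⟨q, hq, hqx⟩ := hcentL m hmA
    have hq0 : q = (0, 0, 0, 0) := by
      apply tLA_B q hq
      have h := congrArg (fun f : ↥K0 => (f : Equiv.Perm (Fin 100)) 37) hmB
      simp only [Subgroup.coe_mul, Equiv.Perm.mul_apply, cB] at h
      rw [← hqx, ← hqx, ← hBx', ← hBx']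
      exact h.symm
    subst hq0
    have hm1 : m = 1 := Subtype.ext (Equiv.ext fun x => by rw [hqx, t_one x]; rfl)
    have h := hm' eU
    rw [hm1, hτU, one_mul, inv_one, mul_one] at h
    have h5 : eB ^ 3 = 1 := by
      have h6 : eU * 1 = eU * eB ^ 3 := by rw [mul_one]; exact h
      exact (mul_left_cancel h6).symm
    exact hB3ne h5
  refine card_out_eq_two τ hτ (fun α => ?_)
  obtain ⟨β, hβ, ε, hε, hγA, hγB⟩ :=
    normalize_frob hp2 hordA hBA hcent [1] (by decide) (by decide) α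
  apply inn_or_of_normalized hβ
  simp only [List.mem_cons, List.mem_nil_iff, or_false] at hε
  subst hε
  rw [pow_one] at hγA
  rcases cand (β * α) hγB with h | h
  · left
    exact key _ hγA hγB h
  · right
    apply key
    · rw [MulAut.mul_apply, hγA, hτA]
    · rw [MulAut.mul_apply, hγB, hτB]
    · rw [MulAut.mul_apply, h, map_mul, map_pow, hτU, hτB, mul_assoc, hB6, mul_one]

end Cfsg.Agent.Helper27.J2Out
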