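import Mathlib
import Cfsg.Agent.Helper48.M11UGeo
import Cfsg.Agent.Helper9.OrdTools2

set_option autoImplicit false
open scoped Pointwise

namespace Cfsg.Agent.Helper27

open Cfsg.Agent.Helper48.M11U

universe u
variable {G : Type u} [Group G] [Finite G]

/-- PIECE C3C of S0420 (helper48's CALL) -/
theorem m11u_c3cyc (h : M11Raw G) (z ρ : G) (R : Sylow 3 G) (hR : Inv z R)
    (hc : ρ * z = z * ρ) (hρ : orderOf ρ = 3) : ρ • R ≠ R := by
  intro hfix
  haveI : Fact (Nat.Prime 3) := ⟨by norm_num⟩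
  have hN : ρ ∈ Subgroup.normalizer ((R : Subgroup G) : Set G) := (smul_eq_iff ρ R).mp hfix
  have hZ : IsPGroup 3 (Subgroup.zpowers ρ) :=
    IsPGroup.of_card (n := 1) (by rw [Nat.card_zpowers, hρ, pow_one])
  have hρR : ρ ∈ (R : Subgroup G) :=
    (Cfsg.Agent.Helper9.OrdTools.mem_sylow_of_mem_normalizer R hZ (Subgroup.zpowers_le.mpr hN))
      (Subgroup.mem_zpowers ρ)
  have e1 := hR ρ hρR
  have e2 : z * ρ * z⁻¹ = ρ := by
    rw [← hc]
    group
  have e3 : ρ ^ 2 = 1 := by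
    rw [pow_two]
    exact mul_eq_one_iff_eq_inv.mpr (e2.symm.trans e1)
  have e4 := orderOf_dvd_of_pow_eq_one e3
  rw [hρ] at e4
  omega

end Cfsg.Agent.Helper27
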