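import Mathlib
import Cfsg.Agent.Helper48.M11UGeo
import Cfsg.Agent.Helper9.OrdTools2

set_option autoImplicit false
open scoped Pointwise

namespace Cfsg.Agent.Helper27

open Cfsg.Agent.Helper48.M11U

universe u
variable {G : Type u} [Group G] [Finite G]

/-- PIECE CZS of S0420 (helper48's CALL) -/
theorem m11u_czstab (h : M11L1 G) (z : G) (R : Sylow 3 G) (hz : orderOf z = 2) (hR : Inv z R) :
    Nat.card ↥(Subgroup.centralizer ({z} : Set G) ⊓ MulAction.stabilizer G R) = 16 := by
  classical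
  haveI : Fact (Nat.Prime 3) := ⟨by norm_num⟩
  obtain ⟨C, hC⟩ : ∃ C : Subgroup G, C = Subgroup.centralizer ({z} : Set G) := ⟨_, rfl⟩
  rw [← hC]
  have hC48 : Nat.card C = 48 := by
    rw [hC]
    exact h.raw.invc z hz
  have hCz : ∀ g ∈ C, g * z = z * g := by
    intro g hg
    rw [hC] at hg
    exact (Subgroup.mem_centralizer_iff.mp hg z rfl).symm
  have hos : Nat.card ↥(MulAction.stabilizer ↥C R) * (MulAction.orbit ↥C R).ncard = 48 := by
    have h1 := Subgroup.card_mul_index (MulAction.stabilizer ↥C R)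
    rw [MulAction.index_stabilizer, hC48] at h1
    exact h1
  have hsub : MulAction.orbit ↥C R ⊆ {P : Sylow 3 G | Cfsg.Agent.Helper48.M11U.Inv z P} := by
    rintro P ⟨g, rfl⟩
    have e1 := inv_conj hR (g : G)
    have e2 : (g : G) * z * (g : G)⁻¹ = z := by
      rw [hCz (g : G) g.2]
      group
    rw [e2] at e1
    exact e1
  have hle : (MulAction.orbit ↥C R).ncard ≤ 3 := by
    have h1 := Set.ncard_le_ncard hsub (Set.toFinite _)
    have h2 : ({P : Sylow 3 G | Cfsg.Agent.Helper48.M11U.Inv z P} : Set (Sylow 3 G)).ncard = 3 := by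
      rw [← Nat.card_coe_set_eq]
      exact h.tri z hz
    rw [h2] at h1
    exact h1
  have hstab3 : ¬ 3 ∣ Nat.card ↥(MulAction.stabilizer ↥C R) := by
    intro h3
    obtain ⟨ρ, hρ⟩ := exists_prime_orderOf_dvd_card' 3 h3
    have hρG : orderOf ((ρ : ↥C) : G) = 3 := by
      rw [Subgroup.orderOf_coe, Subgroup.orderOf_coe]
      exact hρ
    have hfix : ((ρ : ↥C) : G) • R = R := MulAction.mem_stabilizer_iff.mp ρ.2
    exact h.c3cyc z _ R hR (hCz _ (ρ : ↥C).2) hρG hfix
  have hpos : 0 < (MulAction.orbit ↥C R).ncard := by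
    rw [Set.ncard_pos (Set.toFinite _)]
    exact MulAction.nonempty_orbit R
  have hb16 : Nat.card ↥(MulAction.stabilizer ↥C R) = 16 := by
    obtain ⟨a, ha⟩ : ∃ a : ℕ, a = (MulAction.orbit ↥C R).ncard := ⟨_, rfl⟩
    rw [← ha] at hos hle hpos
    interval_cases a <;> omega
  have heq : MulAction.stabilizer ↥C R = (MulAction.stabilizer G R).subgroupOf C := by
    ext g
    rw [MulAction.mem_stabilizer_iff, Subgroup.mem_subgroupOf, MulAction.mem_stabilizer_iff]
    rfl
  rw [heq] at hb16
  have e1 : Nat.card ↥(C ⊓ MulAction.stabilizer G R) =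
      Nat.card ↥((MulAction.stabilizer G R).subgroupOf C) := by
    rw [← Subgroup.card_subtype C ((MulAction.stabilizer G R).subgroupOf C),
      Subgroup.subgroupOf_map_subtype, inf_comm]
  rw [e1]
  exact hb16

end Cfsg.Agent.Helper27
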