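import Mathlib
import Cfsg.Agent.Helper48.M11UGeo
import Cfsg.Agent.Helper9.OrdTools2

set_option autoImplicit false
open scoped Pointwise

namespace Cfsg.Agent.Helper27

open Cfsg.Agent.Helper48.M11U

universe u
variable {G : Type u} [Group G] [Finite G]

/-- PIECE FRE of S0420 (helper48's CALL) -/
theorem m11u_free (h : M11L1 G)
    (hn0 : ∀ (z t : G) (R S : Sylow 3 G), orderOf z = 2 → orderOf t = 2 → R ≠ S → Inv z R →
      Inv z S → t • R = R → t • S = S → t = z)
    (R S : Sylow 3 G) (hRS : Adj R S) (g : G) (hgR : g • R = R) (hgS : g • S = S)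
    (r : G) (hr : r ∈ (R : Subgroup G)) (hr1 : r ≠ 1) (hc : g * r = r * g) : g = 1 := by
  classical
  haveI : Fact (Nat.Prime 3) := ⟨by norm_num⟩
  by_contra hg1
  have hgN : g ∈ Subgroup.normalizer ((R : Subgroup G) : Set G) := (smul_eq_iff g R).mp hgR
  have hord : orderOf g ∣ 144 := by
    have h1 : orderOf (⟨g, hgN⟩ : ↥(Subgroup.normalizer ((R : Subgroup G) : Set G))) ∣
        Nat.card ↥(Subgroup.normalizer ((R : Subgroup G) : Set G)) := orderOf_dvd_natCard _
    rw [h.raw.n3 R] at h1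
    have h2 : orderOf (⟨g, hgN⟩ : ↥(Subgroup.normalizer ((R : Subgroup G) : Set G))) =
        orderOf g := by
      rw [← Subgroup.orderOf_coe]
    rwa [h2] at h1
  have hord1 : orderOf g ≠ 1 := fun e => hg1 (orderOf_eq_one_iff.mp e)
  have hord0 : orderOf g ≠ 0 := by
    intro e
    rw [e] at hord
    omega
  obtain ⟨p, hp, hpd⟩ := Nat.exists_prime_and_dvd hord1
  have hp144 : p ∣ 2 ^ 4 * 3 ^ 2 := hpd.trans hord
  have hp23 : p = 2 ∨ p = 3 := by
    rcases (Nat.Prime.dvd_mul hp).mp hp144 with h1 | h1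
    · left
      exact (Nat.prime_dvd_prime_iff_eq hp Nat.prime_two).mp (hp.dvd_of_dvd_pow h1)
    · right
      exact (Nat.prime_dvd_prime_iff_eq hp (by norm_num)).mp (hp.dvd_of_dvd_pow h1)
  obtain ⟨g', hg'def⟩ : ∃ g' : G, g' = g ^ (orderOf g / p) := ⟨_, rfl⟩
  have hg'ord : orderOf g' = p := by
    rw [hg'def]
    exact orderOf_pow_orderOf_div hord0 hpd
  have hg'R : g' • R = R := by
    have h1 : g ∈ MulAction.stabilizer G R := MulAction.mem_stabilizer_iff.mpr hgR
    have h2 := pow_mem h1 (orderOf g / p)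
    rw [← hg'def] at h2
    exact MulAction.mem_stabilizer_iff.mp h2
  have hg'S : g' • S = S := by
    have h1 : g ∈ MulAction.stabilizer G S := MulAction.mem_stabilizer_iff.mpr hgS
    have h2 := pow_mem h1 (orderOf g / p)
    rw [← hg'def] at h2
    exact MulAction.mem_stabilizer_iff.mp h2
  have hg'c : g' * r = r * g' := by
    have h1 : Commute g r := hc
    rw [hg'def]
    exact (h1.pow_left _).eq
  obtain ⟨hne, z, hz, hzR, hzS⟩ := hRS
  rcases hp23 with h2 | h3
  · rw [h2] at hg'ord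
    have e1 := hn0 z g' R S hz hg'ord hne hzR hzS hg'R hg'S
    rw [e1] at hg'c
    have e2 := hzR r hr
    have e3 : z * r * z⁻¹ = r := by
      rw [hg'c]
      group
    have e4 : r * r = 1 := mul_eq_one_iff_eq_inv.mpr (e3.symm.trans e2)
    have e9 : r ^ 9 = 1 := by
      have e5 : (⟨r, hr⟩ : ↥(R : Subgroup G)) ^ Nat.card ↥(R : Subgroup G) = 1 :=
        pow_card_eq_one'
      rw [h.raw.card3 R] at e5
      have e6 := congrArg (Subtype.val : ↥(R : Subgroup G) → G) e5
      simpa using e6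
    apply hr1
    have e8 : r ^ 8 = 1 := by
      rw [show 8 = 2 * 4 from rfl, pow_mul, pow_two, e4, one_pow]
    have e10 : r ^ 9 = r ^ 8 * r := pow_succ _ 8
    rw [e9, e8, one_mul] at e10
    exact e10.symm
  · rw [h3] at hg'ord
    have hN : g' ∈ Subgroup.normalizer ((R : Subgroup G) : Set G) := (smul_eq_iff g' R).mp hg'R
    have hZ : IsPGroup 3 (Subgroup.zpowers g') :=
      IsPGroup.of_card (n := 1) (by rw [Nat.card_zpowers, hg'ord, pow_one])
    have hg'inR : g' ∈ (R : Subgroup G) :=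
      (Cfsg.Agent.Helper9.OrdTools.mem_sylow_of_mem_normalizer R hZ
        (Subgroup.zpowers_le.mpr hN)) (Subgroup.mem_zpowers g')
    have e1 := h.semireg R S g' hg'inR hg'S (fun e => hne e.symm)
    rw [e1, orderOf_one] at hg'ord
    omega

end Cfsg.Agent.Helper27
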