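import Mathlib
import Cfsg.Agent.Helper48.M11UGeo
import Cfsg.Agent.Helper9.OrdTools2

set_option autoImplicit false
open scoped Pointwise

namespace Cfsg.Agent.Helper27

open Cfsg.Agent.Helper48.M11U

universe u
variable {G : Type u} [Group G] [Finite G]

/-- PIECE ICN of S0420 (helper48's CALL) -/
theorem m11u_invcount (h : M11Raw G)
    (hex : ∀ R : Sylow 3 G, ∃ z : G, orderOf z = 2 ∧ Inv z R)
    (horb : ∀ (R : Sylow 3 G) (z w : G), orderOf z = 2 → orderOf w = 2 → Inv z R → Inv w R →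
      ∃ r ∈ (R : Subgroup G), w = r * z * r⁻¹)
    (R : Sylow 3 G) : Nat.card {z : G // orderOf z = 2 ∧ Inv z R} = 9 := by
  classical
  obtain ⟨z₀, hz₀, hinv₀⟩ := hex R
  have hwd : ∀ r : ↥(R : Subgroup G), orderOf ((r : G) * z₀ * (r : G)⁻¹) = 2 ∧
      Inv ((r : G) * z₀ * (r : G)⁻¹) R := by
    intro r
    constructor
    · have e3 := MulEquiv.orderOf_eq (MulAut.conj (r : G)) z₀
      rw [MulAut.conj_apply] at e3
      rw [e3, hz₀]
    · have e1 := inv_conj hinv₀ (r : G)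
      have e2 : (r : G) • R = R := (smul_eq_iff (r : G) R).mpr (Subgroup.le_normalizer r.2)
      rw [e2] at e1
      exact e1
  have hinj : Function.Injective (fun r : ↥(R : Subgroup G) =>
      (⟨(r : G) * z₀ * (r : G)⁻¹, hwd r⟩ : {z : G // orderOf z = 2 ∧ Inv z R})) := by
    intro r r' hrr
    have e1 : (r : G) * z₀ * (r : G)⁻¹ = (r' : G) * z₀ * (r' : G)⁻¹ :=
      congrArg Subtype.val hrr
    obtain ⟨ρ, hρdef⟩ : ∃ ρ : G, ρ = (r' : G)⁻¹ * (r : G) := ⟨_, rfl⟩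
    have hρR : ρ ∈ (R : Subgroup G) := by
      rw [hρdef]
      exact mul_mem (inv_mem r'.2) r.2
    have e2 : ρ * z₀ = z₀ * ρ := by
      rw [hρdef]
      calc (r' : G)⁻¹ * (r : G) * z₀
          = (r' : G)⁻¹ * ((r : G) * z₀ * (r : G)⁻¹) * (r : G) := by group
        _ = (r' : G)⁻¹ * ((r' : G) * z₀ * (r' : G)⁻¹) * (r : G) := by rw [e1]
        _ = z₀ * ((r' : G)⁻¹ * (r : G)) := by group
    have hcomm : z₀ * ρ * z₀⁻¹ = ρ := by
      rw [← e2]
      group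
    have hinvρ := hinv₀ ρ hρR
    have hρ2 : ρ * ρ = 1 := mul_eq_one_iff_eq_inv.mpr (hcomm.symm.trans hinvρ)
    have hρ9 : ρ ^ 9 = 1 := by
      have e3 : (⟨ρ, hρR⟩ : ↥(R : Subgroup G)) ^ Nat.card ↥(R : Subgroup G) = 1 :=
        pow_card_eq_one'
      rw [h.card3 R] at e3
      have e4 := congrArg (Subtype.val : ↥(R : Subgroup G) → G) e3
      simpa using e4
    have hρ1 : ρ = 1 := by
      have e8 : ρ ^ 8 = 1 := by
        rw [show 8 = 2 * 4 from rfl, pow_mul, pow_two, hρ2, one_pow]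
      have e9 : ρ ^ 9 = ρ ^ 8 * ρ := pow_succ _ 8
      rw [hρ9, e8, one_mul] at e9
      exact e9.symm
    rw [hρdef] at hρ1
    apply Subtype.ext
    exact (inv_mul_eq_one.mp hρ1).symm
  have hsurj : Function.Surjective (fun r : ↥(R : Subgroup G) =>
      (⟨(r : G) * z₀ * (r : G)⁻¹, hwd r⟩ : {z : G // orderOf z = 2 ∧ Inv z R})) := by
    rintro ⟨w, hw, hwR⟩
    obtain ⟨r, hr, hwr⟩ := horb R z₀ w hz₀ hw hinv₀ hwR
    exact ⟨⟨r, hr⟩, Subtype.ext hwr.symm⟩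
  rw [← Nat.card_congr (Equiv.ofBijective _ ⟨hinj, hsurj⟩)]
  exact h.card3 R

end Cfsg.Agent.Helper27
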