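import Mathlib
import Cfsg.Agent.Helper48.M11UGeo
import Cfsg.Agent.Helper9.OrdTools2

set_option autoImplicit false
open scoped Pointwise

namespace Cfsg.Agent.Helper27

open Cfsg.Agent.Helper48.M11U

universe u
variable {G : Type u} [Group G] [Finite G]

/-- PIECE N0P of S0420 (helper48's CALL) -/
theorem m11u_n0_pgroup (h : M11L1 G) (z : G) (hz : orderOf z = 2) : IsPGroup 2 ↥(n0 z) := by
  classical
  haveI : Fact (Nat.Prime 3) := ⟨by norm_num⟩
  have hle : n0 z ≤ Subgroup.centralizer ({z} : Set G) := by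
    intro g hg
    refine Subgroup.mem_centralizer_iff.mpr (fun y hy => ?_)
    rw [Set.mem_singleton_iff] at hy
    rw [hy]
    exact ((mem_n0.mp hg).1).symm
  have hd : Nat.card ↥(n0 z) ∣ 48 := by
    have h1 := Subgroup.card_dvd_of_le hle
    rwa [h.raw.invc z hz] at h1
  have h3 : ¬ 3 ∣ Nat.card ↥(n0 z) := by
    intro h3
    obtain ⟨ρ, hρ⟩ := exists_prime_orderOf_dvd_card' 3 h3
    have hρG : orderOf (ρ : G) = 3 := by rw [Subgroup.orderOf_coe]; exact hρ
    have hne : Nonempty {P : Sylow 3 G // Cfsg.Agent.Helper48.M11U.Inv z P} := by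
      have h1 := h.tri z hz
      by_contra hemp
      rw [not_nonempty_iff] at hemp
      rw [Nat.card_of_isEmpty] at h1
      omega
    obtain ⟨⟨R, hR⟩⟩ := hne
    have hρn := mem_n0.mp ρ.2
    exact h.c3cyc z (ρ : G) R hR hρn.1 hρG (hρn.2 R hR)
  have hd16 : Nat.card ↥(n0 z) ∣ 2 ^ 4 := by
    have hcop : Nat.Coprime (Nat.card ↥(n0 z)) 3 :=
      ((Nat.Prime.coprime_iff_not_dvd (by norm_num : Nat.Prime 3)).mpr h3).symm
    have h1 : Nat.card ↥(n0 z) ∣ 16 * 3 := hd
    exact hcop.dvd_of_dvd_mul_right h1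
  obtain ⟨m, -, hm⟩ := (Nat.dvd_prime_pow Nat.prime_two).mp hd16
  exact IsPGroup.of_card hm

end Cfsg.Agent.Helper27
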