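import Mathlib
import Cfsg.Agent.Helper48.M11UGeo
import Cfsg.Agent.Helper48.M11UTri
import Cfsg.Agent.Helper9.OrdTools2
import Cfsg.Agent.Helper27.M11UN0P

set_option autoImplicit false
open scoped Pointwise

namespace Cfsg.Agent.Helper27

open Cfsg.Agent.Helper48.M11U

universe u
variable {G : Type u} [Group G] [Finite G]

/-- PIECE N0R of S0420 (helper48's CALL; double of helper22's claim) -/
theorem m11u_n0_three (h : M11L1 G) (z : G) (hz : orderOf z = 2) (J : Finset G)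
    (hJ : ∀ j, j ∈ J ↔ (j ∈ n0 z ∧ orderOf j = 2 ∧ j ≠ z)) : 3 ∣ J.card := by
  classical
  haveI : Fact (Nat.Prime 3) := ⟨by norm_num⟩
  have hC48 := h.raw.invc z hz
  obtain ⟨ρ', hρ'⟩ := exists_prime_orderOf_dvd_card' 3
    (by rw [hC48]; norm_num : 3 ∣ Nat.card ↥(Subgroup.centralizer ({z} : Set G)))
  obtain ⟨ρ, hρdef⟩ : ∃ ρ : G, ρ = (ρ' : G) := ⟨_, rfl⟩
  have hρ3 : orderOf ρ = 3 := by
    rw [hρdef, Subgroup.orderOf_coe]
    exact hρ'
  have hρz : ρ * z = z * ρ := by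
    rw [hρdef]
    exact (Subgroup.mem_centralizer_iff.mp ρ'.2 z rfl).symm
  have hz1 : z ≠ 1 := by
    intro e
    rw [e, orderOf_one] at hz
    omega
  have hρ1 : ρ ≠ 1 := by
    intro e
    rw [e, orderOf_one] at hρ3
    omega
  have hconjJ : ∀ g : G, g * z = z * g → ∀ j ∈ J, g * j * g⁻¹ ∈ J := by
    intro g hg j hj
    obtain ⟨hjn, hj2, hjz⟩ := (hJ j).mp hj
    obtain ⟨hjc, hjP⟩ := mem_n0.mp hjn
    have hginv : g⁻¹ * z * g = z := by
      rw [mul_assoc, ← hg]
      group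
    rw [hJ]
    refine ⟨mem_n0.mpr ⟨?_, ?_⟩, ?_, ?_⟩
    · calc g * j * g⁻¹ * z = g * j * (g⁻¹ * z * g) * g⁻¹ := by group
        _ = g * (j * z) * g⁻¹ := by rw [hginv]; group
        _ = g * (z * j) * g⁻¹ := by rw [hjc]
        _ = (g * z) * j * g⁻¹ := by group
        _ = z * (g * j * g⁻¹) := by rw [hg]; group
    · intro P hP
      have e1 := inv_conj hP g⁻¹
      rw [inv_inv, hginv] at e1
      rw [mul_smul, mul_smul, hjP _ e1, smul_inv_smul]
    · have e3 := MulEquiv.orderOf_eq (MulAut.conj g) j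
      rw [MulAut.conj_apply] at e3
      rw [e3, hj2]
    · intro e
      apply hjz
      calc j = g⁻¹ * (g * j * g⁻¹) * g := by group
        _ = g⁻¹ * z * g := by rw [e]
        _ = z := hginv
  have hpowz : ∀ s ∈ Subgroup.zpowers ρ, s * z = z * s := by
    intro s hs
    obtain ⟨k, rfl⟩ := Subgroup.mem_zpowers_iff.mp hs
    have e1 : Commute ρ z := hρz
    exact (e1.zpow_left k).eq
  letI : MulAction ↥(Subgroup.zpowers ρ) {x // x ∈ J} :=
    { smul := fun s j => ⟨(s : G) * j * (s : G)⁻¹, hconjJ s (hpowz s s.2) j j.2⟩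
      one_smul := fun j => by
        apply Subtype.ext
        show ((1 : ↥(Subgroup.zpowers ρ)) : G) * (j : G) *
          ((1 : ↥(Subgroup.zpowers ρ)) : G)⁻¹ = j
        simp
      mul_smul := fun s t j => by
        apply Subtype.ext
        show ((s * t : ↥(Subgroup.zpowers ρ)) : G) * (j : G) *
          ((s * t : ↥(Subgroup.zpowers ρ)) : G)⁻¹ =
          (s : G) * ((t : G) * (j : G) * (t : G)⁻¹) * (s : G)⁻¹
        simp [mul_assoc] }
  have hsmul : ∀ (s : ↥(Subgroup.zpowers ρ)) (j : {x // x ∈ J}),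
      ((s • j : {x // x ∈ J}) : G) = (s : G) * (j : G) * (s : G)⁻¹ := fun _ _ => rfl
  have hZp : IsPGroup 3 ↥(Subgroup.zpowers ρ) :=
    IsPGroup.of_card (n := 1) (by rw [Nat.card_zpowers, hρ3, pow_one])
  have hmod := hZp.card_modEq_card_fixedPoints {x // x ∈ J}
  have hfix0 : IsEmpty (MulAction.fixedPoints ↥(Subgroup.zpowers ρ) {x // x ∈ J}) := by
    constructor
    rintro ⟨j, hjfix⟩
    have e1 := congrArg (Subtype.val : {x // x ∈ J} → G) (hjfix ⟨ρ, Subgroup.mem_zpowers ρ⟩)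
    rw [hsmul] at e1
    have hjρ : (j : G) * ρ = ρ * (j : G) := by
      calc (j : G) * ρ = (ρ * (j : G) * ρ⁻¹) * ρ := by rw [e1]
        _ = ρ * (j : G) := by group
    obtain ⟨hjn, hj2, hjz⟩ := (hJ j).mp j.2
    have hP := m11u_n0_pgroup h z hz
    obtain ⟨R, hR⟩ := hZp.exists_le_sylow
    have hρR : ρ ∈ (R : Subgroup G) := hR (Subgroup.mem_zpowers ρ)
    have hA2 : IsPGroup 2 ↥(n0 z ⊓ Subgroup.centralizer ({ρ} : Set G)) := hP.to_le inf_le_left
    have hAc : ∀ a ∈ n0 z ⊓ Subgroup.centralizer ({ρ} : Set G), a * ρ = ρ * a := by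
      intro a ha
      exact (Subgroup.mem_centralizer_iff.mp (Subgroup.mem_inf.mp ha).2 ρ rfl).symm
    have hle := h.coprime R ρ hρR hρ1 _ hA2 hAc
    have hzA : z ∈ n0 z ⊓ Subgroup.centralizer ({ρ} : Set G) := by
      refine Subgroup.mem_inf.mpr ⟨mem_n0.mpr ⟨rfl, fun P hP => inv_smul hP⟩, ?_⟩
      refine Subgroup.mem_centralizer_iff.mpr (fun y hy => ?_)
      rw [Set.mem_singleton_iff] at hy
      rw [hy]
      exact hρz
    have hjA : (j : G) ∈ n0 z ⊓ Subgroup.centralizer ({ρ} : Set G) := by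
      refine Subgroup.mem_inf.mpr ⟨hjn, ?_⟩
      refine Subgroup.mem_centralizer_iff.mpr (fun y hy => ?_)
      rw [Set.mem_singleton_iff] at hy
      rw [hy]
      exact hjρ.symm
    have hj1 : (j : G) ≠ 1 := by
      intro e
      rw [e, orderOf_one] at hj2
      omega
    haveI : Fintype ↥(n0 z ⊓ Subgroup.centralizer ({ρ} : Set G)) := Fintype.ofFinite _
    have h3 : 2 < Fintype.card ↥(n0 z ⊓ Subgroup.centralizer ({ρ} : Set G)) := by
      rw [Fintype.two_lt_card_iff]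
      refine ⟨1, ⟨z, hzA⟩, ⟨(j : G), hjA⟩, ?_, ?_, ?_⟩
      · intro e
        exact hz1 (congrArg Subtype.val e).symm
      · intro e
        exact hj1 (congrArg Subtype.val e).symm
      · intro e
        exact hjz (congrArg Subtype.val e).symm
    rw [Nat.card_eq_fintype_card] at hle
    omega
  have e0 : Nat.card (MulAction.fixedPoints ↥(Subgroup.zpowers ρ) {x // x ∈ J}) = 0 :=
    Nat.card_of_isEmpty
  have e1 : Nat.card {x // x ∈ J} = J.card := Nat.card_eq_finsetCard J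
  rw [e0, e1] at hmod
  exact (Nat.modEq_zero_iff_dvd).mp hmod

end Cfsg.Agent.Helper27
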