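import Mathlib
import Cfsg.Agent.Helper48.M11UGeo
import Cfsg.Agent.Helper9.OrdTools2

set_option autoImplicit false
open scoped Pointwise

namespace Cfsg.Agent.Helper27

open Cfsg.Agent.Helper48.M11U

universe u
variable {G : Type u} [Group G] [Finite G]

/-- PIECE ORB of S0420 (helper48's CALL) -/
theorem m11u_orbI (h : M11Raw G) (R : Sylow 3 G) (z w : G) (hz : orderOf z = 2)
    (hw : orderOf w = 2) (h1 : Inv z R) (h2 : Inv w R) :
    ∃ r ∈ (R : Subgroup G), w = r * z * r⁻¹ := by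
  obtain ⟨ρ, hρdef⟩ : ∃ ρ : G, ρ = w * z := ⟨_, rfl⟩
  have hρR : ρ ∈ (R : Subgroup G) := by
    apply h.cent R
    intro r hr
    have e1 := h1 r hr
    have e2 := h2 r⁻¹ (inv_mem hr)
    rw [inv_inv] at e2
    rw [hρdef]
    calc w * z * r = w * (z * r * z⁻¹) * z := by group
      _ = w * r⁻¹ * z := by rw [e1]
      _ = (w * r⁻¹ * w⁻¹) * (w * z) := by group
      _ = r * (w * z) := by rw [e2]
  have hρ9 : ρ ^ 9 = 1 := by
    have e1 : (⟨ρ, hρR⟩ : ↥(R : Subgroup G)) ^ Nat.card ↥(R : Subgroup G) = 1 :=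
      pow_card_eq_one'
    rw [h.card3 R] at e1
    have e2 := congrArg (Subtype.val : ↥(R : Subgroup G) → G) e1
    simpa using e2
  have hz2 : z * z = 1 := by
    rw [← pow_two, ← hz]
    exact pow_orderOf_eq_one z
  refine ⟨ρ ^ 5, pow_mem hρR 5, ?_⟩
  have hinv := h1 (ρ ^ 5)⁻¹ (inv_mem (pow_mem hρR 5))
  rw [inv_inv] at hinv
  have hwρ : w = ρ * z := by
    rw [hρdef, mul_assoc, hz2, mul_one]
  calc w = ρ * z := hwρ
    _ = ρ ^ 10 * z := by rw [show 10 = 9 + 1 from rfl, pow_add, hρ9, one_mul, pow_one]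
    _ = ρ ^ 5 * (z * (ρ ^ 5)⁻¹ * z⁻¹) * z := by rw [hinv, ← pow_add]
    _ = ρ ^ 5 * z * (ρ ^ 5)⁻¹ := by group

end Cfsg.Agent.Helper27
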