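import Mathlib
import Cfsg.Agent.Helper48.M11UGeo
import Cfsg.Agent.Helper9.OrdTools2

set_option autoImplicit false
open scoped Pointwise

namespace Cfsg.Agent.Helper27

open Cfsg.Agent.Helper48.M11U

universe u
variable {G : Type u} [Group G] [Finite G]

/-- PIECE RAX of S0420 (helper48's CALL) -/
theorem m11u_reflaxis (h : M11Raw G) (R : Sylow 3 G) (t : G) (ht : orderOf t = 2)
    (htR : t • R = R) (hni : ¬ Inv t R) : ∃ σ ∈ (R : Subgroup G), σ ≠ 1 ∧ t * σ = σ * t := by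
  unfold Cfsg.Agent.Helper48.M11U.Inv at hni
  push Not at hni
  obtain ⟨r, hr, hne⟩ := hni
  have hN : t ∈ Subgroup.normalizer ((R : Subgroup G) : Set G) := (smul_eq_iff t R).mp htR
  have hconj : t * r * t⁻¹ ∈ (R : Subgroup G) := (Subgroup.mem_normalizer_iff.mp hN r).mp hr
  have ht2 : t * t = 1 := by
    rw [← pow_two, ← ht]
    exact pow_orderOf_eq_one t
  have htinv : t⁻¹ = t := inv_eq_of_mul_eq_one_right ht2
  refine ⟨r * (t * r * t⁻¹), mul_mem hr hconj, ?_, ?_⟩
  · intro e1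
    apply hne
    exact eq_inv_of_mul_eq_one_right e1
  · have hcomm := h.comm3 R r hr (t * r * t⁻¹) hconj
    calc t * (r * (t * r * t⁻¹)) = (t * r * t⁻¹) * (t * t) * r * t⁻¹ := by group
      _ = (t * r * t⁻¹) * r * t⁻¹ := by rw [ht2, mul_one]
      _ = r * (t * r * t⁻¹) * t⁻¹ := by rw [← hcomm]
      _ = r * (t * r * t⁻¹) * t := by rw [htinv]

end Cfsg.Agent.Helper27
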