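import Mathlib
import Cfsg.Agent.Helper48.M11UGeo
import Cfsg.Agent.Helper9.OrdTools2

set_option autoImplicit false
open scoped Pointwise

namespace Cfsg.Agent.Helper27

open Cfsg.Agent.Helper48.M11U

universe u
variable {G : Type u} [Group G] [Finite G]

/-- PIECE SEM of S0420 (helper48's CALL) -/
theorem m11u_semireg (h : M11Raw G) (R S : Sylow 3 G) (r : G) (hr : r ∈ (R : Subgroup G))
    (hrS : r • S = S) (hne : S ≠ R) : r = 1 := by
  haveI : Fact (Nat.Prime 3) := ⟨by norm_num⟩
  by_contra hr1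
  have hN : r ∈ Subgroup.normalizer ((S : Subgroup G) : Set G) := (smul_eq_iff r S).mp hrS
  have hZ : IsPGroup 3 (Subgroup.zpowers r) := R.isPGroup'.to_le (Subgroup.zpowers_le.mpr hr)
  have hle := Cfsg.Agent.Helper9.OrdTools.mem_sylow_of_mem_normalizer S hZ
    (Subgroup.zpowers_le.mpr hN)
  have hrS' : r ∈ (S : Subgroup G) := hle (Subgroup.mem_zpowers r)
  exact hne (h.ti R S r hr hrS' hr1).symm

end Cfsg.Agent.Helper27
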