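import Mathlib
import Cfsg.Agent.Helper48.M11UGeo
import Cfsg.Agent.Helper9.OrdTools2

set_option autoImplicit false
open scoped Pointwise

namespace Cfsg.Agent.Helper27

open Cfsg.Agent.Helper48.M11U

universe u
variable {G : Type u} [Group G] [Finite G]

/-- PIECE SWP of S0420 (helper48's CALL) -/
theorem m11u_swap (h : M11L1 G)
    (hd : ∀ R S : Sylow 3 G, Adj R S →
      Nat.card ↥(MulAction.stabilizer G R ⊓ MulAction.stabilizer G S) = 8)
    (hcz : ∀ (z : G) (R : Sylow 3 G), orderOf z = 2 → Inv z R →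
      Nat.card ↥(Subgroup.centralizer ({z} : Set G) ⊓ MulAction.stabilizer G R) = 16)
    (z : G) (R S : Sylow 3 G) (hz : orderOf z = 2) (h1 : Inv z R) (h2 : Inv z S) (hne : R ≠ S) :
    ∃ g : G, g * z = z * g ∧ g • R = R ∧ g • S ≠ S := by
  by_contra hall
  push Not at hall
  have hadj : Adj R S := ⟨hne, z, hz, h1, h2⟩
  have hle : Subgroup.centralizer ({z} : Set G) ⊓ MulAction.stabilizer G R ≤
      MulAction.stabilizer G R ⊓ MulAction.stabilizer G S := by
    intro g hg
    obtain ⟨hgC, hgR⟩ := Subgroup.mem_inf.mp hg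
    have hgz : g * z = z * g := (Subgroup.mem_centralizer_iff.mp hgC z rfl).symm
    have hgR' : g • R = R := MulAction.mem_stabilizer_iff.mp hgR
    exact Subgroup.mem_inf.mpr ⟨hgR, MulAction.mem_stabilizer_iff.mpr (hall g hgz hgR')⟩
  have h3 := Subgroup.card_le_of_le hle
  rw [hcz z R hz h1, hd R S hadj] at h3
  omega

end Cfsg.Agent.Helper27
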