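import Mathlib
import Cfsg.Agent.Helper48.M11UGeo
import Cfsg.Agent.Helper9.OrdTools2

set_option autoImplicit false
open scoped Pointwise

namespace Cfsg.Agent.Helper27

open Cfsg.Agent.Helper48.M11U

universe u
variable {G : Type u} [Group G] [Finite G]

/-- PIECE TRI of S0420 (helper48's CALL) -/
theorem m11u_tri (h : M11Raw G) (h165 : Nat.card {z : G // orderOf z = 2} = 165)
    (hcnt : ∀ R : Sylow 3 G, Nat.card {z : G // orderOf z = 2 ∧ Inv z R} = 9)
    (z : G) (hz : orderOf z = 2) : Nat.card {P : Sylow 3 G // Inv z P} = 3 := by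
  classical
  haveI : Fintype G := Fintype.ofFinite G
  haveI : Fintype (Sylow 3 G) := Fintype.ofFinite _
  have hconst : ∀ w : G, orderOf w = 2 →
      Nat.card {P : Sylow 3 G // Cfsg.Agent.Helper48.M11U.Inv w P} =
      Nat.card {P : Sylow 3 G // Cfsg.Agent.Helper48.M11U.Inv z P} := by
    intro w hw
    obtain ⟨g, hg⟩ := h.conj2 z w hz hw
    symm
    apply Nat.card_congr
    refine Equiv.subtypeEquiv (MulAction.toPerm g) (fun P => ?_)
    show Cfsg.Agent.Helper48.M11U.Inv z P ↔ Cfsg.Agent.Helper48.M11U.Inv w (g • P)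
    constructor
    · intro hP
      have e1 := inv_conj hP g
      rw [hg] at e1
      exact e1
    · intro hP
      have e1 := inv_conj hP g⁻¹
      rw [inv_smul_smul, ← hg] at e1
      have e2 : g⁻¹ * (g * z * g⁻¹) * g⁻¹⁻¹ = z := by group
      rw [e2] at e1
      exact e1
  obtain ⟨c, hc⟩ : ∃ c : ℕ, c = Nat.card {P : Sylow 3 G // Cfsg.Agent.Helper48.M11U.Inv z P} :=
    ⟨_, rfl⟩
  rw [← hc]
  have hdc := Finset.sum_card_bipartiteAbove_eq_sum_card_bipartiteBelow
    (s := Finset.univ.filter (fun w : G => orderOf w = 2))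
    (t := (Finset.univ : Finset (Sylow 3 G)))
    (r := fun w P => Cfsg.Agent.Helper48.M11U.Inv w P)
  have hL : ∀ w ∈ Finset.univ.filter (fun w : G => orderOf w = 2),
      ((Finset.univ : Finset (Sylow 3 G)).bipartiteAbove
        (fun w P => Cfsg.Agent.Helper48.M11U.Inv w P) w).card = c := by
    intro w hw
    rw [Finset.mem_filter] at hw
    have e1 := hconst w hw.2
    rw [← hc, Nat.card_eq_fintype_card, Fintype.card_subtype] at e1
    rw [← e1]
    rfl
  have hR : ∀ P ∈ (Finset.univ : Finset (Sylow 3 G)),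
      ((Finset.univ.filter (fun w : G => orderOf w = 2)).bipartiteBelow
        (fun w P => Cfsg.Agent.Helper48.M11U.Inv w P) P).card = 9 := by
    intro P _
    have e1 := hcnt P
    rw [Nat.card_eq_fintype_card, Fintype.card_subtype] at e1
    rw [← e1]
    unfold Finset.bipartiteBelow
    rw [Finset.filter_filter]
  rw [Finset.sum_congr rfl hL, Finset.sum_congr rfl hR, Finset.sum_const, Finset.sum_const] at hdc
  have hs : (Finset.univ.filter (fun w : G => orderOf w = 2)).card = 165 := by
    rw [← h165, Nat.card_eq_fintype_card, Fintype.card_subtype]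
  have ht : (Finset.univ : Finset (Sylow 3 G)).card = 55 := by
    rw [Finset.card_univ, ← Nat.card_eq_fintype_card]
    exact h.num3
  rw [hs, ht, smul_eq_mul, smul_eq_mul] at hdc
  omega

end Cfsg.Agent.Helper27
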