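import Mathlib
import Cfsg.Agent.Helper48.M11UGeo
import Cfsg.Agent.Helper9.OrdTools2

set_option autoImplicit false
open scoped Pointwise

namespace Cfsg.Agent.Helper27

open Cfsg.Agent.Helper48.M11U

universe u
variable {G : Type u} [Group G] [Finite G]

/-- PIECE UNI of S0420 (helper48's CALL) -/
theorem m11u_uniq (h : M11Raw G) (z w : G) (R S : Sylow 3 G) (hz : orderOf z = 2)
    (hw : orderOf w = 2) (hne : R ≠ S) (h1 : Inv z R) (h2 : Inv z S) (h3 : Inv w R)
    (h4 : Inv w S) : z = w := by
  have hcR : ∀ T : Sylow 3 G, Inv z T → Inv w T → z * w ∈ (T : Subgroup G) := by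
    intro T hzT hwT
    apply h.cent T
    intro r hr
    have e1 := hwT r hr
    have e2 := hzT r⁻¹ (inv_mem hr)
    rw [inv_inv] at e2
    calc z * w * r = z * (w * r * w⁻¹) * w := by group
      _ = z * r⁻¹ * w := by rw [e1]
      _ = (z * r⁻¹ * z⁻¹) * (z * w) := by group
      _ = r * (z * w) := by rw [e2]
  have hzw : z * w = 1 := by
    by_contra hne1
    exact hne (h.ti R S (z * w) (hcR R h1 h3) (hcR S h2 h4) hne1)
  have hz2 : z * z = 1 := by
    rw [← pow_two, ← hz]
    exact pow_orderOf_eq_one z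
  have h5 : z * w = z * z := by rw [hzw, hz2]
  exact (mul_left_cancel h5).symm

end Cfsg.Agent.Helper27
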