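import Mathlib
import Cfsg.Agent.Helper48.M11UGeo
import Cfsg.Agent.Helper9.OrdTools2

set_option autoImplicit false
open scoped Pointwise

namespace Cfsg.Agent.Helper27

open Cfsg.Agent.Helper48.M11U

universe u
variable {G : Type u} [Group G] [Finite G]

/-- PIECE VAL of S0420 (helper48's CALL) -/
theorem m11u_valency (h : M11Geo G) (R : Sylow 3 G) :
    Nat.card {U : Sylow 3 G // Adj R U} = 18 := by
  classical
  haveI : Fintype G := Fintype.ofFinite G
  haveI : Fintype (Sylow 3 G) := Fintype.ofFinite _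
  obtain ⟨I, hI⟩ : ∃ I : Finset G, I = Finset.univ.filter
      (fun w : G => orderOf w = 2 ∧ Cfsg.Agent.Helper48.M11U.Inv w R) := ⟨_, rfl⟩
  have hImem : ∀ w, w ∈ I ↔ orderOf w = 2 ∧ Cfsg.Agent.Helper48.M11U.Inv w R := by
    intro w
    rw [hI, Finset.mem_filter]
    simp
  have hI9 : I.card = 9 := by
    have e1 := h.l1.invcount R
    rw [Nat.card_eq_fintype_card, Fintype.card_subtype] at e1
    rw [hI]
    exact e1
  have hN2 : ∀ w ∈ I, (Finset.univ.filter
      (fun U : Sylow 3 G => U ≠ R ∧ Cfsg.Agent.Helper48.M11U.Inv w U)).card = 2 := by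
    intro w hw
    obtain ⟨hw2, hwR⟩ := (hImem w).mp hw
    have e3 := h.l1.tri w hw2
    rw [Nat.card_eq_fintype_card, Fintype.card_subtype] at e3
    have heq : Finset.univ.filter
        (fun U : Sylow 3 G => U ≠ R ∧ Cfsg.Agent.Helper48.M11U.Inv w U) =
        (Finset.univ.filter
          (fun U : Sylow 3 G => Cfsg.Agent.Helper48.M11U.Inv w U)).erase R := by
      ext U
      simp [Finset.mem_erase, Finset.mem_filter]
    rw [heq, Finset.card_erase_of_mem (by simp [hwR]), e3]
  have hNb : Finset.univ.filter (fun U : Sylow 3 G => Adj R U) =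
      I.biUnion (fun w => Finset.univ.filter
        (fun U : Sylow 3 G => U ≠ R ∧ Cfsg.Agent.Helper48.M11U.Inv w U)) := by
    ext U
    simp only [Finset.mem_filter, Finset.mem_univ, true_and, Finset.mem_biUnion, hImem]
    constructor
    · rintro ⟨hne, w, hw, hwR, hwU⟩
      exact ⟨w, ⟨hw, hwR⟩, fun e => hne e.symm, hwU⟩
    · rintro ⟨w, ⟨hw, hwR⟩, hne, hwU⟩
      exact ⟨fun e => hne e.symm, w, hw, hwR, hwU⟩
  rw [Nat.card_eq_fintype_card, Fintype.card_subtype, hNb, Finset.card_biUnion]
  · rw [Finset.sum_congr rfl hN2, Finset.sum_const, hI9]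
    rfl
  · intro w hw w' hw' hne
    rw [Function.onFun, Finset.disjoint_left]
    intro U hU hU'
    simp only [Finset.mem_filter, Finset.mem_univ, true_and] at hU hU'
    have hw1 := (hImem w).mp hw
    have hw1' := (hImem w').mp hw'
    apply hne
    exact h.l1.uniq w w' R U hw1.1 hw1'.1 (fun e => hU.1 e.symm) hw1.2 hU.2 hw1'.2 hU'.2

end Cfsg.Agent.Helper27
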