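import Mathlib

/-!
# The arithmetic sieve for simple groups of order at most 1092 (helper27)

Every `n ≤ 1092` is one of the six orders `60, 168, 360, 504, 660, 1092`, one of eighteen orders
treated separately, or it is of the form `p ^ i * q ^ j` (Burnside), has a prime divisor `p` with
`n < p ^ 3` (Brauer-Reynolds), is even and not divisible by `12`, `16`, `56`, or is of the form
`p ^ 2 * q * r`.  (Generated case list.)
-/

set_option autoImplicit false

namespace Cfsg.Agent.Helper27.O1092

/-- The outcome of the sieve. -/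
def SieveOut (n : ℕ) : Prop :=
  (n = 60 ∨ n = 168 ∨ n = 360 ∨ n = 504 ∨ n = 660 ∨ n = 1092) ∨
  (n = 180 ∨ n = 240 ∨ n = 300 ∨ n = 420 ∨ n = 480 ∨ n = 540 ∨ n = 560 ∨ n = 588 ∨ n = 600 ∨ n = 672 ∨ n = 720 ∨ n = 756 ∨ n = 840 ∨ n = 900 ∨ n = 945 ∨ n = 960 ∨ n = 1008 ∨ n = 1080) ∨
  (∃ a b i j : ℕ, a.Prime ∧ b.Prime ∧ n = a ^ i * b ^ j) ∨
  (∃ p : ℕ, p.Prime ∧ p ∣ n ∧ n < p ^ 3) ∨
  (n % 2 = 0 ∧ n % 12 ≠ 0 ∧ n % 16 ≠ 0 ∧ n % 56 ≠ 0) ∨
  (∃ p q r : ℕ, p.Prime ∧ q.Prime ∧ r.Prime ∧ n = p ^ 2 * q * r)

theorem so_good {n : ℕ} (h : n = 60 ∨ n = 168 ∨ n = 360 ∨ n = 504 ∨ n = 660 ∨ n = 1092) :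
    SieveOut n := Or.inl h

theorem so_hard {n : ℕ} (h : n = 180 ∨ n = 240 ∨ n = 300 ∨ n = 420 ∨ n = 480 ∨ n = 540 ∨ n = 560 ∨ n = 588 ∨ n = 600 ∨ n = 672 ∨ n = 720 ∨ n = 756 ∨ n = 840 ∨ n = 900 ∨ n = 945 ∨ n = 960 ∨ n = 1008 ∨ n = 1080) :
    SieveOut n := Or.inr (Or.inl h)

theorem so_t1 {n : ℕ} (a b i j : ℕ) (ha : a.Prime) (hb : b.Prime) (h : n = a ^ i * b ^ j) :
    SieveOut n := Or.inr (Or.inr (Or.inl ⟨a, b, i, j, ha, hb, h⟩))

theorem so_t2 {n : ℕ} (p : ℕ) (hp : p.Prime) (hd : p ∣ n) (hlt : n < p ^ 3) :
    SieveOut n := Or.inr (Or.inr (Or.inr (Or.inl ⟨p, hp, hd, hlt⟩)))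

theorem so_t3 {n : ℕ} (h : n % 2 = 0 ∧ n % 12 ≠ 0 ∧ n % 16 ≠ 0 ∧ n % 56 ≠ 0) :
    SieveOut n := Or.inr (Or.inr (Or.inr (Or.inr (Or.inl h))))

theorem so_t4 {n : ℕ} (p q r : ℕ) (hp : p.Prime) (hq : q.Prime) (hr : r.Prime)
    (h : n = p ^ 2 * q * r) :
    SieveOut n := Or.inr (Or.inr (Or.inr (Or.inr (Or.inr ⟨p, q, r, hp, hq, hr, h⟩))))

theorem sv_1 (n : ℕ) (h1 : 1 ≤ n) (h2 : n ≤ 42) : SieveOut n := by
  interval_cases n
  · exact so_t1 2 2 0 0 (by norm_num) (by norm_num) (by norm_num)
  · exact so_t1 2 2 1 0 (by norm_num) (by norm_num) (by norm_num)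
  · exact so_t1 3 2 1 0 (by norm_num) (by norm_num) (by norm_num)
  · exact so_t1 2 2 2 0 (by norm_num) (by norm_num) (by norm_num)
  · exact so_t1 5 2 1 0 (by norm_num) (by norm_num) (by norm_num)
  · exact so_t1 2 3 1 1 (by norm_num) (by norm_num) (by norm_num)
  · exact so_t1 7 2 1 0 (by norm_num) (by norm_num) (by norm_num)
  · exact so_t1 2 2 3 0 (by norm_num) (by norm_num) (by norm_num)
  · exact so_t1 3 2 2 0 (by norm_num) (by norm_num) (by norm_num)
  · exact so_t1 2 5 1 1 (by norm_num) (by norm_num) (by norm_num)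
  · exact so_t1 11 2 1 0 (by norm_num) (by norm_num) (by norm_num)
  · exact so_t1 2 3 2 1 (by norm_num) (by norm_num) (by norm_num)
  · exact so_t1 13 2 1 0 (by norm_num) (by norm_num) (by norm_num)
  · exact so_t1 2 7 1 1 (by norm_num) (by norm_num) (by norm_num)
  · exact so_t1 3 5 1 1 (by norm_num) (by norm_num) (by norm_num)
  · exact so_t1 2 2 4 0 (by norm_num) (by norm_num) (by norm_num)
  · exact so_t1 17 2 1 0 (by norm_num) (by norm_num) (by norm_num)
  · exact so_t1 2 3 1 2 (by norm_num) (by norm_num) (by norm_num)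
  · exact so_t1 19 2 1 0 (by norm_num) (by norm_num) (by norm_num)
  · exact so_t1 2 5 2 1 (by norm_num) (by norm_num) (by norm_num)
  · exact so_t1 3 7 1 1 (by norm_num) (by norm_num) (by norm_num)
  · exact so_t1 2 11 1 1 (by norm_num) (by norm_num) (by norm_num)
  · exact so_t1 23 2 1 0 (by norm_num) (by norm_num) (by norm_num)
  · exact so_t1 2 3 3 1 (by norm_num) (by norm_num) (by norm_num)
  · exact so_t1 5 2 2 0 (by norm_num) (by norm_num) (by norm_num)
  · exact so_t1 2 13 1 1 (by norm_num) (by norm_num) (by norm_num)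
  · exact so_t1 3 2 3 0 (by norm_num) (by norm_num) (by norm_num)
  · exact so_t1 2 7 2 1 (by norm_num) (by norm_num) (by norm_num)
  · exact so_t1 29 2 1 0 (by norm_num) (by norm_num) (by norm_num)
  · exact so_t2 5 (by norm_num) (by norm_num) (by norm_num)
  · exact so_t1 31 2 1 0 (by norm_num) (by norm_num) (by norm_num)
  · exact so_t1 2 2 5 0 (by norm_num) (by norm_num) (by norm_num)
  · exact so_t1 3 11 1 1 (by norm_num) (by norm_num) (by norm_num)
  · exact so_t1 2 17 1 1 (by norm_num) (by norm_num) (by norm_num)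
  · exact so_t1 5 7 1 1 (by norm_num) (by norm_num) (by norm_num)
  · exact so_t1 2 3 2 2 (by norm_num) (by norm_num) (by norm_num)
  · exact so_t1 37 2 1 0 (by norm_num) (by norm_num) (by norm_num)
  · exact so_t1 2 19 1 1 (by norm_num) (by norm_num) (by norm_num)
  · exact so_t1 3 13 1 1 (by norm_num) (by norm_num) (by norm_num)
  · exact so_t1 2 5 3 1 (by norm_num) (by norm_num) (by norm_num)
  · exact so_t1 41 2 1 0 (by norm_num) (by norm_num) (by norm_num)
  · exact so_t2 7 (by norm_num) (by norm_num) (by norm_num)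

theorem sv_2 (n : ℕ) (h1 : 43 ≤ n) (h2 : n ≤ 84) : SieveOut n := by
  interval_cases n
  · exact so_t1 43 2 1 0 (by norm_num) (by norm_num) (by norm_num)
  · exact so_t1 2 11 2 1 (by norm_num) (by norm_num) (by norm_num)
  · exact so_t1 3 5 2 1 (by norm_num) (by norm_num) (by norm_num)
  · exact so_t1 2 23 1 1 (by norm_num) (by norm_num) (by norm_num)
  · exact so_t1 47 2 1 0 (by norm_num) (by norm_num) (by norm_num)
  · exact so_t1 2 3 4 1 (by norm_num) (by norm_num) (by norm_num)
  · exact so_t1 7 2 2 0 (by norm_num) (by norm_num) (by norm_num)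
  · exact so_t1 2 5 1 2 (by norm_num) (by norm_num) (by norm_num)
  · exact so_t1 3 17 1 1 (by norm_num) (by norm_num) (by norm_num)
  · exact so_t1 2 13 2 1 (by norm_num) (by norm_num) (by norm_num)
  · exact so_t1 53 2 1 0 (by norm_num) (by norm_num) (by norm_num)
  · exact so_t1 2 3 1 3 (by norm_num) (by norm_num) (by norm_num)
  · exact so_t1 5 11 1 1 (by norm_num) (by norm_num) (by norm_num)
  · exact so_t1 2 7 3 1 (by norm_num) (by norm_num) (by norm_num)
  · exact so_t1 3 19 1 1 (by norm_num) (by norm_num) (by norm_num)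
  · exact so_t1 2 29 1 1 (by norm_num) (by norm_num) (by norm_num)
  · exact so_t1 59 2 1 0 (by norm_num) (by norm_num) (by norm_num)
  · exact so_good (by decide)
  · exact so_t1 61 2 1 0 (by norm_num) (by norm_num) (by norm_num)
  · exact so_t1 2 31 1 1 (by norm_num) (by norm_num) (by norm_num)
  · exact so_t1 3 7 2 1 (by norm_num) (by norm_num) (by norm_num)
  · exact so_t1 2 2 6 0 (by norm_num) (by norm_num) (by norm_num)
  · exact so_t1 5 13 1 1 (by norm_num) (by norm_num) (by norm_num)
  · exact so_t2 11 (by norm_num) (by norm_num) (by norm_num)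
  · exact so_t1 67 2 1 0 (by norm_num) (by norm_num) (by norm_num)
  · exact so_t1 2 17 2 1 (by norm_num) (by norm_num) (by norm_num)
  · exact so_t1 3 23 1 1 (by norm_num) (by norm_num) (by norm_num)
  · exact so_t2 5 (by norm_num) (by norm_num) (by norm_num)
  · exact so_t1 71 2 1 0 (by norm_num) (by norm_num) (by norm_num)
  · exact so_t1 2 3 3 2 (by norm_num) (by norm_num) (by norm_num)
  · exact so_t1 73 2 1 0 (by norm_num) (by norm_num) (by norm_num)
  · exact so_t1 2 37 1 1 (by norm_num) (by norm_num) (by norm_num)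
  · exact so_t1 3 5 1 2 (by norm_num) (by norm_num) (by norm_num)
  · exact so_t1 2 19 2 1 (by norm_num) (by norm_num) (by norm_num)
  · exact so_t1 7 11 1 1 (by norm_num) (by norm_num) (by norm_num)
  · exact so_t2 13 (by norm_num) (by norm_num) (by norm_num)
  · exact so_t1 79 2 1 0 (by norm_num) (by norm_num) (by norm_num)
  · exact so_t1 2 5 4 1 (by norm_num) (by norm_num) (by norm_num)
  · exact so_t1 3 2 4 0 (by norm_num) (by norm_num) (by norm_num)
  · exact so_t1 2 41 1 1 (by norm_num) (by norm_num) (by norm_num)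
  · exact so_t1 83 2 1 0 (by norm_num) (by norm_num) (by norm_num)
  · exact so_t2 7 (by norm_num) (by norm_num) (by norm_num)

theorem sv_3 (n : ℕ) (h1 : 85 ≤ n) (h2 : n ≤ 126) : SieveOut n := by
  interval_cases n
  · exact so_t1 5 17 1 1 (by norm_num) (by norm_num) (by norm_num)
  · exact so_t1 2 43 1 1 (by norm_num) (by norm_num) (by norm_num)
  · exact so_t1 3 29 1 1 (by norm_num) (by norm_num) (by norm_num)
  · exact so_t1 2 11 3 1 (by norm_num) (by norm_num) (by norm_num)
  · exact so_t1 89 2 1 0 (by norm_num) (by norm_num) (by norm_num)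
  · exact so_t2 5 (by norm_num) (by norm_num) (by norm_num)
  · exact so_t1 7 13 1 1 (by norm_num) (by norm_num) (by norm_num)
  · exact so_t1 2 23 2 1 (by norm_num) (by norm_num) (by norm_num)
  · exact so_t1 3 31 1 1 (by norm_num) (by norm_num) (by norm_num)
  · exact so_t1 2 47 1 1 (by norm_num) (by norm_num) (by norm_num)
  · exact so_t1 5 19 1 1 (by norm_num) (by norm_num) (by norm_num)
  · exact so_t1 2 3 5 1 (by norm_num) (by norm_num) (by norm_num)
  · exact so_t1 97 2 1 0 (by norm_num) (by norm_num) (by norm_num)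
  · exact so_t1 2 7 1 2 (by norm_num) (by norm_num) (by norm_num)
  · exact so_t1 3 11 2 1 (by norm_num) (by norm_num) (by norm_num)
  · exact so_t1 2 5 2 2 (by norm_num) (by norm_num) (by norm_num)
  · exact so_t1 101 2 1 0 (by norm_num) (by norm_num) (by norm_num)
  · exact so_t2 17 (by norm_num) (by norm_num) (by norm_num)
  · exact so_t1 103 2 1 0 (by norm_num) (by norm_num) (by norm_num)
  · exact so_t1 2 13 3 1 (by norm_num) (by norm_num) (by norm_num)
  · exact so_t2 5 (by norm_num) (by norm_num) (by norm_num)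
  · exact so_t1 2 53 1 1 (by norm_num) (by norm_num) (by norm_num)
  · exact so_t1 107 2 1 0 (by norm_num) (by norm_num) (by norm_num)
  · exact so_t1 2 3 2 3 (by norm_num) (by norm_num) (by norm_num)
  · exact so_t1 109 2 1 0 (by norm_num) (by norm_num) (by norm_num)
  · exact so_t2 5 (by norm_num) (by norm_num) (by norm_num)
  · exact so_t1 3 37 1 1 (by norm_num) (by norm_num) (by norm_num)
  · exact so_t1 2 7 4 1 (by norm_num) (by norm_num) (by norm_num)
  · exact so_t1 113 2 1 0 (by norm_num) (by norm_num) (by norm_num)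
  · exact so_t2 19 (by norm_num) (by norm_num) (by norm_num)
  · exact so_t1 5 23 1 1 (by norm_num) (by norm_num) (by norm_num)
  · exact so_t1 2 29 2 1 (by norm_num) (by norm_num) (by norm_num)
  · exact so_t1 3 13 2 1 (by norm_num) (by norm_num) (by norm_num)
  · exact so_t1 2 59 1 1 (by norm_num) (by norm_num) (by norm_num)
  · exact so_t1 7 17 1 1 (by norm_num) (by norm_num) (by norm_num)
  · exact so_t2 5 (by norm_num) (by norm_num) (by norm_num)
  · exact so_t1 11 2 2 0 (by norm_num) (by norm_num) (by norm_num)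
  · exact so_t1 2 61 1 1 (by norm_num) (by norm_num) (by norm_num)
  · exact so_t1 3 41 1 1 (by norm_num) (by norm_num) (by norm_num)
  · exact so_t1 2 31 2 1 (by norm_num) (by norm_num) (by norm_num)
  · exact so_t1 5 2 3 0 (by norm_num) (by norm_num) (by norm_num)
  · exact so_t2 7 (by norm_num) (by norm_num) (by norm_num)

theorem sv_4 (n : ℕ) (h1 : 127 ≤ n) (h2 : n ≤ 168) : SieveOut n := by
  interval_cases n
  · exact so_t1 127 2 1 0 (by norm_num) (by norm_num) (by norm_num)
  · exact so_t1 2 2 7 0 (by norm_num) (by norm_num) (by norm_num)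
  · exact so_t1 3 43 1 1 (by norm_num) (by norm_num) (by norm_num)
  · exact so_t2 13 (by norm_num) (by norm_num) (by norm_num)
  · exact so_t1 131 2 1 0 (by norm_num) (by norm_num) (by norm_num)
  · exact so_t2 11 (by norm_num) (by norm_num) (by norm_num)
  · exact so_t1 7 19 1 1 (by norm_num) (by norm_num) (by norm_num)
  · exact so_t1 2 67 1 1 (by norm_num) (by norm_num) (by norm_num)
  · exact so_t1 3 5 3 1 (by norm_num) (by norm_num) (by norm_num)
  · exact so_t1 2 17 3 1 (by norm_num) (by norm_num) (by norm_num)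
  · exact so_t1 137 2 1 0 (by norm_num) (by norm_num) (by norm_num)
  · exact so_t2 23 (by norm_num) (by norm_num) (by norm_num)
  · exact so_t1 139 2 1 0 (by norm_num) (by norm_num) (by norm_num)
  · exact so_t2 7 (by norm_num) (by norm_num) (by norm_num)
  · exact so_t1 3 47 1 1 (by norm_num) (by norm_num) (by norm_num)
  · exact so_t1 2 71 1 1 (by norm_num) (by norm_num) (by norm_num)
  · exact so_t1 11 13 1 1 (by norm_num) (by norm_num) (by norm_num)
  · exact so_t1 2 3 4 2 (by norm_num) (by norm_num) (by norm_num)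
  · exact so_t1 5 29 1 1 (by norm_num) (by norm_num) (by norm_num)
  · exact so_t1 2 73 1 1 (by norm_num) (by norm_num) (by norm_num)
  · exact so_t1 3 7 1 2 (by norm_num) (by norm_num) (by norm_num)
  · exact so_t1 2 37 2 1 (by norm_num) (by norm_num) (by norm_num)
  · exact so_t1 149 2 1 0 (by norm_num) (by norm_num) (by norm_num)
  · exact so_t3 (by decide)
  · exact so_t1 151 2 1 0 (by norm_num) (by norm_num) (by norm_num)
  · exact so_t1 2 19 3 1 (by norm_num) (by norm_num) (by norm_num)
  · exact so_t1 3 17 2 1 (by norm_num) (by norm_num) (by norm_num)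
  · exact so_t2 7 (by norm_num) (by norm_num) (by norm_num)
  · exact so_t1 5 31 1 1 (by norm_num) (by norm_num) (by norm_num)
  · exact so_t2 13 (by norm_num) (by norm_num) (by norm_num)
  · exact so_t1 157 2 1 0 (by norm_num) (by norm_num) (by norm_num)
  · exact so_t1 2 79 1 1 (by norm_num) (by norm_num) (by norm_num)
  · exact so_t1 3 53 1 1 (by norm_num) (by norm_num) (by norm_num)
  · exact so_t1 2 5 5 1 (by norm_num) (by norm_num) (by norm_num)
  · exact so_t1 7 23 1 1 (by norm_num) (by norm_num) (by norm_num)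
  · exact so_t1 2 3 1 4 (by norm_num) (by norm_num) (by norm_num)
  · exact so_t1 163 2 1 0 (by norm_num) (by norm_num) (by norm_num)
  · exact so_t1 2 41 2 1 (by norm_num) (by norm_num) (by norm_num)
  · exact so_t2 11 (by norm_num) (by norm_num) (by norm_num)
  · exact so_t1 2 83 1 1 (by norm_num) (by norm_num) (by norm_num)
  · exact so_t1 167 2 1 0 (by norm_num) (by norm_num) (by norm_num)
  · exact so_good (by decide)

theorem sv_5 (n : ℕ) (h1 : 169 ≤ n) (h2 : n ≤ 210) : SieveOut n := by
  interval_cases n
  · exact so_t1 13 2 2 0 (by norm_num) (by norm_num) (by norm_num)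
  · exact so_t2 17 (by norm_num) (by norm_num) (by norm_num)
  · exact so_t1 3 19 2 1 (by norm_num) (by norm_num) (by norm_num)
  · exact so_t1 2 43 2 1 (by norm_num) (by norm_num) (by norm_num)
  · exact so_t1 173 2 1 0 (by norm_num) (by norm_num) (by norm_num)
  · exact so_t2 29 (by norm_num) (by norm_num) (by norm_num)
  · exact so_t1 5 7 2 1 (by norm_num) (by norm_num) (by norm_num)
  · exact so_t1 2 11 4 1 (by norm_num) (by norm_num) (by norm_num)
  · exact so_t1 3 59 1 1 (by norm_num) (by norm_num) (by norm_num)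
  · exact so_t1 2 89 1 1 (by norm_num) (by norm_num) (by norm_num)
  · exact so_t1 179 2 1 0 (by norm_num) (by norm_num) (by norm_num)
  · exact so_hard (by decide)
  · exact so_t1 181 2 1 0 (by norm_num) (by norm_num) (by norm_num)
  · exact so_t2 7 (by norm_num) (by norm_num) (by norm_num)
  · exact so_t1 3 61 1 1 (by norm_num) (by norm_num) (by norm_num)
  · exact so_t1 2 23 3 1 (by norm_num) (by norm_num) (by norm_num)
  · exact so_t1 5 37 1 1 (by norm_num) (by norm_num) (by norm_num)
  · exact so_t2 31 (by norm_num) (by norm_num) (by norm_num)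
  · exact so_t1 11 17 1 1 (by norm_num) (by norm_num) (by norm_num)
  · exact so_t1 2 47 2 1 (by norm_num) (by norm_num) (by norm_num)
  · exact so_t1 3 7 3 1 (by norm_num) (by norm_num) (by norm_num)
  · exact so_t2 19 (by norm_num) (by norm_num) (by norm_num)
  · exact so_t1 191 2 1 0 (by norm_num) (by norm_num) (by norm_num)
  · exact so_t1 2 3 6 1 (by norm_num) (by norm_num) (by norm_num)
  · exact so_t1 193 2 1 0 (by norm_num) (by norm_num) (by norm_num)
  · exact so_t1 2 97 1 1 (by norm_num) (by norm_num) (by norm_num)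
  · exact so_t2 13 (by norm_num) (by norm_num) (by norm_num)
  · exact so_t1 2 7 2 2 (by norm_num) (by norm_num) (by norm_num)
  · exact so_t1 197 2 1 0 (by norm_num) (by norm_num) (by norm_num)
  · exact so_t2 11 (by norm_num) (by norm_num) (by norm_num)
  · exact so_t1 199 2 1 0 (by norm_num) (by norm_num) (by norm_num)
  · exact so_t1 2 5 3 2 (by norm_num) (by norm_num) (by norm_num)
  · exact so_t1 3 67 1 1 (by norm_num) (by norm_num) (by norm_num)
  · exact so_t1 2 101 1 1 (by norm_num) (by norm_num) (by norm_num)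
  · exact so_t1 7 29 1 1 (by norm_num) (by norm_num) (by norm_num)
  · exact so_t2 17 (by norm_num) (by norm_num) (by norm_num)
  · exact so_t1 5 41 1 1 (by norm_num) (by norm_num) (by norm_num)
  · exact so_t1 2 103 1 1 (by norm_num) (by norm_num) (by norm_num)
  · exact so_t1 3 23 2 1 (by norm_num) (by norm_num) (by norm_num)
  · exact so_t1 2 13 4 1 (by norm_num) (by norm_num) (by norm_num)
  · exact so_t1 11 19 1 1 (by norm_num) (by norm_num) (by norm_num)
  · exact so_t2 7 (by norm_num) (by norm_num) (by norm_num)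

theorem sv_6 (n : ℕ) (h1 : 211 ≤ n) (h2 : n ≤ 252) : SieveOut n := by
  interval_cases n
  · exact so_t1 211 2 1 0 (by norm_num) (by norm_num) (by norm_num)
  · exact so_t1 2 53 2 1 (by norm_num) (by norm_num) (by norm_num)
  · exact so_t1 3 71 1 1 (by norm_num) (by norm_num) (by norm_num)
  · exact so_t1 2 107 1 1 (by norm_num) (by norm_num) (by norm_num)
  · exact so_t1 5 43 1 1 (by norm_num) (by norm_num) (by norm_num)
  · exact so_t1 2 3 3 3 (by norm_num) (by norm_num) (by norm_num)
  · exact so_t1 7 31 1 1 (by norm_num) (by norm_num) (by norm_num)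
  · exact so_t1 2 109 1 1 (by norm_num) (by norm_num) (by norm_num)
  · exact so_t1 3 73 1 1 (by norm_num) (by norm_num) (by norm_num)
  · exact so_t2 11 (by norm_num) (by norm_num) (by norm_num)
  · exact so_t1 13 17 1 1 (by norm_num) (by norm_num) (by norm_num)
  · exact so_t2 37 (by norm_num) (by norm_num) (by norm_num)
  · exact so_t1 223 2 1 0 (by norm_num) (by norm_num) (by norm_num)
  · exact so_t1 2 7 5 1 (by norm_num) (by norm_num) (by norm_num)
  · exact so_t1 3 5 2 2 (by norm_num) (by norm_num) (by norm_num)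
  · exact so_t1 2 113 1 1 (by norm_num) (by norm_num) (by norm_num)
  · exact so_t1 227 2 1 0 (by norm_num) (by norm_num) (by norm_num)
  · exact so_t2 19 (by norm_num) (by norm_num) (by norm_num)
  · exact so_t1 229 2 1 0 (by norm_num) (by norm_num) (by norm_num)
  · exact so_t2 23 (by norm_num) (by norm_num) (by norm_num)
  · exact so_t2 7 (by norm_num) (by norm_num) (by norm_num)
  · exact so_t1 2 29 3 1 (by norm_num) (by norm_num) (by norm_num)
  · exact so_t1 233 2 1 0 (by norm_num) (by norm_num) (by norm_num)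
  · exact so_t2 13 (by norm_num) (by norm_num) (by norm_num)
  · exact so_t1 5 47 1 1 (by norm_num) (by norm_num) (by norm_num)
  · exact so_t1 2 59 2 1 (by norm_num) (by norm_num) (by norm_num)
  · exact so_t1 3 79 1 1 (by norm_num) (by norm_num) (by norm_num)
  · exact so_t2 7 (by norm_num) (by norm_num) (by norm_num)
  · exact so_t1 239 2 1 0 (by norm_num) (by norm_num) (by norm_num)
  · exact so_hard (by decide)
  · exact so_t1 241 2 1 0 (by norm_num) (by norm_num) (by norm_num)
  · exact so_t1 2 11 1 2 (by norm_num) (by norm_num) (by norm_num)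
  · exact so_t1 3 2 5 0 (by norm_num) (by norm_num) (by norm_num)
  · exact so_t1 2 61 2 1 (by norm_num) (by norm_num) (by norm_num)
  · exact so_t1 5 7 1 2 (by norm_num) (by norm_num) (by norm_num)
  · exact so_t2 41 (by norm_num) (by norm_num) (by norm_num)
  · exact so_t1 13 19 1 1 (by norm_num) (by norm_num) (by norm_num)
  · exact so_t1 2 31 3 1 (by norm_num) (by norm_num) (by norm_num)
  · exact so_t1 3 83 1 1 (by norm_num) (by norm_num) (by norm_num)
  · exact so_t1 2 5 1 3 (by norm_num) (by norm_num) (by norm_num)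
  · exact so_t1 251 2 1 0 (by norm_num) (by norm_num) (by norm_num)
  · exact so_t2 7 (by norm_num) (by norm_num) (by norm_num)

theorem sv_7 (n : ℕ) (h1 : 253 ≤ n) (h2 : n ≤ 294) : SieveOut n := by
  interval_cases n
  · exact so_t1 11 23 1 1 (by norm_num) (by norm_num) (by norm_num)
  · exact so_t1 2 127 1 1 (by norm_num) (by norm_num) (by norm_num)
  · exact so_t2 17 (by norm_num) (by norm_num) (by norm_num)
  · exact so_t1 2 2 8 0 (by norm_num) (by norm_num) (by norm_num)
  · exact so_t1 257 2 1 0 (by norm_num) (by norm_num) (by norm_num)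
  · exact so_t2 43 (by norm_num) (by norm_num) (by norm_num)
  · exact so_t1 7 37 1 1 (by norm_num) (by norm_num) (by norm_num)
  · exact so_t2 13 (by norm_num) (by norm_num) (by norm_num)
  · exact so_t1 3 29 2 1 (by norm_num) (by norm_num) (by norm_num)
  · exact so_t1 2 131 1 1 (by norm_num) (by norm_num) (by norm_num)
  · exact so_t1 263 2 1 0 (by norm_num) (by norm_num) (by norm_num)
  · exact so_t2 11 (by norm_num) (by norm_num) (by norm_num)
  · exact so_t1 5 53 1 1 (by norm_num) (by norm_num) (by norm_num)
  · exact so_t2 7 (by norm_num) (by norm_num) (by norm_num)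
  · exact so_t1 3 89 1 1 (by norm_num) (by norm_num) (by norm_num)
  · exact so_t1 2 67 2 1 (by norm_num) (by norm_num) (by norm_num)
  · exact so_t1 269 2 1 0 (by norm_num) (by norm_num) (by norm_num)
  · exact so_t3 (by decide)
  · exact so_t1 271 2 1 0 (by norm_num) (by norm_num) (by norm_num)
  · exact so_t1 2 17 4 1 (by norm_num) (by norm_num) (by norm_num)
  · exact so_t2 7 (by norm_num) (by norm_num) (by norm_num)
  · exact so_t1 2 137 1 1 (by norm_num) (by norm_num) (by norm_num)
  · exact so_t1 5 11 2 1 (by norm_num) (by norm_num) (by norm_num)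
  · exact so_t2 23 (by norm_num) (by norm_num) (by norm_num)
  · exact so_t1 277 2 1 0 (by norm_num) (by norm_num) (by norm_num)
  · exact so_t1 2 139 1 1 (by norm_num) (by norm_num) (by norm_num)
  · exact so_t1 3 31 2 1 (by norm_num) (by norm_num) (by norm_num)
  · exact so_t2 7 (by norm_num) (by norm_num) (by norm_num)
  · exact so_t1 281 2 1 0 (by norm_num) (by norm_num) (by norm_num)
  · exact so_t2 47 (by norm_num) (by norm_num) (by norm_num)
  · exact so_t1 283 2 1 0 (by norm_num) (by norm_num) (by norm_num)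
  · exact so_t1 2 71 2 1 (by norm_num) (by norm_num) (by norm_num)
  · exact so_t2 19 (by norm_num) (by norm_num) (by norm_num)
  · exact so_t2 11 (by norm_num) (by norm_num) (by norm_num)
  · exact so_t1 7 41 1 1 (by norm_num) (by norm_num) (by norm_num)
  · exact so_t1 2 3 5 2 (by norm_num) (by norm_num) (by norm_num)
  · exact so_t1 17 2 2 0 (by norm_num) (by norm_num) (by norm_num)
  · exact so_t2 29 (by norm_num) (by norm_num) (by norm_num)
  · exact so_t1 3 97 1 1 (by norm_num) (by norm_num) (by norm_num)
  · exact so_t1 2 73 2 1 (by norm_num) (by norm_num) (by norm_num)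
  · exact so_t1 293 2 1 0 (by norm_num) (by norm_num) (by norm_num)
  · exact so_t2 7 (by norm_num) (by norm_num) (by norm_num)

theorem sv_8 (n : ℕ) (h1 : 295 ≤ n) (h2 : n ≤ 336) : SieveOut n := by
  interval_cases n
  · exact so_t1 5 59 1 1 (by norm_num) (by norm_num) (by norm_num)
  · exact so_t1 2 37 3 1 (by norm_num) (by norm_num) (by norm_num)
  · exact so_t1 3 11 3 1 (by norm_num) (by norm_num) (by norm_num)
  · exact so_t1 2 149 1 1 (by norm_num) (by norm_num) (by norm_num)
  · exact so_t1 13 23 1 1 (by norm_num) (by norm_num) (by norm_num)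
  · exact so_hard (by decide)
  · exact so_t1 7 43 1 1 (by norm_num) (by norm_num) (by norm_num)
  · exact so_t1 2 151 1 1 (by norm_num) (by norm_num) (by norm_num)
  · exact so_t1 3 101 1 1 (by norm_num) (by norm_num) (by norm_num)
  · exact so_t1 2 19 4 1 (by norm_num) (by norm_num) (by norm_num)
  · exact so_t1 5 61 1 1 (by norm_num) (by norm_num) (by norm_num)
  · exact so_t2 17 (by norm_num) (by norm_num) (by norm_num)
  · exact so_t1 307 2 1 0 (by norm_num) (by norm_num) (by norm_num)
  · exact so_t2 7 (by norm_num) (by norm_num) (by norm_num)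
  · exact so_t1 3 103 1 1 (by norm_num) (by norm_num) (by norm_num)
  · exact so_t2 31 (by norm_num) (by norm_num) (by norm_num)
  · exact so_t1 311 2 1 0 (by norm_num) (by norm_num) (by norm_num)
  · exact so_t2 13 (by norm_num) (by norm_num) (by norm_num)
  · exact so_t1 313 2 1 0 (by norm_num) (by norm_num) (by norm_num)
  · exact so_t1 2 157 1 1 (by norm_num) (by norm_num) (by norm_num)
  · exact so_t2 7 (by norm_num) (by norm_num) (by norm_num)
  · exact so_t1 2 79 2 1 (by norm_num) (by norm_num) (by norm_num)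
  · exact so_t1 317 2 1 0 (by norm_num) (by norm_num) (by norm_num)
  · exact so_t2 53 (by norm_num) (by norm_num) (by norm_num)
  · exact so_t1 11 29 1 1 (by norm_num) (by norm_num) (by norm_num)
  · exact so_t1 2 5 6 1 (by norm_num) (by norm_num) (by norm_num)
  · exact so_t1 3 107 1 1 (by norm_num) (by norm_num) (by norm_num)
  · exact so_t2 7 (by norm_num) (by norm_num) (by norm_num)
  · exact so_t1 17 19 1 1 (by norm_num) (by norm_num) (by norm_num)
  · exact so_t1 2 3 2 4 (by norm_num) (by norm_num) (by norm_num)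
  · exact so_t1 5 13 2 1 (by norm_num) (by norm_num) (by norm_num)
  · exact so_t1 2 163 1 1 (by norm_num) (by norm_num) (by norm_num)
  · exact so_t1 3 109 1 1 (by norm_num) (by norm_num) (by norm_num)
  · exact so_t1 2 41 3 1 (by norm_num) (by norm_num) (by norm_num)
  · exact so_t1 7 47 1 1 (by norm_num) (by norm_num) (by norm_num)
  · exact so_t2 11 (by norm_num) (by norm_num) (by norm_num)
  · exact so_t1 331 2 1 0 (by norm_num) (by norm_num) (by norm_num)
  · exact so_t1 2 83 2 1 (by norm_num) (by norm_num) (by norm_num)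
  · exact so_t1 3 37 2 1 (by norm_num) (by norm_num) (by norm_num)
  · exact so_t1 2 167 1 1 (by norm_num) (by norm_num) (by norm_num)
  · exact so_t1 5 67 1 1 (by norm_num) (by norm_num) (by norm_num)
  · exact so_t2 7 (by norm_num) (by norm_num) (by norm_num)

theorem sv_9 (n : ℕ) (h1 : 337 ≤ n) (h2 : n ≤ 378) : SieveOut n := by
  interval_cases n
  · exact so_t1 337 2 1 0 (by norm_num) (by norm_num) (by norm_num)
  · exact so_t1 2 13 1 2 (by norm_num) (by norm_num) (by norm_num)
  · exact so_t1 3 113 1 1 (by norm_num) (by norm_num) (by norm_num)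
  · exact so_t2 17 (by norm_num) (by norm_num) (by norm_num)
  · exact so_t1 11 31 1 1 (by norm_num) (by norm_num) (by norm_num)
  · exact so_t2 19 (by norm_num) (by norm_num) (by norm_num)
  · exact so_t1 7 2 3 0 (by norm_num) (by norm_num) (by norm_num)
  · exact so_t1 2 43 3 1 (by norm_num) (by norm_num) (by norm_num)
  · exact so_t2 23 (by norm_num) (by norm_num) (by norm_num)
  · exact so_t1 2 173 1 1 (by norm_num) (by norm_num) (by norm_num)
  · exact so_t1 347 2 1 0 (by norm_num) (by norm_num) (by norm_num)
  · exact so_t2 29 (by norm_num) (by norm_num) (by norm_num)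
  · exact so_t1 349 2 1 0 (by norm_num) (by norm_num) (by norm_num)
  · exact so_t3 (by decide)
  · exact so_t1 3 13 3 1 (by norm_num) (by norm_num) (by norm_num)
  · exact so_t1 2 11 5 1 (by norm_num) (by norm_num) (by norm_num)
  · exact so_t1 353 2 1 0 (by norm_num) (by norm_num) (by norm_num)
  · exact so_t2 59 (by norm_num) (by norm_num) (by norm_num)
  · exact so_t1 5 71 1 1 (by norm_num) (by norm_num) (by norm_num)
  · exact so_t1 2 89 2 1 (by norm_num) (by norm_num) (by norm_num)
  · exact so_t2 17 (by norm_num) (by norm_num) (by norm_num)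
  · exact so_t1 2 179 1 1 (by norm_num) (by norm_num) (by norm_num)
  · exact so_t1 359 2 1 0 (by norm_num) (by norm_num) (by norm_num)
  · exact so_good (by decide)
  · exact so_t1 19 2 2 0 (by norm_num) (by norm_num) (by norm_num)
  · exact so_t1 2 181 1 1 (by norm_num) (by norm_num) (by norm_num)
  · exact so_t1 3 11 1 2 (by norm_num) (by norm_num) (by norm_num)
  · exact so_t2 13 (by norm_num) (by norm_num) (by norm_num)
  · exact so_t1 5 73 1 1 (by norm_num) (by norm_num) (by norm_num)
  · exact so_t2 61 (by norm_num) (by norm_num) (by norm_num)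
  · exact so_t1 367 2 1 0 (by norm_num) (by norm_num) (by norm_num)
  · exact so_t1 2 23 4 1 (by norm_num) (by norm_num) (by norm_num)
  · exact so_t1 3 41 2 1 (by norm_num) (by norm_num) (by norm_num)
  · exact so_t2 37 (by norm_num) (by norm_num) (by norm_num)
  · exact so_t1 7 53 1 1 (by norm_num) (by norm_num) (by norm_num)
  · exact so_t2 31 (by norm_num) (by norm_num) (by norm_num)
  · exact so_t1 373 2 1 0 (by norm_num) (by norm_num) (by norm_num)
  · exact so_t2 11 (by norm_num) (by norm_num) (by norm_num)
  · exact so_t1 3 5 1 3 (by norm_num) (by norm_num) (by norm_num)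
  · exact so_t1 2 47 3 1 (by norm_num) (by norm_num) (by norm_num)
  · exact so_t1 13 29 1 1 (by norm_num) (by norm_num) (by norm_num)
  · exact so_t3 (by decide)

theorem sv_10 (n : ℕ) (h1 : 379 ≤ n) (h2 : n ≤ 420) : SieveOut n := by
  interval_cases n
  · exact so_t1 379 2 1 0 (by norm_num) (by norm_num) (by norm_num)
  · exact so_t2 19 (by norm_num) (by norm_num) (by norm_num)
  · exact so_t1 3 127 1 1 (by norm_num) (by norm_num) (by norm_num)
  · exact so_t1 2 191 1 1 (by norm_num) (by norm_num) (by norm_num)
  · exact so_t1 383 2 1 0 (by norm_num) (by norm_num) (by norm_num)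
  · exact so_t1 2 3 7 1 (by norm_num) (by norm_num) (by norm_num)
  · exact so_t2 11 (by norm_num) (by norm_num) (by norm_num)
  · exact so_t1 2 193 1 1 (by norm_num) (by norm_num) (by norm_num)
  · exact so_t1 3 43 2 1 (by norm_num) (by norm_num) (by norm_num)
  · exact so_t1 2 97 2 1 (by norm_num) (by norm_num) (by norm_num)
  · exact so_t1 389 2 1 0 (by norm_num) (by norm_num) (by norm_num)
  · exact so_t2 13 (by norm_num) (by norm_num) (by norm_num)
  · exact so_t1 17 23 1 1 (by norm_num) (by norm_num) (by norm_num)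
  · exact so_t1 2 7 3 2 (by norm_num) (by norm_num) (by norm_num)
  · exact so_t1 3 131 1 1 (by norm_num) (by norm_num) (by norm_num)
  · exact so_t1 2 197 1 1 (by norm_num) (by norm_num) (by norm_num)
  · exact so_t1 5 79 1 1 (by norm_num) (by norm_num) (by norm_num)
  · exact so_t2 11 (by norm_num) (by norm_num) (by norm_num)
  · exact so_t1 397 2 1 0 (by norm_num) (by norm_num) (by norm_num)
  · exact so_t1 2 199 1 1 (by norm_num) (by norm_num) (by norm_num)
  · exact so_t2 19 (by norm_num) (by norm_num) (by norm_num)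
  · exact so_t1 2 5 4 2 (by norm_num) (by norm_num) (by norm_num)
  · exact so_t1 401 2 1 0 (by norm_num) (by norm_num) (by norm_num)
  · exact so_t2 67 (by norm_num) (by norm_num) (by norm_num)
  · exact so_t1 13 31 1 1 (by norm_num) (by norm_num) (by norm_num)
  · exact so_t1 2 101 2 1 (by norm_num) (by norm_num) (by norm_num)
  · exact so_t1 3 5 4 1 (by norm_num) (by norm_num) (by norm_num)
  · exact so_t2 29 (by norm_num) (by norm_num) (by norm_num)
  · exact so_t1 11 37 1 1 (by norm_num) (by norm_num) (by norm_num)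
  · exact so_t2 17 (by norm_num) (by norm_num) (by norm_num)
  · exact so_t1 409 2 1 0 (by norm_num) (by norm_num) (by norm_num)
  · exact so_t2 41 (by norm_num) (by norm_num) (by norm_num)
  · exact so_t1 3 137 1 1 (by norm_num) (by norm_num) (by norm_num)
  · exact so_t1 2 103 2 1 (by norm_num) (by norm_num) (by norm_num)
  · exact so_t1 7 59 1 1 (by norm_num) (by norm_num) (by norm_num)
  · exact so_t2 23 (by norm_num) (by norm_num) (by norm_num)
  · exact so_t1 5 83 1 1 (by norm_num) (by norm_num) (by norm_num)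
  · exact so_t1 2 13 5 1 (by norm_num) (by norm_num) (by norm_num)
  · exact so_t1 3 139 1 1 (by norm_num) (by norm_num) (by norm_num)
  · exact so_t2 11 (by norm_num) (by norm_num) (by norm_num)
  · exact so_t1 419 2 1 0 (by norm_num) (by norm_num) (by norm_num)
  · exact so_hard (by decide)

theorem sv_11 (n : ℕ) (h1 : 421 ≤ n) (h2 : n ≤ 462) : SieveOut n := by
  interval_cases n
  · exact so_t1 421 2 1 0 (by norm_num) (by norm_num) (by norm_num)
  · exact so_t1 2 211 1 1 (by norm_num) (by norm_num) (by norm_num)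
  · exact so_t1 3 47 2 1 (by norm_num) (by norm_num) (by norm_num)
  · exact so_t1 2 53 3 1 (by norm_num) (by norm_num) (by norm_num)
  · exact so_t1 5 17 2 1 (by norm_num) (by norm_num) (by norm_num)
  · exact so_t2 71 (by norm_num) (by norm_num) (by norm_num)
  · exact so_t1 7 61 1 1 (by norm_num) (by norm_num) (by norm_num)
  · exact so_t1 2 107 2 1 (by norm_num) (by norm_num) (by norm_num)
  · exact so_t2 11 (by norm_num) (by norm_num) (by norm_num)
  · exact so_t2 43 (by norm_num) (by norm_num) (by norm_num)
  · exact so_t1 431 2 1 0 (by norm_num) (by norm_num) (by norm_num)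
  · exact so_t1 2 3 4 3 (by norm_num) (by norm_num) (by norm_num)
  · exact so_t1 433 2 1 0 (by norm_num) (by norm_num) (by norm_num)
  · exact so_t2 31 (by norm_num) (by norm_num) (by norm_num)
  · exact so_t2 29 (by norm_num) (by norm_num) (by norm_num)
  · exact so_t1 2 109 2 1 (by norm_num) (by norm_num) (by norm_num)
  · exact so_t1 19 23 1 1 (by norm_num) (by norm_num) (by norm_num)
  · exact so_t2 73 (by norm_num) (by norm_num) (by norm_num)
  · exact so_t1 439 2 1 0 (by norm_num) (by norm_num) (by norm_num)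
  · exact so_t2 11 (by norm_num) (by norm_num) (by norm_num)
  · exact so_t1 3 7 2 2 (by norm_num) (by norm_num) (by norm_num)
  · exact so_t2 13 (by norm_num) (by norm_num) (by norm_num)
  · exact so_t1 443 2 1 0 (by norm_num) (by norm_num) (by norm_num)
  · exact so_t2 37 (by norm_num) (by norm_num) (by norm_num)
  · exact so_t1 5 89 1 1 (by norm_num) (by norm_num) (by norm_num)
  · exact so_t1 2 223 1 1 (by norm_num) (by norm_num) (by norm_num)
  · exact so_t1 3 149 1 1 (by norm_num) (by norm_num) (by norm_num)
  · exact so_t1 2 7 6 1 (by norm_num) (by norm_num) (by norm_num)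
  · exact so_t1 449 2 1 0 (by norm_num) (by norm_num) (by norm_num)
  · exact so_t3 (by decide)
  · exact so_t1 11 41 1 1 (by norm_num) (by norm_num) (by norm_num)
  · exact so_t1 2 113 2 1 (by norm_num) (by norm_num) (by norm_num)
  · exact so_t1 3 151 1 1 (by norm_num) (by norm_num) (by norm_num)
  · exact so_t1 2 227 1 1 (by norm_num) (by norm_num) (by norm_num)
  · exact so_t2 13 (by norm_num) (by norm_num) (by norm_num)
  · exact so_t2 19 (by norm_num) (by norm_num) (by norm_num)
  · exact so_t1 457 2 1 0 (by norm_num) (by norm_num) (by norm_num)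
  · exact so_t1 2 229 1 1 (by norm_num) (by norm_num) (by norm_num)
  · exact so_t1 3 17 3 1 (by norm_num) (by norm_num) (by norm_num)
  · exact so_t2 23 (by norm_num) (by norm_num) (by norm_num)
  · exact so_t1 461 2 1 0 (by norm_num) (by norm_num) (by norm_num)
  · exact so_t2 11 (by norm_num) (by norm_num) (by norm_num)

theorem sv_12 (n : ℕ) (h1 : 463 ≤ n) (h2 : n ≤ 504) : SieveOut n := by
  interval_cases n
  · exact so_t1 463 2 1 0 (by norm_num) (by norm_num) (by norm_num)
  · exact so_t1 2 29 4 1 (by norm_num) (by norm_num) (by norm_num)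
  · exact so_t2 31 (by norm_num) (by norm_num) (by norm_num)
  · exact so_t1 2 233 1 1 (by norm_num) (by norm_num) (by norm_num)
  · exact so_t1 467 2 1 0 (by norm_num) (by norm_num) (by norm_num)
  · exact so_t2 13 (by norm_num) (by norm_num) (by norm_num)
  · exact so_t1 7 67 1 1 (by norm_num) (by norm_num) (by norm_num)
  · exact so_t2 47 (by norm_num) (by norm_num) (by norm_num)
  · exact so_t1 3 157 1 1 (by norm_num) (by norm_num) (by norm_num)
  · exact so_t1 2 59 3 1 (by norm_num) (by norm_num) (by norm_num)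
  · exact so_t1 11 43 1 1 (by norm_num) (by norm_num) (by norm_num)
  · exact so_t2 79 (by norm_num) (by norm_num) (by norm_num)
  · exact so_t1 5 19 2 1 (by norm_num) (by norm_num) (by norm_num)
  · exact so_t2 17 (by norm_num) (by norm_num) (by norm_num)
  · exact so_t1 3 53 2 1 (by norm_num) (by norm_num) (by norm_num)
  · exact so_t1 2 239 1 1 (by norm_num) (by norm_num) (by norm_num)
  · exact so_t1 479 2 1 0 (by norm_num) (by norm_num) (by norm_num)
  · exact so_hard (by decide)
  · exact so_t1 13 37 1 1 (by norm_num) (by norm_num) (by norm_num)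
  · exact so_t1 2 241 1 1 (by norm_num) (by norm_num) (by norm_num)
  · exact so_t2 23 (by norm_num) (by norm_num) (by norm_num)
  · exact so_t1 2 11 2 2 (by norm_num) (by norm_num) (by norm_num)
  · exact so_t1 5 97 1 1 (by norm_num) (by norm_num) (by norm_num)
  · exact so_t1 2 3 1 5 (by norm_num) (by norm_num) (by norm_num)
  · exact so_t1 487 2 1 0 (by norm_num) (by norm_num) (by norm_num)
  · exact so_t1 2 61 3 1 (by norm_num) (by norm_num) (by norm_num)
  · exact so_t1 3 163 1 1 (by norm_num) (by norm_num) (by norm_num)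
  · exact so_t3 (by decide)
  · exact so_t1 491 2 1 0 (by norm_num) (by norm_num) (by norm_num)
  · exact so_t2 41 (by norm_num) (by norm_num) (by norm_num)
  · exact so_t1 17 29 1 1 (by norm_num) (by norm_num) (by norm_num)
  · exact so_t2 13 (by norm_num) (by norm_num) (by norm_num)
  · exact so_t2 11 (by norm_num) (by norm_num) (by norm_num)
  · exact so_t1 2 31 4 1 (by norm_num) (by norm_num) (by norm_num)
  · exact so_t1 7 71 1 1 (by norm_num) (by norm_num) (by norm_num)
  · exact so_t2 83 (by norm_num) (by norm_num) (by norm_num)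
  · exact so_t1 499 2 1 0 (by norm_num) (by norm_num) (by norm_num)
  · exact so_t1 2 5 2 3 (by norm_num) (by norm_num) (by norm_num)
  · exact so_t1 3 167 1 1 (by norm_num) (by norm_num) (by norm_num)
  · exact so_t1 2 251 1 1 (by norm_num) (by norm_num) (by norm_num)
  · exact so_t1 503 2 1 0 (by norm_num) (by norm_num) (by norm_num)
  · exact so_good (by decide)

theorem sv_13 (n : ℕ) (h1 : 505 ≤ n) (h2 : n ≤ 546) : SieveOut n := by
  interval_cases n
  · exact so_t1 5 101 1 1 (by norm_num) (by norm_num) (by norm_num)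
  · exact so_t2 11 (by norm_num) (by norm_num) (by norm_num)
  · exact so_t1 3 13 1 2 (by norm_num) (by norm_num) (by norm_num)
  · exact so_t1 2 127 2 1 (by norm_num) (by norm_num) (by norm_num)
  · exact so_t1 509 2 1 0 (by norm_num) (by norm_num) (by norm_num)
  · exact so_t2 17 (by norm_num) (by norm_num) (by norm_num)
  · exact so_t1 7 73 1 1 (by norm_num) (by norm_num) (by norm_num)
  · exact so_t1 2 2 9 0 (by norm_num) (by norm_num) (by norm_num)
  · exact so_t1 3 19 3 1 (by norm_num) (by norm_num) (by norm_num)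
  · exact so_t1 2 257 1 1 (by norm_num) (by norm_num) (by norm_num)
  · exact so_t1 5 103 1 1 (by norm_num) (by norm_num) (by norm_num)
  · exact so_t2 43 (by norm_num) (by norm_num) (by norm_num)
  · exact so_t1 11 47 1 1 (by norm_num) (by norm_num) (by norm_num)
  · exact so_t2 37 (by norm_num) (by norm_num) (by norm_num)
  · exact so_t1 3 173 1 1 (by norm_num) (by norm_num) (by norm_num)
  · exact so_t2 13 (by norm_num) (by norm_num) (by norm_num)
  · exact so_t1 521 2 1 0 (by norm_num) (by norm_num) (by norm_num)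
  · exact so_t2 29 (by norm_num) (by norm_num) (by norm_num)
  · exact so_t1 523 2 1 0 (by norm_num) (by norm_num) (by norm_num)
  · exact so_t1 2 131 2 1 (by norm_num) (by norm_num) (by norm_num)
  · exact so_t4 5 3 7 (by norm_num) (by norm_num) (by norm_num) (by norm_num)
  · exact so_t1 2 263 1 1 (by norm_num) (by norm_num) (by norm_num)
  · exact so_t1 17 31 1 1 (by norm_num) (by norm_num) (by norm_num)
  · exact so_t2 11 (by norm_num) (by norm_num) (by norm_num)
  · exact so_t1 23 2 2 0 (by norm_num) (by norm_num) (by norm_num)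
  · exact so_t2 53 (by norm_num) (by norm_num) (by norm_num)
  · exact so_t1 3 59 2 1 (by norm_num) (by norm_num) (by norm_num)
  · exact so_t2 19 (by norm_num) (by norm_num) (by norm_num)
  · exact so_t1 13 41 1 1 (by norm_num) (by norm_num) (by norm_num)
  · exact so_t2 89 (by norm_num) (by norm_num) (by norm_num)
  · exact so_t1 5 107 1 1 (by norm_num) (by norm_num) (by norm_num)
  · exact so_t1 2 67 3 1 (by norm_num) (by norm_num) (by norm_num)
  · exact so_t1 3 179 1 1 (by norm_num) (by norm_num) (by norm_num)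
  · exact so_t1 2 269 1 1 (by norm_num) (by norm_num) (by norm_num)
  · exact so_t1 7 11 2 1 (by norm_num) (by norm_num) (by norm_num)
  · exact so_hard (by decide)
  · exact so_t1 541 2 1 0 (by norm_num) (by norm_num) (by norm_num)
  · exact so_t1 2 271 1 1 (by norm_num) (by norm_num) (by norm_num)
  · exact so_t1 3 181 1 1 (by norm_num) (by norm_num) (by norm_num)
  · exact so_t1 2 17 5 1 (by norm_num) (by norm_num) (by norm_num)
  · exact so_t1 5 109 1 1 (by norm_num) (by norm_num) (by norm_num)
  · exact so_t2 13 (by norm_num) (by norm_num) (by norm_num)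

theorem sv_14 (n : ℕ) (h1 : 547 ≤ n) (h2 : n ≤ 588) : SieveOut n := by
  interval_cases n
  · exact so_t1 547 2 1 0 (by norm_num) (by norm_num) (by norm_num)
  · exact so_t1 2 137 2 1 (by norm_num) (by norm_num) (by norm_num)
  · exact so_t1 3 61 2 1 (by norm_num) (by norm_num) (by norm_num)
  · exact so_t2 11 (by norm_num) (by norm_num) (by norm_num)
  · exact so_t1 19 29 1 1 (by norm_num) (by norm_num) (by norm_num)
  · exact so_t2 23 (by norm_num) (by norm_num) (by norm_num)
  · exact so_t1 7 79 1 1 (by norm_num) (by norm_num) (by norm_num)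
  · exact so_t1 2 277 1 1 (by norm_num) (by norm_num) (by norm_num)
  · exact so_t2 37 (by norm_num) (by norm_num) (by norm_num)
  · exact so_t1 2 139 2 1 (by norm_num) (by norm_num) (by norm_num)
  · exact so_t1 557 2 1 0 (by norm_num) (by norm_num) (by norm_num)
  · exact so_t2 31 (by norm_num) (by norm_num) (by norm_num)
  · exact so_t1 13 43 1 1 (by norm_num) (by norm_num) (by norm_num)
  · exact so_hard (by decide)
  · exact so_t2 11 (by norm_num) (by norm_num) (by norm_num)
  · exact so_t1 2 281 1 1 (by norm_num) (by norm_num) (by norm_num)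
  · exact so_t1 563 2 1 0 (by norm_num) (by norm_num) (by norm_num)
  · exact so_t2 47 (by norm_num) (by norm_num) (by norm_num)
  · exact so_t1 5 113 1 1 (by norm_num) (by norm_num) (by norm_num)
  · exact so_t1 2 283 1 1 (by norm_num) (by norm_num) (by norm_num)
  · exact so_t1 3 7 4 1 (by norm_num) (by norm_num) (by norm_num)
  · exact so_t1 2 71 3 1 (by norm_num) (by norm_num) (by norm_num)
  · exact so_t1 569 2 1 0 (by norm_num) (by norm_num) (by norm_num)
  · exact so_t2 19 (by norm_num) (by norm_num) (by norm_num)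
  · exact so_t1 571 2 1 0 (by norm_num) (by norm_num) (by norm_num)
  · exact so_t2 11 (by norm_num) (by norm_num) (by norm_num)
  · exact so_t1 3 191 1 1 (by norm_num) (by norm_num) (by norm_num)
  · exact so_t2 41 (by norm_num) (by norm_num) (by norm_num)
  · exact so_t1 5 23 2 1 (by norm_num) (by norm_num) (by norm_num)
  · exact so_t1 2 3 6 2 (by norm_num) (by norm_num) (by norm_num)
  · exact so_t1 577 2 1 0 (by norm_num) (by norm_num) (by norm_num)
  · exact so_t1 2 17 1 2 (by norm_num) (by norm_num) (by norm_num)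
  · exact so_t1 3 193 1 1 (by norm_num) (by norm_num) (by norm_num)
  · exact so_t2 29 (by norm_num) (by norm_num) (by norm_num)
  · exact so_t1 7 83 1 1 (by norm_num) (by norm_num) (by norm_num)
  · exact so_t2 97 (by norm_num) (by norm_num) (by norm_num)
  · exact so_t1 11 53 1 1 (by norm_num) (by norm_num) (by norm_num)
  · exact so_t1 2 73 3 1 (by norm_num) (by norm_num) (by norm_num)
  · exact so_t2 13 (by norm_num) (by norm_num) (by norm_num)
  · exact so_t1 2 293 1 1 (by norm_num) (by norm_num) (by norm_num)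
  · exact so_t1 587 2 1 0 (by norm_num) (by norm_num) (by norm_num)
  · exact so_hard (by decide)

theorem sv_15 (n : ℕ) (h1 : 589 ≤ n) (h2 : n ≤ 630) : SieveOut n := by
  interval_cases n
  · exact so_t1 19 31 1 1 (by norm_num) (by norm_num) (by norm_num)
  · exact so_t2 59 (by norm_num) (by norm_num) (by norm_num)
  · exact so_t1 3 197 1 1 (by norm_num) (by norm_num) (by norm_num)
  · exact so_t1 2 37 4 1 (by norm_num) (by norm_num) (by norm_num)
  · exact so_t1 593 2 1 0 (by norm_num) (by norm_num) (by norm_num)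
  · exact so_t2 11 (by norm_num) (by norm_num) (by norm_num)
  · exact so_t2 17 (by norm_num) (by norm_num) (by norm_num)
  · exact so_t1 2 149 2 1 (by norm_num) (by norm_num) (by norm_num)
  · exact so_t1 3 199 1 1 (by norm_num) (by norm_num) (by norm_num)
  · exact so_t2 13 (by norm_num) (by norm_num) (by norm_num)
  · exact so_t1 599 2 1 0 (by norm_num) (by norm_num) (by norm_num)
  · exact so_hard (by decide)
  · exact so_t1 601 2 1 0 (by norm_num) (by norm_num) (by norm_num)
  · exact so_t2 43 (by norm_num) (by norm_num) (by norm_num)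
  · exact so_t1 3 67 2 1 (by norm_num) (by norm_num) (by norm_num)
  · exact so_t1 2 151 2 1 (by norm_num) (by norm_num) (by norm_num)
  · exact so_t1 5 11 1 2 (by norm_num) (by norm_num) (by norm_num)
  · exact so_t2 101 (by norm_num) (by norm_num) (by norm_num)
  · exact so_t1 607 2 1 0 (by norm_num) (by norm_num) (by norm_num)
  · exact so_t1 2 19 5 1 (by norm_num) (by norm_num) (by norm_num)
  · exact so_t2 29 (by norm_num) (by norm_num) (by norm_num)
  · exact so_t2 61 (by norm_num) (by norm_num) (by norm_num)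
  · exact so_t1 13 47 1 1 (by norm_num) (by norm_num) (by norm_num)
  · exact so_t2 17 (by norm_num) (by norm_num) (by norm_num)
  · exact so_t1 613 2 1 0 (by norm_num) (by norm_num) (by norm_num)
  · exact so_t1 2 307 1 1 (by norm_num) (by norm_num) (by norm_num)
  · exact so_t2 41 (by norm_num) (by norm_num) (by norm_num)
  · exact so_t2 11 (by norm_num) (by norm_num) (by norm_num)
  · exact so_t1 617 2 1 0 (by norm_num) (by norm_num) (by norm_num)
  · exact so_t2 103 (by norm_num) (by norm_num) (by norm_num)
  · exact so_t1 619 2 1 0 (by norm_num) (by norm_num) (by norm_num)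
  · exact so_t2 31 (by norm_num) (by norm_num) (by norm_num)
  · exact so_t1 3 23 3 1 (by norm_num) (by norm_num) (by norm_num)
  · exact so_t1 2 311 1 1 (by norm_num) (by norm_num) (by norm_num)
  · exact so_t1 7 89 1 1 (by norm_num) (by norm_num) (by norm_num)
  · exact so_t2 13 (by norm_num) (by norm_num) (by norm_num)
  · exact so_t1 5 2 4 0 (by norm_num) (by norm_num) (by norm_num)
  · exact so_t1 2 313 1 1 (by norm_num) (by norm_num) (by norm_num)
  · exact so_t2 11 (by norm_num) (by norm_num) (by norm_num)
  · exact so_t1 2 157 2 1 (by norm_num) (by norm_num) (by norm_num)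
  · exact so_t1 17 37 1 1 (by norm_num) (by norm_num) (by norm_num)
  · exact so_t3 (by decide)

theorem sv_16 (n : ℕ) (h1 : 631 ≤ n) (h2 : n ≤ 672) : SieveOut n := by
  interval_cases n
  · exact so_t1 631 2 1 0 (by norm_num) (by norm_num) (by norm_num)
  · exact so_t1 2 79 3 1 (by norm_num) (by norm_num) (by norm_num)
  · exact so_t1 3 211 1 1 (by norm_num) (by norm_num) (by norm_num)
  · exact so_t1 2 317 1 1 (by norm_num) (by norm_num) (by norm_num)
  · exact so_t1 5 127 1 1 (by norm_num) (by norm_num) (by norm_num)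
  · exact so_t2 53 (by norm_num) (by norm_num) (by norm_num)
  · exact so_t1 7 13 2 1 (by norm_num) (by norm_num) (by norm_num)
  · exact so_t2 11 (by norm_num) (by norm_num) (by norm_num)
  · exact so_t1 3 71 2 1 (by norm_num) (by norm_num) (by norm_num)
  · exact so_t1 2 5 7 1 (by norm_num) (by norm_num) (by norm_num)
  · exact so_t1 641 2 1 0 (by norm_num) (by norm_num) (by norm_num)
  · exact so_t2 107 (by norm_num) (by norm_num) (by norm_num)
  · exact so_t1 643 2 1 0 (by norm_num) (by norm_num) (by norm_num)
  · exact so_t2 23 (by norm_num) (by norm_num) (by norm_num)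
  · exact so_t2 43 (by norm_num) (by norm_num) (by norm_num)
  · exact so_t2 17 (by norm_num) (by norm_num) (by norm_num)
  · exact so_t1 647 2 1 0 (by norm_num) (by norm_num) (by norm_num)
  · exact so_t1 2 3 3 4 (by norm_num) (by norm_num) (by norm_num)
  · exact so_t1 11 59 1 1 (by norm_num) (by norm_num) (by norm_num)
  · exact so_t2 13 (by norm_num) (by norm_num) (by norm_num)
  · exact so_t2 31 (by norm_num) (by norm_num) (by norm_num)
  · exact so_t1 2 163 2 1 (by norm_num) (by norm_num) (by norm_num)
  · exact so_t1 653 2 1 0 (by norm_num) (by norm_num) (by norm_num)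
  · exact so_t2 109 (by norm_num) (by norm_num) (by norm_num)
  · exact so_t1 5 131 1 1 (by norm_num) (by norm_num) (by norm_num)
  · exact so_t1 2 41 4 1 (by norm_num) (by norm_num) (by norm_num)
  · exact so_t1 3 73 2 1 (by norm_num) (by norm_num) (by norm_num)
  · exact so_t2 47 (by norm_num) (by norm_num) (by norm_num)
  · exact so_t1 659 2 1 0 (by norm_num) (by norm_num) (by norm_num)
  · exact so_good (by decide)
  · exact so_t1 661 2 1 0 (by norm_num) (by norm_num) (by norm_num)
  · exact so_t1 2 331 1 1 (by norm_num) (by norm_num) (by norm_num)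
  · exact so_t2 13 (by norm_num) (by norm_num) (by norm_num)
  · exact so_t1 2 83 3 1 (by norm_num) (by norm_num) (by norm_num)
  · exact so_t2 19 (by norm_num) (by norm_num) (by norm_num)
  · exact so_t2 37 (by norm_num) (by norm_num) (by norm_num)
  · exact so_t1 23 29 1 1 (by norm_num) (by norm_num) (by norm_num)
  · exact so_t1 2 167 2 1 (by norm_num) (by norm_num) (by norm_num)
  · exact so_t1 3 223 1 1 (by norm_num) (by norm_num) (by norm_num)
  · exact so_t2 67 (by norm_num) (by norm_num) (by norm_num)
  · exact so_t1 11 61 1 1 (by norm_num) (by norm_num) (by norm_num)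
  · exact so_hard (by decide)

theorem sv_17 (n : ℕ) (h1 : 673 ≤ n) (h2 : n ≤ 714) : SieveOut n := by
  interval_cases n
  · exact so_t1 673 2 1 0 (by norm_num) (by norm_num) (by norm_num)
  · exact so_t1 2 337 1 1 (by norm_num) (by norm_num) (by norm_num)
  · exact so_t1 3 5 3 2 (by norm_num) (by norm_num) (by norm_num)
  · exact so_t1 2 13 2 2 (by norm_num) (by norm_num) (by norm_num)
  · exact so_t1 677 2 1 0 (by norm_num) (by norm_num) (by norm_num)
  · exact so_t2 113 (by norm_num) (by norm_num) (by norm_num)
  · exact so_t1 7 97 1 1 (by norm_num) (by norm_num) (by norm_num)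
  · exact so_t2 17 (by norm_num) (by norm_num) (by norm_num)
  · exact so_t1 3 227 1 1 (by norm_num) (by norm_num) (by norm_num)
  · exact so_t2 11 (by norm_num) (by norm_num) (by norm_num)
  · exact so_t1 683 2 1 0 (by norm_num) (by norm_num) (by norm_num)
  · exact so_t2 19 (by norm_num) (by norm_num) (by norm_num)
  · exact so_t1 5 137 1 1 (by norm_num) (by norm_num) (by norm_num)
  · exact so_t1 2 7 1 3 (by norm_num) (by norm_num) (by norm_num)
  · exact so_t1 3 229 1 1 (by norm_num) (by norm_num) (by norm_num)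
  · exact so_t1 2 43 4 1 (by norm_num) (by norm_num) (by norm_num)
  · exact so_t1 13 53 1 1 (by norm_num) (by norm_num) (by norm_num)
  · exact so_t2 23 (by norm_num) (by norm_num) (by norm_num)
  · exact so_t1 691 2 1 0 (by norm_num) (by norm_num) (by norm_num)
  · exact so_t1 2 173 2 1 (by norm_num) (by norm_num) (by norm_num)
  · exact so_t2 11 (by norm_num) (by norm_num) (by norm_num)
  · exact so_t1 2 347 1 1 (by norm_num) (by norm_num) (by norm_num)
  · exact so_t1 5 139 1 1 (by norm_num) (by norm_num) (by norm_num)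
  · exact so_t2 29 (by norm_num) (by norm_num) (by norm_num)
  · exact so_t1 17 41 1 1 (by norm_num) (by norm_num) (by norm_num)
  · exact so_t1 2 349 1 1 (by norm_num) (by norm_num) (by norm_num)
  · exact so_t1 3 233 1 1 (by norm_num) (by norm_num) (by norm_num)
  · exact so_t3 (by decide)
  · exact so_t1 701 2 1 0 (by norm_num) (by norm_num) (by norm_num)
  · exact so_t2 13 (by norm_num) (by norm_num) (by norm_num)
  · exact so_t1 19 37 1 1 (by norm_num) (by norm_num) (by norm_num)
  · exact so_t1 2 11 6 1 (by norm_num) (by norm_num) (by norm_num)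
  · exact so_t2 47 (by norm_num) (by norm_num) (by norm_num)
  · exact so_t1 2 353 1 1 (by norm_num) (by norm_num) (by norm_num)
  · exact so_t1 7 101 1 1 (by norm_num) (by norm_num) (by norm_num)
  · exact so_t2 59 (by norm_num) (by norm_num) (by norm_num)
  · exact so_t1 709 2 1 0 (by norm_num) (by norm_num) (by norm_num)
  · exact so_t2 71 (by norm_num) (by norm_num) (by norm_num)
  · exact so_t1 3 79 2 1 (by norm_num) (by norm_num) (by norm_num)
  · exact so_t1 2 89 3 1 (by norm_num) (by norm_num) (by norm_num)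
  · exact so_t1 23 31 1 1 (by norm_num) (by norm_num) (by norm_num)
  · exact so_t2 17 (by norm_num) (by norm_num) (by norm_num)

theorem sv_18 (n : ℕ) (h1 : 715 ≤ n) (h2 : n ≤ 756) : SieveOut n := by
  interval_cases n
  · exact so_t2 11 (by norm_num) (by norm_num) (by norm_num)
  · exact so_t1 2 179 2 1 (by norm_num) (by norm_num) (by norm_num)
  · exact so_t1 3 239 1 1 (by norm_num) (by norm_num) (by norm_num)
  · exact so_t1 2 359 1 1 (by norm_num) (by norm_num) (by norm_num)
  · exact so_t1 719 2 1 0 (by norm_num) (by norm_num) (by norm_num)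
  · exact so_hard (by decide)
  · exact so_t1 7 103 1 1 (by norm_num) (by norm_num) (by norm_num)
  · exact so_t1 2 19 1 2 (by norm_num) (by norm_num) (by norm_num)
  · exact so_t1 3 241 1 1 (by norm_num) (by norm_num) (by norm_num)
  · exact so_t1 2 181 2 1 (by norm_num) (by norm_num) (by norm_num)
  · exact so_t1 5 29 2 1 (by norm_num) (by norm_num) (by norm_num)
  · exact so_t2 11 (by norm_num) (by norm_num) (by norm_num)
  · exact so_t1 727 2 1 0 (by norm_num) (by norm_num) (by norm_num)
  · exact so_t2 13 (by norm_num) (by norm_num) (by norm_num)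
  · exact so_t1 3 2 6 0 (by norm_num) (by norm_num) (by norm_num)
  · exact so_t2 73 (by norm_num) (by norm_num) (by norm_num)
  · exact so_t1 17 43 1 1 (by norm_num) (by norm_num) (by norm_num)
  · exact so_t2 61 (by norm_num) (by norm_num) (by norm_num)
  · exact so_t1 733 2 1 0 (by norm_num) (by norm_num) (by norm_num)
  · exact so_t1 2 367 1 1 (by norm_num) (by norm_num) (by norm_num)
  · exact so_t4 7 3 5 (by norm_num) (by norm_num) (by norm_num) (by norm_num)
  · exact so_t1 2 23 5 1 (by norm_num) (by norm_num) (by norm_num)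
  · exact so_t1 11 67 1 1 (by norm_num) (by norm_num) (by norm_num)
  · exact so_t2 41 (by norm_num) (by norm_num) (by norm_num)
  · exact so_t1 739 2 1 0 (by norm_num) (by norm_num) (by norm_num)
  · exact so_t2 37 (by norm_num) (by norm_num) (by norm_num)
  · exact so_t2 13 (by norm_num) (by norm_num) (by norm_num)
  · exact so_t2 53 (by norm_num) (by norm_num) (by norm_num)
  · exact so_t1 743 2 1 0 (by norm_num) (by norm_num) (by norm_num)
  · exact so_t2 31 (by norm_num) (by norm_num) (by norm_num)
  · exact so_t1 5 149 1 1 (by norm_num) (by norm_num) (by norm_num)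
  · exact so_t1 2 373 1 1 (by norm_num) (by norm_num) (by norm_num)
  · exact so_t1 3 83 2 1 (by norm_num) (by norm_num) (by norm_num)
  · exact so_t2 11 (by norm_num) (by norm_num) (by norm_num)
  · exact so_t1 7 107 1 1 (by norm_num) (by norm_num) (by norm_num)
  · exact so_t3 (by decide)
  · exact so_t1 751 2 1 0 (by norm_num) (by norm_num) (by norm_num)
  · exact so_t1 2 47 4 1 (by norm_num) (by norm_num) (by norm_num)
  · exact so_t1 3 251 1 1 (by norm_num) (by norm_num) (by norm_num)
  · exact so_t2 13 (by norm_num) (by norm_num) (by norm_num)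
  · exact so_t1 5 151 1 1 (by norm_num) (by norm_num) (by norm_num)
  · exact so_hard (by decide)

theorem sv_19 (n : ℕ) (h1 : 757 ≤ n) (h2 : n ≤ 798) : SieveOut n := by
  interval_cases n
  · exact so_t1 757 2 1 0 (by norm_num) (by norm_num) (by norm_num)
  · exact so_t1 2 379 1 1 (by norm_num) (by norm_num) (by norm_num)
  · exact so_t2 11 (by norm_num) (by norm_num) (by norm_num)
  · exact so_t2 19 (by norm_num) (by norm_num) (by norm_num)
  · exact so_t1 761 2 1 0 (by norm_num) (by norm_num) (by norm_num)
  · exact so_t2 127 (by norm_num) (by norm_num) (by norm_num)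
  · exact so_t1 7 109 1 1 (by norm_num) (by norm_num) (by norm_num)
  · exact so_t1 2 191 2 1 (by norm_num) (by norm_num) (by norm_num)
  · exact so_t2 17 (by norm_num) (by norm_num) (by norm_num)
  · exact so_t1 2 383 1 1 (by norm_num) (by norm_num) (by norm_num)
  · exact so_t1 13 59 1 1 (by norm_num) (by norm_num) (by norm_num)
  · exact so_t1 2 3 8 1 (by norm_num) (by norm_num) (by norm_num)
  · exact so_t1 769 2 1 0 (by norm_num) (by norm_num) (by norm_num)
  · exact so_t2 11 (by norm_num) (by norm_num) (by norm_num)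
  · exact so_t1 3 257 1 1 (by norm_num) (by norm_num) (by norm_num)
  · exact so_t1 2 193 2 1 (by norm_num) (by norm_num) (by norm_num)
  · exact so_t1 773 2 1 0 (by norm_num) (by norm_num) (by norm_num)
  · exact so_t2 43 (by norm_num) (by norm_num) (by norm_num)
  · exact so_t1 5 31 2 1 (by norm_num) (by norm_num) (by norm_num)
  · exact so_t1 2 97 3 1 (by norm_num) (by norm_num) (by norm_num)
  · exact so_t2 37 (by norm_num) (by norm_num) (by norm_num)
  · exact so_t1 2 389 1 1 (by norm_num) (by norm_num) (by norm_num)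
  · exact so_t1 19 41 1 1 (by norm_num) (by norm_num) (by norm_num)
  · exact so_t2 13 (by norm_num) (by norm_num) (by norm_num)
  · exact so_t1 11 71 1 1 (by norm_num) (by norm_num) (by norm_num)
  · exact so_t2 17 (by norm_num) (by norm_num) (by norm_num)
  · exact so_t1 3 29 3 1 (by norm_num) (by norm_num) (by norm_num)
  · exact so_t1 2 7 4 2 (by norm_num) (by norm_num) (by norm_num)
  · exact so_t1 5 157 1 1 (by norm_num) (by norm_num) (by norm_num)
  · exact so_t2 131 (by norm_num) (by norm_num) (by norm_num)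
  · exact so_t1 787 2 1 0 (by norm_num) (by norm_num) (by norm_num)
  · exact so_t1 2 197 2 1 (by norm_num) (by norm_num) (by norm_num)
  · exact so_t1 3 263 1 1 (by norm_num) (by norm_num) (by norm_num)
  · exact so_t2 79 (by norm_num) (by norm_num) (by norm_num)
  · exact so_t1 7 113 1 1 (by norm_num) (by norm_num) (by norm_num)
  · exact so_t2 11 (by norm_num) (by norm_num) (by norm_num)
  · exact so_t1 13 61 1 1 (by norm_num) (by norm_num) (by norm_num)
  · exact so_t1 2 397 1 1 (by norm_num) (by norm_num) (by norm_num)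
  · exact so_t2 53 (by norm_num) (by norm_num) (by norm_num)
  · exact so_t1 2 199 2 1 (by norm_num) (by norm_num) (by norm_num)
  · exact so_t1 797 2 1 0 (by norm_num) (by norm_num) (by norm_num)
  · exact so_t2 19 (by norm_num) (by norm_num) (by norm_num)

theorem sv_20 (n : ℕ) (h1 : 799 ≤ n) (h2 : n ≤ 840) : SieveOut n := by
  interval_cases n
  · exact so_t1 17 47 1 1 (by norm_num) (by norm_num) (by norm_num)
  · exact so_t1 2 5 5 2 (by norm_num) (by norm_num) (by norm_num)
  · exact so_t1 3 89 2 1 (by norm_num) (by norm_num) (by norm_num)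
  · exact so_t1 2 401 1 1 (by norm_num) (by norm_num) (by norm_num)
  · exact so_t1 11 73 1 1 (by norm_num) (by norm_num) (by norm_num)
  · exact so_t2 67 (by norm_num) (by norm_num) (by norm_num)
  · exact so_t2 23 (by norm_num) (by norm_num) (by norm_num)
  · exact so_t2 13 (by norm_num) (by norm_num) (by norm_num)
  · exact so_t1 3 269 1 1 (by norm_num) (by norm_num) (by norm_num)
  · exact so_t1 2 101 3 1 (by norm_num) (by norm_num) (by norm_num)
  · exact so_t1 809 2 1 0 (by norm_num) (by norm_num) (by norm_num)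
  · exact so_t3 (by decide)
  · exact so_t1 811 2 1 0 (by norm_num) (by norm_num) (by norm_num)
  · exact so_t2 29 (by norm_num) (by norm_num) (by norm_num)
  · exact so_t1 3 271 1 1 (by norm_num) (by norm_num) (by norm_num)
  · exact so_t2 11 (by norm_num) (by norm_num) (by norm_num)
  · exact so_t1 5 163 1 1 (by norm_num) (by norm_num) (by norm_num)
  · exact so_t2 17 (by norm_num) (by norm_num) (by norm_num)
  · exact so_t1 19 43 1 1 (by norm_num) (by norm_num) (by norm_num)
  · exact so_t1 2 409 1 1 (by norm_num) (by norm_num) (by norm_num)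
  · exact so_t2 13 (by norm_num) (by norm_num) (by norm_num)
  · exact so_t2 41 (by norm_num) (by norm_num) (by norm_num)
  · exact so_t1 821 2 1 0 (by norm_num) (by norm_num) (by norm_num)
  · exact so_t2 137 (by norm_num) (by norm_num) (by norm_num)
  · exact so_t1 823 2 1 0 (by norm_num) (by norm_num) (by norm_num)
  · exact so_t1 2 103 3 1 (by norm_num) (by norm_num) (by norm_num)
  · exact so_t2 11 (by norm_num) (by norm_num) (by norm_num)
  · exact so_t2 59 (by norm_num) (by norm_num) (by norm_num)
  · exact so_t1 827 2 1 0 (by norm_num) (by norm_num) (by norm_num)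
  · exact so_t2 23 (by norm_num) (by norm_num) (by norm_num)
  · exact so_t1 829 2 1 0 (by norm_num) (by norm_num) (by norm_num)
  · exact so_t2 83 (by norm_num) (by norm_num) (by norm_num)
  · exact so_t1 3 277 1 1 (by norm_num) (by norm_num) (by norm_num)
  · exact so_t1 2 13 6 1 (by norm_num) (by norm_num) (by norm_num)
  · exact so_t1 7 17 2 1 (by norm_num) (by norm_num) (by norm_num)
  · exact so_t2 139 (by norm_num) (by norm_num) (by norm_num)
  · exact so_t1 5 167 1 1 (by norm_num) (by norm_num) (by norm_num)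
  · exact so_t2 11 (by norm_num) (by norm_num) (by norm_num)
  · exact so_t1 3 31 3 1 (by norm_num) (by norm_num) (by norm_num)
  · exact so_t1 2 419 1 1 (by norm_num) (by norm_num) (by norm_num)
  · exact so_t1 839 2 1 0 (by norm_num) (by norm_num) (by norm_num)
  · exact so_hard (by decide)

theorem sv_21 (n : ℕ) (h1 : 841 ≤ n) (h2 : n ≤ 882) : SieveOut n := by
  interval_cases n
  · exact so_t1 29 2 2 0 (by norm_num) (by norm_num) (by norm_num)
  · exact so_t1 2 421 1 1 (by norm_num) (by norm_num) (by norm_num)
  · exact so_t1 3 281 1 1 (by norm_num) (by norm_num) (by norm_num)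
  · exact so_t1 2 211 2 1 (by norm_num) (by norm_num) (by norm_num)
  · exact so_t1 5 13 1 2 (by norm_num) (by norm_num) (by norm_num)
  · exact so_t2 47 (by norm_num) (by norm_num) (by norm_num)
  · exact so_t1 7 11 1 2 (by norm_num) (by norm_num) (by norm_num)
  · exact so_t1 2 53 4 1 (by norm_num) (by norm_num) (by norm_num)
  · exact so_t1 3 283 1 1 (by norm_num) (by norm_num) (by norm_num)
  · exact so_t2 17 (by norm_num) (by norm_num) (by norm_num)
  · exact so_t1 23 37 1 1 (by norm_num) (by norm_num) (by norm_num)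
  · exact so_t2 71 (by norm_num) (by norm_num) (by norm_num)
  · exact so_t1 853 2 1 0 (by norm_num) (by norm_num) (by norm_num)
  · exact so_t2 61 (by norm_num) (by norm_num) (by norm_num)
  · exact so_t2 19 (by norm_num) (by norm_num) (by norm_num)
  · exact so_t1 2 107 3 1 (by norm_num) (by norm_num) (by norm_num)
  · exact so_t1 857 2 1 0 (by norm_num) (by norm_num) (by norm_num)
  · exact so_t2 11 (by norm_num) (by norm_num) (by norm_num)
  · exact so_t1 859 2 1 0 (by norm_num) (by norm_num) (by norm_num)
  · exact so_t2 43 (by norm_num) (by norm_num) (by norm_num)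
  · exact so_t2 41 (by norm_num) (by norm_num) (by norm_num)
  · exact so_t1 2 431 1 1 (by norm_num) (by norm_num) (by norm_num)
  · exact so_t1 863 2 1 0 (by norm_num) (by norm_num) (by norm_num)
  · exact so_t1 2 3 5 3 (by norm_num) (by norm_num) (by norm_num)
  · exact so_t1 5 173 1 1 (by norm_num) (by norm_num) (by norm_num)
  · exact so_t1 2 433 1 1 (by norm_num) (by norm_num) (by norm_num)
  · exact so_t1 3 17 1 2 (by norm_num) (by norm_num) (by norm_num)
  · exact so_t2 31 (by norm_num) (by norm_num) (by norm_num)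
  · exact so_t1 11 79 1 1 (by norm_num) (by norm_num) (by norm_num)
  · exact so_t2 29 (by norm_num) (by norm_num) (by norm_num)
  · exact so_t1 13 67 1 1 (by norm_num) (by norm_num) (by norm_num)
  · exact so_t1 2 109 3 1 (by norm_num) (by norm_num) (by norm_num)
  · exact so_t1 3 97 2 1 (by norm_num) (by norm_num) (by norm_num)
  · exact so_t2 19 (by norm_num) (by norm_num) (by norm_num)
  · exact so_t1 5 7 3 1 (by norm_num) (by norm_num) (by norm_num)
  · exact so_t2 73 (by norm_num) (by norm_num) (by norm_num)
  · exact so_t1 877 2 1 0 (by norm_num) (by norm_num) (by norm_num)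
  · exact so_t1 2 439 1 1 (by norm_num) (by norm_num) (by norm_num)
  · exact so_t1 3 293 1 1 (by norm_num) (by norm_num) (by norm_num)
  · exact so_t2 11 (by norm_num) (by norm_num) (by norm_num)
  · exact so_t1 881 2 1 0 (by norm_num) (by norm_num) (by norm_num)
  · exact so_t3 (by decide)

theorem sv_22 (n : ℕ) (h1 : 883 ≤ n) (h2 : n ≤ 924) : SieveOut n := by
  interval_cases n
  · exact so_t1 883 2 1 0 (by norm_num) (by norm_num) (by norm_num)
  · exact so_t2 13 (by norm_num) (by norm_num) (by norm_num)
  · exact so_t2 59 (by norm_num) (by norm_num) (by norm_num)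
  · exact so_t1 2 443 1 1 (by norm_num) (by norm_num) (by norm_num)
  · exact so_t1 887 2 1 0 (by norm_num) (by norm_num) (by norm_num)
  · exact so_t2 37 (by norm_num) (by norm_num) (by norm_num)
  · exact so_t1 7 127 1 1 (by norm_num) (by norm_num) (by norm_num)
  · exact so_t2 89 (by norm_num) (by norm_num) (by norm_num)
  · exact so_t1 3 11 4 1 (by norm_num) (by norm_num) (by norm_num)
  · exact so_t1 2 223 2 1 (by norm_num) (by norm_num) (by norm_num)
  · exact so_t1 19 47 1 1 (by norm_num) (by norm_num) (by norm_num)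
  · exact so_t2 149 (by norm_num) (by norm_num) (by norm_num)
  · exact so_t1 5 179 1 1 (by norm_num) (by norm_num) (by norm_num)
  · exact so_t1 2 7 7 1 (by norm_num) (by norm_num) (by norm_num)
  · exact so_t2 13 (by norm_num) (by norm_num) (by norm_num)
  · exact so_t1 2 449 1 1 (by norm_num) (by norm_num) (by norm_num)
  · exact so_t1 29 31 1 1 (by norm_num) (by norm_num) (by norm_num)
  · exact so_hard (by decide)
  · exact so_t1 17 53 1 1 (by norm_num) (by norm_num) (by norm_num)
  · exact so_t2 11 (by norm_num) (by norm_num) (by norm_num)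
  · exact so_t2 43 (by norm_num) (by norm_num) (by norm_num)
  · exact so_t1 2 113 3 1 (by norm_num) (by norm_num) (by norm_num)
  · exact so_t1 5 181 1 1 (by norm_num) (by norm_num) (by norm_num)
  · exact so_t2 151 (by norm_num) (by norm_num) (by norm_num)
  · exact so_t1 907 2 1 0 (by norm_num) (by norm_num) (by norm_num)
  · exact so_t1 2 227 2 1 (by norm_num) (by norm_num) (by norm_num)
  · exact so_t1 3 101 2 1 (by norm_num) (by norm_num) (by norm_num)
  · exact so_t2 13 (by norm_num) (by norm_num) (by norm_num)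
  · exact so_t1 911 2 1 0 (by norm_num) (by norm_num) (by norm_num)
  · exact so_t2 19 (by norm_num) (by norm_num) (by norm_num)
  · exact so_t1 11 83 1 1 (by norm_num) (by norm_num) (by norm_num)
  · exact so_t1 2 457 1 1 (by norm_num) (by norm_num) (by norm_num)
  · exact so_t2 61 (by norm_num) (by norm_num) (by norm_num)
  · exact so_t1 2 229 2 1 (by norm_num) (by norm_num) (by norm_num)
  · exact so_t1 7 131 1 1 (by norm_num) (by norm_num) (by norm_num)
  · exact so_t2 17 (by norm_num) (by norm_num) (by norm_num)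
  · exact so_t1 919 2 1 0 (by norm_num) (by norm_num) (by norm_num)
  · exact so_t2 23 (by norm_num) (by norm_num) (by norm_num)
  · exact so_t1 3 307 1 1 (by norm_num) (by norm_num) (by norm_num)
  · exact so_t1 2 461 1 1 (by norm_num) (by norm_num) (by norm_num)
  · exact so_t1 13 71 1 1 (by norm_num) (by norm_num) (by norm_num)
  · exact so_t2 11 (by norm_num) (by norm_num) (by norm_num)

theorem sv_23 (n : ℕ) (h1 : 925 ≤ n) (h2 : n ≤ 966) : SieveOut n := by
  interval_cases n
  · exact so_t1 5 37 2 1 (by norm_num) (by norm_num) (by norm_num)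
  · exact so_t1 2 463 1 1 (by norm_num) (by norm_num) (by norm_num)
  · exact so_t1 3 103 2 1 (by norm_num) (by norm_num) (by norm_num)
  · exact so_t1 2 29 5 1 (by norm_num) (by norm_num) (by norm_num)
  · exact so_t1 929 2 1 0 (by norm_num) (by norm_num) (by norm_num)
  · exact so_t2 31 (by norm_num) (by norm_num) (by norm_num)
  · exact so_t1 7 19 2 1 (by norm_num) (by norm_num) (by norm_num)
  · exact so_t1 2 233 2 1 (by norm_num) (by norm_num) (by norm_num)
  · exact so_t1 3 311 1 1 (by norm_num) (by norm_num) (by norm_num)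
  · exact so_t1 2 467 1 1 (by norm_num) (by norm_num) (by norm_num)
  · exact so_t2 11 (by norm_num) (by norm_num) (by norm_num)
  · exact so_t2 13 (by norm_num) (by norm_num) (by norm_num)
  · exact so_t1 937 2 1 0 (by norm_num) (by norm_num) (by norm_num)
  · exact so_t2 67 (by norm_num) (by norm_num) (by norm_num)
  · exact so_t1 3 313 1 1 (by norm_num) (by norm_num) (by norm_num)
  · exact so_t2 47 (by norm_num) (by norm_num) (by norm_num)
  · exact so_t1 941 2 1 0 (by norm_num) (by norm_num) (by norm_num)
  · exact so_t2 157 (by norm_num) (by norm_num) (by norm_num)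
  · exact so_t1 23 41 1 1 (by norm_num) (by norm_num) (by norm_num)
  · exact so_t1 2 59 4 1 (by norm_num) (by norm_num) (by norm_num)
  · exact so_hard (by decide)
  · exact so_t2 11 (by norm_num) (by norm_num) (by norm_num)
  · exact so_t1 947 2 1 0 (by norm_num) (by norm_num) (by norm_num)
  · exact so_t2 79 (by norm_num) (by norm_num) (by norm_num)
  · exact so_t1 13 73 1 1 (by norm_num) (by norm_num) (by norm_num)
  · exact so_t2 19 (by norm_num) (by norm_num) (by norm_num)
  · exact so_t1 3 317 1 1 (by norm_num) (by norm_num) (by norm_num)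
  · exact so_t2 17 (by norm_num) (by norm_num) (by norm_num)
  · exact so_t1 953 2 1 0 (by norm_num) (by norm_num) (by norm_num)
  · exact so_t2 53 (by norm_num) (by norm_num) (by norm_num)
  · exact so_t1 5 191 1 1 (by norm_num) (by norm_num) (by norm_num)
  · exact so_t1 2 239 2 1 (by norm_num) (by norm_num) (by norm_num)
  · exact so_t2 11 (by norm_num) (by norm_num) (by norm_num)
  · exact so_t1 2 479 1 1 (by norm_num) (by norm_num) (by norm_num)
  · exact so_t1 7 137 1 1 (by norm_num) (by norm_num) (by norm_num)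
  · exact so_hard (by decide)
  · exact so_t1 31 2 2 0 (by norm_num) (by norm_num) (by norm_num)
  · exact so_t2 13 (by norm_num) (by norm_num) (by norm_num)
  · exact so_t1 3 107 2 1 (by norm_num) (by norm_num) (by norm_num)
  · exact so_t1 2 241 2 1 (by norm_num) (by norm_num) (by norm_num)
  · exact so_t1 5 193 1 1 (by norm_num) (by norm_num) (by norm_num)
  · exact so_t2 23 (by norm_num) (by norm_num) (by norm_num)

theorem sv_24 (n : ℕ) (h1 : 967 ≤ n) (h2 : n ≤ 1008) : SieveOut n := by
  interval_cases n
  · exact so_t1 967 2 1 0 (by norm_num) (by norm_num) (by norm_num)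
  · exact so_t1 2 11 3 2 (by norm_num) (by norm_num) (by norm_num)
  · exact so_t2 17 (by norm_num) (by norm_num) (by norm_num)
  · exact so_t2 97 (by norm_num) (by norm_num) (by norm_num)
  · exact so_t1 971 2 1 0 (by norm_num) (by norm_num) (by norm_num)
  · exact so_t1 2 3 2 5 (by norm_num) (by norm_num) (by norm_num)
  · exact so_t1 7 139 1 1 (by norm_num) (by norm_num) (by norm_num)
  · exact so_t1 2 487 1 1 (by norm_num) (by norm_num) (by norm_num)
  · exact so_t2 13 (by norm_num) (by norm_num) (by norm_num)
  · exact so_t1 2 61 4 1 (by norm_num) (by norm_num) (by norm_num)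
  · exact so_t1 977 2 1 0 (by norm_num) (by norm_num) (by norm_num)
  · exact so_t2 163 (by norm_num) (by norm_num) (by norm_num)
  · exact so_t1 11 89 1 1 (by norm_num) (by norm_num) (by norm_num)
  · exact so_t3 (by decide)
  · exact so_t1 3 109 2 1 (by norm_num) (by norm_num) (by norm_num)
  · exact so_t1 2 491 1 1 (by norm_num) (by norm_num) (by norm_num)
  · exact so_t1 983 2 1 0 (by norm_num) (by norm_num) (by norm_num)
  · exact so_t2 41 (by norm_num) (by norm_num) (by norm_num)
  · exact so_t1 5 197 1 1 (by norm_num) (by norm_num) (by norm_num)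
  · exact so_t2 17 (by norm_num) (by norm_num) (by norm_num)
  · exact so_t2 47 (by norm_num) (by norm_num) (by norm_num)
  · exact so_t2 13 (by norm_num) (by norm_num) (by norm_num)
  · exact so_t1 23 43 1 1 (by norm_num) (by norm_num) (by norm_num)
  · exact so_t2 11 (by norm_num) (by norm_num) (by norm_num)
  · exact so_t1 991 2 1 0 (by norm_num) (by norm_num) (by norm_num)
  · exact so_t1 2 31 5 1 (by norm_num) (by norm_num) (by norm_num)
  · exact so_t1 3 331 1 1 (by norm_num) (by norm_num) (by norm_num)
  · exact so_t2 71 (by norm_num) (by norm_num) (by norm_num)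
  · exact so_t1 5 199 1 1 (by norm_num) (by norm_num) (by norm_num)
  · exact so_t2 83 (by norm_num) (by norm_num) (by norm_num)
  · exact so_t1 997 2 1 0 (by norm_num) (by norm_num) (by norm_num)
  · exact so_t1 2 499 1 1 (by norm_num) (by norm_num) (by norm_num)
  · exact so_t1 3 37 3 1 (by norm_num) (by norm_num) (by norm_num)
  · exact so_t1 2 5 3 3 (by norm_num) (by norm_num) (by norm_num)
  · exact so_t2 11 (by norm_num) (by norm_num) (by norm_num)
  · exact so_t2 167 (by norm_num) (by norm_num) (by norm_num)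
  · exact so_t1 17 59 1 1 (by norm_num) (by norm_num) (by norm_num)
  · exact so_t1 2 251 2 1 (by norm_num) (by norm_num) (by norm_num)
  · exact so_t2 67 (by norm_num) (by norm_num) (by norm_num)
  · exact so_t1 2 503 1 1 (by norm_num) (by norm_num) (by norm_num)
  · exact so_t1 19 53 1 1 (by norm_num) (by norm_num) (by norm_num)
  · exact so_hard (by decide)

theorem sv_25 (n : ℕ) (h1 : 1009 ≤ n) (h2 : n ≤ 1050) : SieveOut n := by
  interval_cases n
  · exact so_t1 1009 2 1 0 (by norm_num) (by norm_num) (by norm_num)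
  · exact so_t2 101 (by norm_num) (by norm_num) (by norm_num)
  · exact so_t1 3 337 1 1 (by norm_num) (by norm_num) (by norm_num)
  · exact so_t2 11 (by norm_num) (by norm_num) (by norm_num)
  · exact so_t1 1013 2 1 0 (by norm_num) (by norm_num) (by norm_num)
  · exact so_t2 13 (by norm_num) (by norm_num) (by norm_num)
  · exact so_t2 29 (by norm_num) (by norm_num) (by norm_num)
  · exact so_t1 2 127 3 1 (by norm_num) (by norm_num) (by norm_num)
  · exact so_t1 3 113 2 1 (by norm_num) (by norm_num) (by norm_num)
  · exact so_t1 2 509 1 1 (by norm_num) (by norm_num) (by norm_num)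
  · exact so_t1 1019 2 1 0 (by norm_num) (by norm_num) (by norm_num)
  · exact so_t2 17 (by norm_num) (by norm_num) (by norm_num)
  · exact so_t1 1021 2 1 0 (by norm_num) (by norm_num) (by norm_num)
  · exact so_t2 73 (by norm_num) (by norm_num) (by norm_num)
  · exact so_t2 11 (by norm_num) (by norm_num) (by norm_num)
  · exact so_t1 2 2 10 0 (by norm_num) (by norm_num) (by norm_num)
  · exact so_t1 5 41 2 1 (by norm_num) (by norm_num) (by norm_num)
  · exact so_t2 19 (by norm_num) (by norm_num) (by norm_num)
  · exact so_t1 13 79 1 1 (by norm_num) (by norm_num) (by norm_num)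
  · exact so_t1 2 257 2 1 (by norm_num) (by norm_num) (by norm_num)
  · exact so_t1 3 7 1 3 (by norm_num) (by norm_num) (by norm_num)
  · exact so_t2 103 (by norm_num) (by norm_num) (by norm_num)
  · exact so_t1 1031 2 1 0 (by norm_num) (by norm_num) (by norm_num)
  · exact so_t2 43 (by norm_num) (by norm_num) (by norm_num)
  · exact so_t1 1033 2 1 0 (by norm_num) (by norm_num) (by norm_num)
  · exact so_t2 11 (by norm_num) (by norm_num) (by norm_num)
  · exact so_t2 23 (by norm_num) (by norm_num) (by norm_num)
  · exact so_t2 37 (by norm_num) (by norm_num) (by norm_num)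
  · exact so_t1 17 61 1 1 (by norm_num) (by norm_num) (by norm_num)
  · exact so_t2 173 (by norm_num) (by norm_num) (by norm_num)
  · exact so_t1 1039 2 1 0 (by norm_num) (by norm_num) (by norm_num)
  · exact so_t2 13 (by norm_num) (by norm_num) (by norm_num)
  · exact so_t1 3 347 1 1 (by norm_num) (by norm_num) (by norm_num)
  · exact so_t1 2 521 1 1 (by norm_num) (by norm_num) (by norm_num)
  · exact so_t1 7 149 1 1 (by norm_num) (by norm_num) (by norm_num)
  · exact so_t2 29 (by norm_num) (by norm_num) (by norm_num)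
  · exact so_t2 11 (by norm_num) (by norm_num) (by norm_num)
  · exact so_t1 2 523 1 1 (by norm_num) (by norm_num) (by norm_num)
  · exact so_t1 3 349 1 1 (by norm_num) (by norm_num) (by norm_num)
  · exact so_t1 2 131 3 1 (by norm_num) (by norm_num) (by norm_num)
  · exact so_t1 1049 2 1 0 (by norm_num) (by norm_num) (by norm_num)
  · exact so_t3 (by decide)

theorem sv_26 (n : ℕ) (h1 : 1051 ≤ n) (h2 : n ≤ 1092) : SieveOut n := by
  interval_cases n
  · exact so_t1 1051 2 1 0 (by norm_num) (by norm_num) (by norm_num)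
  · exact so_t1 2 263 2 1 (by norm_num) (by norm_num) (by norm_num)
  · exact so_t1 3 13 4 1 (by norm_num) (by norm_num) (by norm_num)
  · exact so_t2 17 (by norm_num) (by norm_num) (by norm_num)
  · exact so_t1 5 211 1 1 (by norm_num) (by norm_num) (by norm_num)
  · exact so_t2 11 (by norm_num) (by norm_num) (by norm_num)
  · exact so_t1 7 151 1 1 (by norm_num) (by norm_num) (by norm_num)
  · exact so_t1 2 23 1 2 (by norm_num) (by norm_num) (by norm_num)
  · exact so_t1 3 353 1 1 (by norm_num) (by norm_num) (by norm_num)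
  · exact so_t2 53 (by norm_num) (by norm_num) (by norm_num)
  · exact so_t1 1061 2 1 0 (by norm_num) (by norm_num) (by norm_num)
  · exact so_t2 59 (by norm_num) (by norm_num) (by norm_num)
  · exact so_t1 1063 2 1 0 (by norm_num) (by norm_num) (by norm_num)
  · exact so_t2 19 (by norm_num) (by norm_num) (by norm_num)
  · exact so_t2 71 (by norm_num) (by norm_num) (by norm_num)
  · exact so_t2 13 (by norm_num) (by norm_num) (by norm_num)
  · exact so_t1 11 97 1 1 (by norm_num) (by norm_num) (by norm_num)
  · exact so_t2 89 (by norm_num) (by norm_num) (by norm_num)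
  · exact so_t1 1069 2 1 0 (by norm_num) (by norm_num) (by norm_num)
  · exact so_t2 107 (by norm_num) (by norm_num) (by norm_num)
  · exact so_t2 17 (by norm_num) (by norm_num) (by norm_num)
  · exact so_t1 2 67 4 1 (by norm_num) (by norm_num) (by norm_num)
  · exact so_t1 29 37 1 1 (by norm_num) (by norm_num) (by norm_num)
  · exact so_t2 179 (by norm_num) (by norm_num) (by norm_num)
  · exact so_t1 5 43 2 1 (by norm_num) (by norm_num) (by norm_num)
  · exact so_t1 2 269 2 1 (by norm_num) (by norm_num) (by norm_num)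
  · exact so_t1 3 359 1 1 (by norm_num) (by norm_num) (by norm_num)
  · exact so_t2 11 (by norm_num) (by norm_num) (by norm_num)
  · exact so_t1 13 83 1 1 (by norm_num) (by norm_num) (by norm_num)
  · exact so_hard (by decide)
  · exact so_t1 23 47 1 1 (by norm_num) (by norm_num) (by norm_num)
  · exact so_t1 2 541 1 1 (by norm_num) (by norm_num) (by norm_num)
  · exact so_t1 3 19 1 2 (by norm_num) (by norm_num) (by norm_num)
  · exact so_t1 2 271 2 1 (by norm_num) (by norm_num) (by norm_num)
  · exact so_t2 31 (by norm_num) (by norm_num) (by norm_num)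
  · exact so_t2 181 (by norm_num) (by norm_num) (by norm_num)
  · exact so_t1 1087 2 1 0 (by norm_num) (by norm_num) (by norm_num)
  · exact so_t1 2 17 6 1 (by norm_num) (by norm_num) (by norm_num)
  · exact so_t1 3 11 2 2 (by norm_num) (by norm_num) (by norm_num)
  · exact so_t2 109 (by norm_num) (by norm_num) (by norm_num)
  · exact so_t1 1091 2 1 0 (by norm_num) (by norm_num) (by norm_num)
  · exact so_good (by decide)

theorem sieve (n : ℕ) (h1 : 1 ≤ n) (h : n ≤ 1092) : SieveOut n := by
  by_cases c1 : n ≤ 42
  · exact sv_1 n (by omega) c1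
  by_cases c2 : n ≤ 84
  · exact sv_2 n (by omega) c2
  by_cases c3 : n ≤ 126
  · exact sv_3 n (by omega) c3
  by_cases c4 : n ≤ 168
  · exact sv_4 n (by omega) c4
  by_cases c5 : n ≤ 210
  · exact sv_5 n (by omega) c5
  by_cases c6 : n ≤ 252
  · exact sv_6 n (by omega) c6
  by_cases c7 : n ≤ 294
  · exact sv_7 n (by omega) c7
  by_cases c8 : n ≤ 336
  · exact sv_8 n (by omega) c8
  by_cases c9 : n ≤ 378
  · exact sv_9 n (by omega) c9
  by_cases c10 : n ≤ 420
  · exact sv_10 n (by omega) c10
  by_cases c11 : n ≤ 462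
  · exact sv_11 n (by omega) c11
  by_cases c12 : n ≤ 504
  · exact sv_12 n (by omega) c12
  by_cases c13 : n ≤ 546
  · exact sv_13 n (by omega) c13
  by_cases c14 : n ≤ 588
  · exact sv_14 n (by omega) c14
  by_cases c15 : n ≤ 630
  · exact sv_15 n (by omega) c15
  by_cases c16 : n ≤ 672
  · exact sv_16 n (by omega) c16
  by_cases c17 : n ≤ 714
  · exact sv_17 n (by omega) c17
  by_cases c18 : n ≤ 756
  · exact sv_18 n (by omega) c18
  by_cases c19 : n ≤ 798
  · exact sv_19 n (by omega) c19
  by_cases c20 : n ≤ 840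
  · exact sv_20 n (by omega) c20
  by_cases c21 : n ≤ 882
  · exact sv_21 n (by omega) c21
  by_cases c22 : n ≤ 924
  · exact sv_22 n (by omega) c22
  by_cases c23 : n ≤ 966
  · exact sv_23 n (by omega) c23
  by_cases c24 : n ≤ 1008
  · exact sv_24 n (by omega) c24
  by_cases c25 : n ≤ 1050
  · exact sv_25 n (by omega) c25
  exact sv_26 n (by omega) h

end Cfsg.Agent.Helper27.O1092
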