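import Mathlib
import Cfsg.Agent.Helper94.S43Defs
import Cfsg.Agent.Helper27.SQK3

/-! CALL S43 (helper94), piece SKEW3: a skew `3 × 3` matrix with scalar square vanishes. -/

set_option autoImplicit false

namespace Cfsg.Agent.Helper27.S43SKEW3

open Matrix Cfsg.Agent.Helper71.T4 Cfsg.Agent.Helper94.S43
open Cfsg.Agent.Helper71.SO (bl ruw Nuw)
open scoped Kronecker

variable {F : Type*} [Field F]

/-! ## PIECE SKEW3 (pure linear algebra) -/

theorem skew3 (h2 : (2 : F) ≠ 0) (S : Matrix (Fin 3) (Fin 3) F) (hS : Sᵀ = S) (hdet : S.det ≠ 0)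
    (A : Matrix (Fin 3) (Fin 3) F) (hA : Aᵀ * S = -(S * A)) (c : F)
    (hAA : A * A = c • (1 : Matrix (Fin 3) (Fin 3) F)) : A = 0 := by
  have hK : (S * A)ᵀ = -(S * A) := by
    rw [Matrix.transpose_mul, hS, hA]
  have hdSA : (S * A).det = 0 := by
    have e := congrArg Matrix.det hK
    rw [Matrix.det_transpose, Matrix.det_neg, Fintype.card_fin] at e
    have e3 : (2 : F) * (S * A).det = 0 := by linear_combination e
    exact (mul_eq_zero.mp e3).resolve_left h2
  have hdA : A.det = 0 := by
    rw [Matrix.det_mul] at hdSA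
    exact (mul_eq_zero.mp hdSA).resolve_left hdet
  have hc : c = 0 := by
    have e := congrArg Matrix.det hAA
    rw [Matrix.det_mul, hdA, Matrix.det_smul, Matrix.det_one, Fintype.card_fin, mul_one,
      mul_zero] at e
    exact pow_eq_zero_iff (by norm_num) |>.mp e.symm
  have hAA0 : A * A = 0 := by rw [hAA, hc, zero_smul]
  exact Cfsg.Agent.Helper27.SQK3.skew3_aux h2 S hS hdet A hK hAA0

end Cfsg.Agent.Helper27.S43SKEW3
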