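import Mathlib

/-!
# CALL SL2L (helper2), piece G1 (double): `|K|` divides `p² - 1`
-/

set_option autoImplicit false

namespace Cfsg.Agent.Helper27

open Subgroup

universe u

variable {Γ : Type u} [Group Γ] [Finite Γ]

/-- PIECE G1: `K` acts by conjugation on the `p³ - p` elements of `P ∖ Z` without fixed points
(`k a k⁻¹ = a` forces `a ∈ Z`), so `|K|` divides `p (p² - 1)`; and `|K|` is prime to `p`. -/
theorem sl2l_card_dvd {p : ℕ} (hp : p.Prime) {P Z K : Subgroup Γ} (hPc : Nat.card P = p ^ 3)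
    (hZP : Z ≤ P) (hZc : Nat.card Z = p) (hKn : ∀ k ∈ K, ∀ a ∈ P, k * a * k⁻¹ ∈ P)
    (hKp : (Nat.card K).Coprime p)
    (hfix : ∀ k ∈ K, k ≠ 1 → ∀ a ∈ P, k * a = a * k → a ∈ Z)
    (hKZ : ∀ k ∈ K, ∀ z ∈ Z, k * z = z * k) : Nat.card K ∣ p ^ 2 - 1 := by
  classical
  -- the action of `K` on `P ∖ Z`
  have hmem : ∀ k ∈ K, ∀ a : Γ, a ∈ P ∧ a ∉ Z → k * a * k⁻¹ ∈ P ∧ k * a * k⁻¹ ∉ Z := by
    intro k hk a ha
    refine ⟨hKn k hk a ha.1, fun hz => ha.2 ?_⟩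
    have h1 := hKZ k hk _ hz
    have h2 : k * (k * a * k⁻¹) = k * a := by
      rw [h1]; group
    rw [← mul_left_cancel h2]
    exact hz
  let act : MulAction K {a : Γ // a ∈ P ∧ a ∉ Z} :=
    { smul := fun k a => ⟨(k : Γ) * a.1 * (k : Γ)⁻¹, hmem k.1 k.2 a.1 a.2⟩
      one_smul := fun a => by
        apply Subtype.ext
        show ((1 : K) : Γ) * a.1 * ((1 : K) : Γ)⁻¹ = a.1
        simp
      mul_smul := fun k l a => by
        apply Subtype.ext
        show ((k * l : K) : Γ) * a.1 * ((k * l : K) : Γ)⁻¹ = (k : Γ) * ((l : Γ) * a.1 * (l : Γ)⁻¹) * (k : Γ)⁻¹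
        rw [Subgroup.coe_mul]
        group }
  have hfree : ∀ b : {a : Γ // a ∈ P ∧ a ∉ Z}, MulAction.stabilizer K b = ⊥ := by
    intro b
    rw [eq_bot_iff]
    intro k hk
    rw [MulAction.mem_stabilizer_iff] at hk
    rw [Subgroup.mem_bot]
    by_contra hk1
    have h1 : (k : Γ) * b.1 * (k : Γ)⁻¹ = b.1 := congrArg Subtype.val hk
    have h2 : (k : Γ) * b.1 = b.1 * (k : Γ) := by
      calc (k : Γ) * b.1 = ((k : Γ) * b.1 * (k : Γ)⁻¹) * (k : Γ) := by group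
        _ = b.1 * (k : Γ) := by rw [h1]
    have hk1' : (k : Γ) ≠ 1 := fun h => hk1 (Subtype.ext h)
    exact b.2.2 (hfix k.1 k.2 hk1' b.1 b.2.1 h2)
  have hcard : Nat.card {a : Γ // a ∈ P ∧ a ∉ Z} =
      Nat.card (Quotient (MulAction.orbitRel K {a : Γ // a ∈ P ∧ a ∉ Z})) * Nat.card K := by
    rw [← Nat.card_prod]
    exact Nat.card_congr (MulAction.selfEquivOrbitsQuotientProd hfree)
  have hS : Nat.card {a : Γ // a ∈ P ∧ a ∉ Z} = p ^ 3 - p := by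
    have h1 : Nat.card {a : Γ // a ∈ P ∧ a ∉ Z} = ((P : Set Γ) \ (Z : Set Γ)).ncard := by
      rw [← Nat.card_coe_set_eq]
      rfl
    rw [h1, Set.ncard_sdiff (by exact_mod_cast hZP) (Set.toFinite _)]
    rw [← Nat.card_coe_set_eq, ← Nat.card_coe_set_eq]
    change Nat.card P - Nat.card Z = _
    rw [hPc, hZc]
  have hdvd : Nat.card K ∣ p * (p ^ 2 - 1) := by
    have h1 : p * (p ^ 2 - 1) = p ^ 3 - p := by
      rw [Nat.mul_sub, mul_one]
      ring_nf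
    rw [h1, ← hS, hcard]
    exact dvd_mul_left _ _
  exact hKp.dvd_of_dvd_mul_left hdvd

end Cfsg.Agent.Helper27
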