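import Mathlib
import Cfsg.Prelude.Def_Sporadic_a
import Cfsg.Agent.Helper27.Mask

/-!
Bitmask tools for subsets of `Fin v`, used by the verified exact-cover search for small
Steiner systems (`SteinerDfsB`).
-/

set_option autoImplicit false

namespace Cfsg.Agent.Helper27.SD

open Cfsg

/-! ### masks of subsets of `Fin v` -/

/-- the subset of `Fin v` with a given mask -/
def fs (v m : ℕ) : Finset (Fin v) := Finset.univ.filter fun i => m.testBit i.val = true

theorem mem_fs {v m : ℕ} {i : Fin v} : i ∈ fs v m ↔ m.testBit i.val = true := by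
  simp [fs]

/-- the mask of a subset of `Fin v` -/
def msk {v : ℕ} (s : Finset (Fin v)) : ℕ := maskOf (fun i : Fin v => i.val) s

theorem msk_lt {v : ℕ} (s : Finset (Fin v)) : msk s < 2 ^ v :=
  maskOf_lt _ Fin.val_injective v (fun a => a.2) s

theorem testBit_msk {v : ℕ} (s : Finset (Fin v)) (i : Fin v) :
    (msk s).testBit i.val = true ↔ i ∈ s :=
  testBit_maskOf _ Fin.val_injective s i

theorem testBit_of_lt {m v j : ℕ} (hm : m < 2 ^ v) (hj : v ≤ j) : m.testBit j = false :=
  Nat.testBit_lt_two_pow (lt_of_lt_of_le hm (Nat.pow_le_pow_right (by norm_num) hj))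

theorem lt_of_testBit {m v j : ℕ} (hm : m < 2 ^ v) (hj : m.testBit j = true) : j < v := by
  by_contra h
  rw [testBit_of_lt hm (not_lt.mp h)] at hj
  exact Bool.false_ne_true hj

theorem fs_msk {v : ℕ} (s : Finset (Fin v)) : fs v (msk s) = s := by
  ext i; rw [mem_fs, testBit_msk]

theorem msk_fs {v m : ℕ} (hm : m < 2 ^ v) : msk (fs v m) = m := by
  apply Nat.eq_of_testBit_eq
  intro j
  by_cases hj : j < v
  · have h := testBit_msk (fs v m) ⟨j, hj⟩
    rw [mem_fs] at h
    exact Bool.eq_iff_iff.mpr h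
  · rw [testBit_of_lt (msk_lt _) (not_lt.mp hj), testBit_of_lt hm (not_lt.mp hj)]

theorem card_fs {v m : ℕ} (hm : m < 2 ^ v) : (fs v m).card = popc v m := by
  have h := popc_maskOf (fun i : Fin v => i.val) Fin.val_injective v (fun a => a.2) (fs v m)
  have h2 : maskOf (fun i : Fin v => i.val) (fs v m) = m := msk_fs hm
  rw [h2] at h
  exact h.symm

theorem card_eq_popc_msk {v : ℕ} (s : Finset (Fin v)) : s.card = popc v (msk s) :=
  (popc_maskOf (fun i : Fin v => i.val) Fin.val_injective v (fun a => a.2) s).symm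

theorem fs_or_pow {v s p : ℕ} (hp : p < v) :
    fs v (s ||| 2 ^ p) = insert ⟨p, hp⟩ (fs v s) := by
  ext i
  rw [mem_fs, Finset.mem_insert, mem_fs, Nat.testBit_lor, Nat.testBit_two_pow, Bool.or_eq_true,
    decide_eq_true_eq, Fin.ext_iff]
  constructor
  · rintro (h | h)
    · exact Or.inr h
    · exact Or.inl h.symm
  · rintro (h | h)
    · exact Or.inr h.symm
    · exact Or.inl h

theorem fs_xor_pow {v b q : ℕ} (hq : q < v) (hb : b.testBit q = true) :
    fs v (b ^^^ 2 ^ q) = (fs v b).erase ⟨q, hq⟩ := by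
  ext i
  rw [mem_fs, Finset.mem_erase, mem_fs, Nat.testBit_xor, Nat.testBit_two_pow, Ne, Fin.ext_iff]
  by_cases h : q = i.val
  · rw [← h, hb]
    simp
  · have h' : ¬ i.val = q := fun e => h e.symm
    simp [h, h']

theorem or_xor_pow {s p : ℕ} (hs : s.testBit p = false) : (s ||| 2 ^ p) ^^^ 2 ^ p = s := by
  apply Nat.eq_of_testBit_eq
  intro i
  rw [Nat.testBit_xor, Nat.testBit_lor, Nat.testBit_two_pow]
  by_cases h : p = i
  · subst h
    simp [hs]
  · simp [h]

theorem or_pow_lt {v s p : ℕ} (hs : s < 2 ^ v) (hp : p < v) : s ||| 2 ^ p < 2 ^ v :=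
  Nat.or_lt_two_pow hs (Nat.pow_lt_pow_right (by norm_num) hp)

theorem testBit_or_pow_self (s p : ℕ) : (s ||| 2 ^ p).testBit p = true := by
  rw [Nat.testBit_lor, Nat.testBit_two_pow]
  simp

theorem eq_xor_of_fs {v c s p : ℕ} (hc : c < 2 ^ v) (hs : s < 2 ^ v) (hp : p < v)
    (hsp : s.testBit p = false) (h : fs v c = insert ⟨p, hp⟩ (fs v s)) : s = c ^^^ 2 ^ p := by
  apply Nat.eq_of_testBit_eq
  intro i
  rw [Nat.testBit_xor, Nat.testBit_two_pow]
  by_cases hi : i < v
  · have h1 : (⟨i, hi⟩ : Fin v) ∈ fs v c ↔ (⟨i, hi⟩ : Fin v) ∈ insert ⟨p, hp⟩ (fs v s) := by rw [h]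
    rw [mem_fs, Finset.mem_insert, mem_fs, Fin.ext_iff] at h1
    by_cases hpi : p = i
    · subst hpi
      have : c.testBit p = true := h1.mpr (Or.inl rfl)
      simp [hsp, this]
    · have h2 : ¬ i = p := fun e => hpi e.symm
      have h3 : c.testBit i = true ↔ s.testBit i = true := by
        rw [h1]
        constructor
        · rintro (e | e)
          · exact absurd e h2
          · exact e
        · exact Or.inr
      have h4 : c.testBit i = s.testBit i := Bool.eq_iff_iff.mpr h3
      simp [hpi, h4]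
  · have hpi : ¬ p = i := by omega
    rw [testBit_of_lt hs (not_lt.mp hi), testBit_of_lt hc (not_lt.mp hi)]
    simp [hpi]

/-! ### kernel-friendly primitives -/

theorem bit_eq (m n : ℕ) : (m >>> n) &&& 1 = if m.testBit n = true then 1 else 0 := by
  rw [Nat.and_one_is_mod, Nat.shiftRight_eq_div_pow, Nat.testBit_eq_decide_div_mod_eq]
  rcases Nat.mod_two_eq_zero_or_one (m / 2 ^ n) with h | h <;> simp [h]

/-- fast bit test -/
def tb (m n : ℕ) : Bool := Nat.beq (Nat.land (Nat.shiftRight m n) 1) 1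

theorem tb_eq (m n : ℕ) : tb m n = m.testBit n := by
  have h : tb m n = Nat.beq ((m >>> n) &&& 1) 1 := rfl
  rw [h, bit_eq]
  cases m.testBit n <;> rfl

/-- fast popcount of the low `n` bits -/
def wtF : ℕ → ℕ → ℕ
  | 0, _ => 0
  | n + 1, m => Nat.add (Nat.land (Nat.shiftRight m n) 1) (wtF n m)

theorem popc_succ (n m : ℕ) : popc (n + 1) m = popc n m + if m.testBit n = true then 1 else 0 := by
  unfold popc
  rw [List.range_succ, List.filter_append, List.length_append]
  congr 1
  by_cases h : m.testBit n = true <;> simp [h]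

theorem wtF_eq (n m : ℕ) : wtF n m = popc n m := by
  induction n with
  | zero => rfl
  | succ n ih =>
    have h : wtF (n + 1) m = ((m >>> n) &&& 1) + wtF n m := rfl
    rw [h, ih, popc_succ, bit_eq, Nat.add_comm]

/-- `f i` holds for all `i < n` -/
def allB : ℕ → (ℕ → Bool) → Bool
  | 0, _ => true
  | n + 1, f => f n && allB n f

theorem allB_spec {f : ℕ → Bool} : ∀ {n : ℕ}, allB n f = true → ∀ i, i < n → f i = true := by
  intro n
  induction n with
  | zero => intro _ i hi; omega
  | succ n ih =>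
    intro h i hi
    rw [allB, Bool.and_eq_true] at h
    rcases Nat.lt_succ_iff_lt_or_eq.mp hi with h1 | h1
    · exact ih h.2 i h1
    · rw [h1]; exact h.1

/-- membership test with the fast equality test -/
def memB (x : ℕ) : List ℕ → Bool
  | [] => false
  | a :: l => Nat.beq a x || memB x l

theorem memB_iff (x : ℕ) (l : List ℕ) : memB x l = true ↔ x ∈ l := by
  induction l with
  | nil => simp [memB]
  | cons a l ih =>
    rw [memB, Bool.or_eq_true, ih, List.mem_cons]
    constructor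
    · rintro (h | h)
      · exact Or.inl (Nat.eq_of_beq_eq_true h).symm
      · exact Or.inr h
    · rintro (h | h)
      · left; rw [h]; exact Nat.beq_refl a
      · exact Or.inr h

/-- the list `[n - 1, ..., 0]` -/
def downList : ℕ → List ℕ
  | 0 => []
  | n + 1 => n :: downList n

theorem mem_downList {n p : ℕ} : p ∈ downList n ↔ p < n := by
  induction n with
  | zero => simp [downList]
  | succ n ih =>
    rw [downList, List.mem_cons, ih]
    omega

theorem add_two_pow_eq_or {m p : ℕ} (h : m.testBit p = false) : m + 2 ^ p = m ||| 2 ^ p := by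
  have h0 : m / 2 ^ p % 2 = 0 := by
    rw [Nat.testBit_eq_decide_div_mod_eq] at h
    rcases Nat.mod_two_eq_zero_or_one (m / 2 ^ p) with h' | h'
    · exact h'
    · rw [h'] at h; simp at h
  have h1 : m % 2 ^ (p + 1) < 2 ^ p := by
    rw [Nat.mod_pow_succ, h0, Nat.mul_zero, Nat.add_zero]
    exact Nat.mod_lt _ (Nat.two_pow_pos p)
  have h2 : 2 ^ (p + 1) * (m / 2 ^ (p + 1)) + m % 2 ^ (p + 1) = m := Nat.div_add_mod m _
  have hpp : 2 ^ (p + 1) = 2 ^ p + 2 ^ p := by rw [pow_succ]; omega
  have hb : m % 2 ^ (p + 1) + 2 ^ p < 2 ^ (p + 1) := by omega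
  have e1 : 2 ^ p + m % 2 ^ (p + 1) = 2 ^ p ||| m % 2 ^ (p + 1) := by
    have := Nat.two_pow_add_eq_or_of_lt h1 1
    rwa [Nat.mul_one] at this
  have e2 := Nat.two_pow_add_eq_or_of_lt hb (m / 2 ^ (p + 1))
  have e3 := Nat.two_pow_add_eq_or_of_lt (Nat.mod_lt m (Nat.two_pow_pos (p + 1))) (m / 2 ^ (p + 1))
  calc m + 2 ^ p = 2 ^ (p + 1) * (m / 2 ^ (p + 1)) + (m % 2 ^ (p + 1) + 2 ^ p) := by omega
    _ = 2 ^ (p + 1) * (m / 2 ^ (p + 1)) ||| (m % 2 ^ (p + 1) + 2 ^ p) := e2
    _ = 2 ^ (p + 1) * (m / 2 ^ (p + 1)) ||| (m % 2 ^ (p + 1) ||| 2 ^ p) := by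
        rw [Nat.add_comm (m % 2 ^ (p + 1)), e1, Nat.or_comm (2 ^ p)]
    _ = (2 ^ (p + 1) * (m / 2 ^ (p + 1)) ||| m % 2 ^ (p + 1)) ||| 2 ^ p := (Nat.or_assoc _ _ _).symm
    _ = m ||| 2 ^ p := by rw [← e3, h2]

/-! ### the coverage bitset -/

/-- add to `cov` the submasks of `b` obtained by removing one of its first `n` bits -/
def addCovAux (b : ℕ) : ℕ → ℕ → ℕ
  | 0, cov => cov
  | n + 1, cov => addCovAux b n
      (bif tb b n then Nat.lor cov (Nat.pow 2 (Nat.xor b (Nat.pow 2 n))) else cov)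

theorem addCovAux_succ (b n cov : ℕ) : addCovAux b (n + 1) cov =
    addCovAux b n (if b.testBit n = true then cov ||| 2 ^ (b ^^^ 2 ^ n) else cov) := by
  have h : addCovAux b (n + 1) cov = addCovAux b n
      (bif tb b n then cov ||| 2 ^ (b ^^^ 2 ^ n) else cov) := rfl
  rw [h, tb_eq]
  cases b.testBit n <;> rfl

theorem testBit_addCovAux (b : ℕ) : ∀ (n cov x : ℕ), (addCovAux b n cov).testBit x = true ↔
    (cov.testBit x = true ∨ ∃ q, q < n ∧ b.testBit q = true ∧ x = b ^^^ 2 ^ q) := by
  intro n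
  induction n with
  | zero => intro cov x; simp [addCovAux]
  | succ n ih =>
    intro cov x
    rw [addCovAux_succ, ih]
    constructor
    · rintro (h | ⟨q, hq, hb, hx⟩)
      · by_cases hbn : b.testBit n = true
        · rw [if_pos hbn, Nat.testBit_lor, Nat.testBit_two_pow, Bool.or_eq_true,
            decide_eq_true_eq] at h
          rcases h with h | h
          · exact Or.inl h
          · exact Or.inr ⟨n, Nat.lt_succ_self n, hbn, h.symm⟩
        · rw [if_neg hbn] at h
          exact Or.inl h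
      · exact Or.inr ⟨q, Nat.lt_succ_of_lt hq, hb, hx⟩
    · rintro (h | ⟨q, hq, hb, hx⟩)
      · left
        by_cases hbn : b.testBit n = true
        · rw [if_pos hbn, Nat.testBit_lor, h, Bool.true_or]
        · rw [if_neg hbn]; exact h
      · rcases Nat.lt_succ_iff_lt_or_eq.mp hq with hq' | hq'
        · exact Or.inr ⟨q, hq', hb, hx⟩
        · left
          subst hq'
          rw [if_pos hb, Nat.testBit_lor, Nat.testBit_two_pow, hx]
          simp

/-- the union of the shifts `cov >>> (s ^^^ 2 ^ q)` over the bits `q < n` of `s`: its bit `2 ^ p`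
tells whether some `t`-subset of the candidate block `s ||| 2 ^ p` is covered -/
def badAux (cov s : ℕ) : ℕ → ℕ
  | 0 => 0
  | n + 1 => bif tb s n then
      Nat.lor (badAux cov s n) (Nat.shiftRight cov (Nat.xor s (Nat.pow 2 n)))
    else badAux cov s n

theorem badAux_succ (cov s n : ℕ) : badAux cov s (n + 1) =
    if s.testBit n = true then badAux cov s n ||| (cov >>> (s ^^^ 2 ^ n)) else badAux cov s n := by
  have h : badAux cov s (n + 1) =
      bif tb s n then badAux cov s n ||| (cov >>> (s ^^^ 2 ^ n)) else badAux cov s n := rfl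
  rw [h, tb_eq]
  cases s.testBit n <;> rfl

theorem testBit_badAux (cov s : ℕ) : ∀ (n j : ℕ), (badAux cov s n).testBit j = true ↔
    ∃ q, q < n ∧ s.testBit q = true ∧ cov.testBit ((s ^^^ 2 ^ q) + j) = true := by
  intro n
  induction n with
  | zero => intro j; simp [badAux]
  | succ n ih =>
    intro j
    rw [badAux_succ]
    by_cases hs : s.testBit n = true
    · rw [if_pos hs, Nat.testBit_lor, Bool.or_eq_true, ih, Nat.testBit_shiftRight]
      constructor
      · rintro (⟨q, hq, h1, h2⟩ | h)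
        · exact ⟨q, Nat.lt_succ_of_lt hq, h1, h2⟩
        · exact ⟨n, Nat.lt_succ_self n, hs, h⟩
      · rintro ⟨q, hq, h1, h2⟩
        rcases Nat.lt_succ_iff_lt_or_eq.mp hq with hq' | hq'
        · exact Or.inl ⟨q, hq', h1, h2⟩
        · right; rw [← hq']; exact h2
    · rw [if_neg hs, ih]
      constructor
      · rintro ⟨q, hq, h1, h2⟩
        exact ⟨q, Nat.lt_succ_of_lt hq, h1, h2⟩
      · rintro ⟨q, hq, h1, h2⟩
        rcases Nat.lt_succ_iff_lt_or_eq.mp hq with hq' | hq'
        · exact ⟨q, hq', h1, h2⟩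
        · rw [hq'] at h1; exact absurd h1 hs

theorem xor_or_pow {s p q : ℕ} (hq : s.testBit q = true) (hp : s.testBit p = false) :
    (s ^^^ 2 ^ q) ||| 2 ^ p = (s ||| 2 ^ p) ^^^ 2 ^ q := by
  apply Nat.eq_of_testBit_eq
  intro i
  rw [Nat.testBit_lor, Nat.testBit_xor, Nat.testBit_xor, Nat.testBit_lor, Nat.testBit_two_pow,
    Nat.testBit_two_pow]
  by_cases h1 : q = i
  · subst h1
    have h2 : ¬ p = q := by
      intro e; rw [e, hq] at hp; exact Bool.noConfusion hp
    simp [hq, h2]
  · by_cases h2 : p = i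
    · subst h2
      simp [hp, h1]
    · simp [h1, h2]

/-- if bit `2 ^ p` of the shift union is set, some `t`-subset of `s ||| 2 ^ p` is covered -/
theorem bad_spec {v cov s p : ℕ} (hp : s.testBit p = false)
    (h : tb (badAux cov s v) (2 ^ p) = true) :
    ∃ q, q < v ∧ s.testBit q = true ∧ cov.testBit ((s ||| 2 ^ p) ^^^ 2 ^ q) = true := by
  rw [tb_eq, testBit_badAux] at h
  obtain ⟨q, hq, hsq, hc⟩ := h
  refine ⟨q, hq, hsq, ?_⟩
  have h1 : (s ^^^ 2 ^ q).testBit p = false := by
    rw [Nat.testBit_xor, hp, Nat.testBit_two_pow]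
    have : ¬ q = p := by
      intro e; rw [e, hp] at hsq; exact Bool.noConfusion hsq
    simp [this]
  rw [add_two_pow_eq_or h1, xor_or_pow hsq hp] at hc
  exact hc

/-! ### swapping two bits -/

/-- exchange bits `p` and `q` of a mask -/
def swapMask (p q m : ℕ) : ℕ :=
  Nat.xor m (Nat.lor
    (Nat.shiftLeft (Nat.xor (Nat.land (Nat.shiftRight m p) 1) (Nat.land (Nat.shiftRight m q) 1)) p)
    (Nat.shiftLeft (Nat.xor (Nat.land (Nat.shiftRight m p) 1) (Nat.land (Nat.shiftRight m q) 1)) q))

theorem swapMask_eq (p q m : ℕ) : swapMask p q m =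
    if m.testBit p = m.testBit q then m else m ^^^ (2 ^ p ||| 2 ^ q) := by
  have h : swapMask p q m = m ^^^ (((((m >>> p) &&& 1) ^^^ ((m >>> q) &&& 1)) <<< p) |||
      ((((m >>> p) &&& 1) ^^^ ((m >>> q) &&& 1)) <<< q)) := rfl
  rw [h, bit_eq, bit_eq]
  cases h1 : m.testBit p <;> cases h2 : m.testBit q <;> simp [Nat.one_shiftLeft]

theorem testBit_swapMask (p q m i : ℕ) :
    (swapMask p q m).testBit i = m.testBit (if i = p then q else if i = q then p else i) := by
  rw [swapMask_eq]
  by_cases h : m.testBit p = m.testBit q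
  · rw [if_pos h]
    by_cases h1 : i = p
    · rw [if_pos h1, h1, h]
    · rw [if_neg h1]
      by_cases h2 : i = q
      · rw [if_pos h2, h2, h]
      · rw [if_neg h2]
  · rw [if_neg h, Nat.testBit_xor, Nat.testBit_lor, Nat.testBit_two_pow, Nat.testBit_two_pow]
    by_cases h1 : i = p
    · rw [if_pos h1, h1]
      cases hp : m.testBit p <;> cases hq : m.testBit q <;> simp_all
    · rw [if_neg h1]
      by_cases h2 : i = q
      · rw [if_pos h2, h2]
        cases hp : m.testBit p <;> cases hq : m.testBit q <;> simp_all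
      · rw [if_neg h2]
        have h3 : ¬ p = i := fun e => h1 e.symm
        have h4 : ¬ q = i := fun e => h2 e.symm
        simp [h3, h4]

theorem fs_swapMask {v p q : ℕ} (hp : p < v) (hq : q < v) (m : ℕ) :
    fs v (swapMask p q m) = (fs v m).image (Equiv.swap (⟨p, hp⟩ : Fin v) ⟨q, hq⟩) := by
  ext i
  rw [mem_fs, testBit_swapMask, Finset.mem_image]
  have key : (if i.val = p then q else if i.val = q then p else i.val)
      = (Equiv.swap (⟨p, hp⟩ : Fin v) ⟨q, hq⟩ i).val := by
    rw [Equiv.swap_apply_def]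
    by_cases h1 : i = ⟨p, hp⟩
    · rw [if_pos h1, if_pos (by rw [h1])]
    · have h1' : ¬ i.val = p := fun e => h1 (Fin.ext e)
      rw [if_neg h1, if_neg h1']
      by_cases h2 : i = ⟨q, hq⟩
      · rw [if_pos h2, if_pos (by rw [h2])]
      · have h2' : ¬ i.val = q := fun e => h2 (Fin.ext e)
        rw [if_neg h2, if_neg h2']
  rw [key]
  constructor
  · intro h
    exact ⟨Equiv.swap (⟨p, hp⟩ : Fin v) ⟨q, hq⟩ i, mem_fs.mpr h, Equiv.swap_apply_self _ _ _⟩
  · rintro ⟨j, hj, rfl⟩
    rw [Equiv.swap_apply_self]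
    exact mem_fs.mp hj

/-! ### permuting a mask by a table -/

/-- image of a mask under the table `τ` (bit `i` goes to bit `τ[i]`) -/
def pmL : List ℕ → ℕ → ℕ
  | [], _ => 0
  | a :: τ, m => Nat.lor (Nat.shiftLeft (Nat.land m 1) a) (pmL τ (Nat.shiftRight m 1))

theorem pmL_cons (a : ℕ) (τ : List ℕ) (m : ℕ) :
    pmL (a :: τ) m = ((if m.testBit 0 = true then 2 ^ a else 0) ||| pmL τ (m / 2)) := by
  have h : pmL (a :: τ) m = ((((m >>> 0) &&& 1) <<< a) ||| pmL τ (m >>> 1)) := rfl
  rw [h, bit_eq, Nat.shiftRight_eq_div_pow, pow_one]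
  by_cases h0 : m.testBit 0 = true
  · rw [if_pos h0, if_pos h0, Nat.one_shiftLeft]
  · rw [if_neg h0, if_neg h0, Nat.zero_shiftLeft]

theorem testBit_pmL : ∀ (τ : List ℕ) (m j : ℕ), (pmL τ m).testBit j = true ↔
    ∃ i, i < τ.length ∧ m.testBit i = true ∧ τ.getD i 0 = j := by
  intro τ
  induction τ with
  | nil => intro m j; simp [pmL]
  | cons a τ ih =>
    intro m j
    rw [pmL_cons, Nat.testBit_lor, Bool.or_eq_true, ih]
    constructor
    · rintro (h | ⟨i, hi, h1, h2⟩)
      · by_cases h0 : m.testBit 0 = true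
        · rw [if_pos h0, Nat.testBit_two_pow, decide_eq_true_eq] at h
          exact ⟨0, by simp, h0, by simpa using h⟩
        · rw [if_neg h0, Nat.zero_testBit] at h
          exact absurd h Bool.false_ne_true
      · refine ⟨i + 1, by simp; omega, ?_, by simpa using h2⟩
        rw [Nat.testBit_succ]; exact h1
    · rintro ⟨i, hi, h1, h2⟩
      rcases Nat.eq_zero_or_pos i with h0 | h0
      · left
        subst h0
        rw [if_pos h1, Nat.testBit_two_pow, decide_eq_true_eq]
        simpa using h2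
      · right
        obtain ⟨i', rfl⟩ : ∃ i', i = i' + 1 := ⟨i - 1, by omega⟩
        refine ⟨i', by simp at hi; omega, ?_, by simpa using h2⟩
        rw [← Nat.testBit_succ]; exact h1

theorem msk_image {v : ℕ} (σ : Equiv.Perm (Fin v)) (τ : List ℕ) (m : ℕ) (hlen : τ.length ≤ v)
    (hm : ∀ i, m.testBit i = true → i < τ.length)
    (h : ∀ i : Fin v, m.testBit i.val = true → τ.getD i.val 0 = (σ i).val) :
    msk ((fs v m).image σ) = pmL τ m := by
  apply Nat.eq_of_testBit_eq
  intro j
  rw [Bool.eq_iff_iff, testBit_pmL]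
  by_cases hj : j < v
  · have h1 := testBit_msk ((fs v m).image σ) ⟨j, hj⟩
    rw [h1, Finset.mem_image]
    constructor
    · rintro ⟨i, hi, hij⟩
      rw [mem_fs] at hi
      refine ⟨i.val, hm _ hi, hi, ?_⟩
      rw [h i hi, hij]
    · rintro ⟨i, hi, h2, h3⟩
      have hiv : i < v := lt_of_lt_of_le hi hlen
      refine ⟨⟨i, hiv⟩, mem_fs.mpr h2, ?_⟩
      apply Fin.ext
      rw [← h ⟨i, hiv⟩ h2]
      exact h3
  · rw [testBit_of_lt (msk_lt _) (not_lt.mp hj)]
    constructor
    · intro h0; exact absurd h0 Bool.false_ne_true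
    · rintro ⟨i, hi, h2, h3⟩
      have hiv : i < v := lt_of_lt_of_le hi hlen
      rw [h ⟨i, hiv⟩ h2] at h3
      have := (σ ⟨i, hiv⟩).2
      omega

/-- a valid table: a permutation of `range v` fixing the points `lo ≤ i < v` -/
def validTbl (v lo : ℕ) (τ : List ℕ) : Bool :=
  Nat.beq τ.length v &&
  (allB v (fun i => Nat.blt (τ.getD i 0) v) &&
  (allB v (fun j => memB j τ) &&
  allB v (fun i => Nat.blt i lo || Nat.beq (τ.getD i 0) i)))

theorem exists_perm_of_valid {v lo : ℕ} {τ : List ℕ} (h : validTbl v lo τ = true) :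
    ∃ σ : Equiv.Perm (Fin v), τ.length = v ∧ (∀ i : Fin v, τ.getD i.val 0 = (σ i).val) ∧
      ∀ i : Fin v, lo ≤ i.val → σ i = i := by
  rw [validTbl, Bool.and_eq_true, Bool.and_eq_true, Bool.and_eq_true] at h
  obtain ⟨h0, h1, h2, h3⟩ := h
  have hlen : τ.length = v := Nat.eq_of_beq_eq_true h0
  have hlt : ∀ i : Fin v, τ.getD i.val 0 < v := by
    intro i
    have := allB_spec h1 i.val i.2
    simpa [Nat.blt_eq] using this
  let f : Fin v → Fin v := fun i => ⟨τ.getD i.val 0, hlt i⟩
  have hsurj : Function.Surjective f := by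
    intro j
    have := allB_spec h2 j.val j.2
    rw [memB_iff, List.mem_iff_getElem] at this
    obtain ⟨i, hi, hij⟩ := this
    refine ⟨⟨i, by omega⟩, ?_⟩
    apply Fin.ext
    show τ.getD i 0 = j.val
    rw [List.getD_eq_getElem _ _ hi]
    exact hij
  have hbij : Function.Bijective f := ⟨Finite.injective_iff_surjective.mpr hsurj, hsurj⟩
  refine ⟨Equiv.ofBijective f hbij, hlen, fun i => rfl, ?_⟩
  intro i hi
  apply Fin.ext
  have := allB_spec h3 i.val i.2
  rw [Bool.or_eq_true] at this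
  rcases this with h4 | h4
  · have : i.val < lo := by simpa [Nat.blt_eq] using h4
    omega
  · exact Nat.eq_of_beq_eq_true h4

end Cfsg.Agent.Helper27.SD
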