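import Mathlib
import Cfsg.Prelude.Def_Sporadic_a
import Cfsg.Agent.Helper27.SteinerDfsA

/-!
A verified exact-cover search for Steiner systems `S(t, t+1, v)` on `Fin v` (blocks as bitmasks),
with pruning by transposition symmetries, and its soundness: if the search succeeds, every such
system is carried onto a fixed standard system by a permutation fixing the first `t` points.
-/

set_option autoImplicit false

namespace Cfsg.Agent.Helper27.SD

open Cfsg

/-- the set system attached to a bitset of masks -/
def sysOf (v B0 : ℕ) : Set (Finset (Fin v)) := {s | B0.testBit (msk s) = true}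

/-- some permutation fixing the points `lo ≤ i` carries `B` onto the standard system -/
def Good (v lo B0 : ℕ) (B : Set (Finset (Fin v))) : Prop :=
  ∃ σ : Equiv.Perm (Fin v), (∀ i : Fin v, lo ≤ i.val → σ i = i) ∧
    (fun b : Finset (Fin v) => b.image σ) '' B = sysOf v B0

/-- the search claim at a node: all Steiner systems containing the chosen blocks are good -/
def P (v t lo B0 : ℕ) (ch : List ℕ) : Prop :=
  ∀ B : Set (Finset (Fin v)), IsSteinerSystem t (t + 1) B → (∀ c ∈ ch, fs v c ∈ B) →
    Good v lo B0 B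

theorem steiner_image' {α β : Type*} [DecidableEq α] [DecidableEq β] {t k : ℕ}
    {B : Set (Finset α)} (hB : IsSteinerSystem t k B) (e : α ≃ β) :
    IsSteinerSystem t k ((fun b => b.image e) '' B) := by
  refine ⟨?_, ?_⟩
  · rintro _ ⟨b, hb, rfl⟩
    rw [Finset.card_image_of_injective _ e.injective]
    exact hB.1 b hb
  · intro s hs
    obtain ⟨b, ⟨hb, hsb⟩, hu⟩ := hB.2 (s.image e.symm)
      (by rw [Finset.card_image_of_injective _ e.symm.injective]; exact hs)
    have hsub : ∀ c : Finset α, s ⊆ c.image e ↔ s.image e.symm ⊆ c := by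
      intro c
      constructor
      · intro h x hx
        rw [Finset.mem_image] at hx
        obtain ⟨y, hy, rfl⟩ := hx
        have := h hy
        rw [Finset.mem_image] at this
        obtain ⟨z, hz, hzy⟩ := this
        rw [← hzy]; simpa using hz
      · intro h x hx
        rw [Finset.mem_image]
        exact ⟨e.symm x, h (Finset.mem_image_of_mem _ hx), by simp⟩
    refine ⟨b.image e, ⟨⟨b, hb, rfl⟩, (hsub b).2 hsb⟩, ?_⟩
    rintro _ ⟨⟨c, hc, rfl⟩, hsc⟩
    rw [hu c ⟨hc, (hsub c).1 hsc⟩]

theorem good_of_image {v lo B0 : ℕ} {B : Set (Finset (Fin v))} (π : Equiv.Perm (Fin v))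
    (hπ : ∀ i : Fin v, lo ≤ i.val → π i = i)
    (h : Good v lo B0 ((fun b : Finset (Fin v) => b.image π) '' B)) : Good v lo B0 B := by
  obtain ⟨σ, hσ, hσB⟩ := h
  refine ⟨σ * π, ?_, ?_⟩
  · intro i hi
    rw [Equiv.Perm.mul_apply, hπ i hi, hσ i hi]
  · rw [← hσB, Set.image_image]
    apply Set.image_congr
    intro b _
    rw [Finset.image_image]
    rfl

theorem exists_insert {α : Type*} [DecidableEq α] {u b : Finset α} (hub : u ⊆ b)
    (hc : b.card = u.card + 1) : ∃ a, a ∉ u ∧ b = insert a u := by
  have h1 : (b \ u).card = 1 := by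
    rw [Finset.card_sdiff_of_subset hub, hc]; omega
  obtain ⟨a, ha⟩ := Finset.card_eq_one.mp h1
  have ha' : a ∈ b \ u := by rw [ha]; exact Finset.mem_singleton_self a
  rw [Finset.mem_sdiff] at ha'
  refine ⟨a, ha'.2, ?_⟩
  ext x
  rw [Finset.mem_insert]
  constructor
  · intro hx
    by_cases hxu : x ∈ u
    · exact Or.inr hxu
    · left
      have : x ∈ b \ u := Finset.mem_sdiff.mpr ⟨hx, hxu⟩
      rw [ha] at this
      exact Finset.mem_singleton.mp this
  · rintro (rfl | hx)
    · exact ha'.1
    · exact hub hx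

/-! ### the standard system is a partial Steiner system -/

/-- check: every member of the bitset has weight `t + 1` and no two members differ by
exchanging one point -/
def uchk (v t B0 : ℕ) : Bool :=
  allB (2 ^ v) fun m => !tb B0 m ||
    (Nat.beq (wtF v m) (t + 1) && allB v fun q => !tb m q ||
      allB v fun p => tb m p || !tb B0 (Nat.lor (Nat.xor m (Nat.pow 2 q)) (Nat.pow 2 p)))

theorem uchk_spec {v t B0 m : ℕ} (hU : uchk v t B0 = true) (hm : m < 2 ^ v)
    (hB : B0.testBit m = true) :
    popc v m = t + 1 ∧ ∀ q, q < v → m.testBit q = true → ∀ p, p < v → m.testBit p = false →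
      B0.testBit ((m ^^^ 2 ^ q) ||| 2 ^ p) = false := by
  have h := allB_spec hU m hm
  rw [tb_eq, hB] at h
  simp only [Bool.not_true, Bool.false_or, Bool.and_eq_true] at h
  refine ⟨by rw [← wtF_eq]; exact Nat.eq_of_beq_eq_true h.1, ?_⟩
  intro q hq hmq p hp hmp
  have h2 := allB_spec h.2 q hq
  rw [tb_eq, hmq] at h2
  simp only [Bool.not_true, Bool.false_or] at h2
  have h3 := allB_spec h2 p hp
  rw [tb_eq, hmp, Bool.false_or, tb_eq] at h3
  have h4 : B0.testBit ((m ^^^ 2 ^ q) ||| 2 ^ p) = B0.testBit (Nat.lor (Nat.xor m (Nat.pow 2 q)) (Nat.pow 2 p)) := rfl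
  rw [h4]
  simpa using h3

theorem sysOf_card {v t B0 : ℕ} (hU : uchk v t B0 = true) {s : Finset (Fin v)}
    (hs : s ∈ sysOf v B0) : s.card = t + 1 := by
  rw [card_eq_popc_msk]
  exact (uchk_spec hU (msk_lt s) hs).1

theorem sysOf_unique {v t B0 : ℕ} (hU : uchk v t B0 = true) {b c u : Finset (Fin v)}
    (hb : b ∈ sysOf v B0) (hc : c ∈ sysOf v B0) (hu : u.card = t) (hub : u ⊆ b) (huc : u ⊆ c) :
    b = c := by
  by_contra hne
  obtain ⟨a, ha, hba⟩ := exists_insert hub (by rw [sysOf_card hU hb, hu])
  obtain ⟨a', ha', hca⟩ := exists_insert huc (by rw [sysOf_card hU hc, hu])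
  have haa : a ≠ a' := by
    rintro rfl
    exact hne (hba.trans hca.symm)
  have h1 : (msk b).testBit a.val = true := by
    rw [testBit_msk, hba]; exact Finset.mem_insert_self _ _
  have h2 : (msk b).testBit a'.val = false := by
    by_contra h
    rw [Bool.not_eq_false, testBit_msk, hba, Finset.mem_insert] at h
    rcases h with h | h
    · exact haa h.symm
    · exact ha' h
  have h3 := (uchk_spec hU (msk_lt b) hb).2 a.val a.2 h1 a'.val a'.2 h2
  have h4 : fs v ((msk b ^^^ 2 ^ a.val) ||| 2 ^ a'.val) = c := by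
    rw [fs_or_pow a'.2, fs_xor_pow a.2 h1, fs_msk, hca, hba]
    congr 1
    exact Finset.erase_insert ha
  have h5 : (msk b ^^^ 2 ^ a.val) ||| 2 ^ a'.val < 2 ^ v :=
    or_pow_lt (Nat.xor_lt_two_pow (msk_lt b) (Nat.pow_lt_pow_right (by norm_num) a.2)) a'.2
  have h6 : msk c = (msk b ^^^ 2 ^ a.val) ||| 2 ^ a'.val := by
    rw [← h4, msk_fs h5]
  have h7 : B0.testBit (msk c) = true := hc
  rw [h6, h3] at h7
  exact Bool.false_ne_true h7

/-! ### leaves -/

/-- leaf test: some certificate table maps all chosen blocks into the standard system -/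
def leafOk (B0 : ℕ) (certs : List (List ℕ)) (ch : List ℕ) : Bool :=
  certs.any fun τ => ch.all fun b => tb B0 (pmL τ b)

theorem leaf_sound {v t lo B0 : ℕ} {certs : List (List ℕ)} {ch : List ℕ}
    (hU : uchk v t B0 = true) (hcerts : certs.all (validTbl v lo) = true)
    (hlt : ∀ c ∈ ch, c < 2 ^ v)
    (hcov : ∀ s, s < 2 ^ v → popc v s = t →
      ∃ c ∈ ch, ∃ q, q < v ∧ c.testBit q = true ∧ s = c ^^^ 2 ^ q)
    (hleaf : leafOk B0 certs ch = true) : P v t lo B0 ch := by
  intro B hB hch
  -- every block is a chosen block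
  have step1 : ∀ b ∈ B, ∃ c ∈ ch, b = fs v c := by
    intro b hb
    have hbc := hB.1 b hb
    obtain ⟨u, hub, hu⟩ := Finset.exists_subset_card_eq (show t ≤ b.card by omega)
    obtain ⟨c, hc, q, hq, hcq, hs⟩ := hcov (msk u) (msk_lt u) (by rw [← card_eq_popc_msk, hu])
    refine ⟨c, hc, ?_⟩
    have h1 : u ⊆ fs v c := by
      have : u = (fs v c).erase ⟨q, hq⟩ := by
        rw [← fs_xor_pow hq hcq, ← hs, fs_msk]
      rw [this]
      exact Finset.erase_subset _ _
    exact (hB.2 u hu).unique ⟨hb, hub⟩ ⟨hch c hc, h1⟩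
  rw [leafOk, List.any_eq_true] at hleaf
  obtain ⟨τ, hτ, hall⟩ := hleaf
  rw [List.all_eq_true] at hall hcerts
  obtain ⟨σ, hlen, hσ, hfix⟩ := exists_perm_of_valid (hcerts τ hτ)
  have step2 : ∀ b ∈ B, b.image σ ∈ sysOf v B0 := by
    intro b hb
    obtain ⟨c, hc, rfl⟩ := step1 b hb
    show B0.testBit (msk ((fs v c).image σ)) = true
    rw [msk_image σ τ c (le_of_eq hlen)
      (fun i hi => by rw [hlen]; exact lt_of_testBit (hlt c hc) hi) (fun i _ => hσ i), ← tb_eq]
    exact hall c hc
  refine ⟨σ, hfix, ?_⟩
  apply Set.Subset.antisymm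
  · rintro _ ⟨b, hb, rfl⟩
    exact step2 b hb
  · intro s0 hs0
    have hs0c := sysOf_card hU hs0
    obtain ⟨u, hub, hu⟩ := Finset.exists_subset_card_eq (show t ≤ s0.card by omega)
    obtain ⟨c', ⟨hc'B, huc'⟩, _⟩ := (steiner_image' hB σ).2 u hu
    have hc's : c' ∈ sysOf v B0 := by
      obtain ⟨b, hb, rfl⟩ := hc'B
      exact step2 b hb
    rw [sysOf_unique hU hs0 hc's hu hub huc']
    exact hc'B

/-! ### the search -/

/-- loop over the candidate points `p` completing the uncovered `t`-subset `s` to a block -/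
def kidLoop (lo : ℕ) (ch : List ℕ) (s : ℕ) (sym : Bool) (ok rec : ℕ → Bool) :
    List ℕ → List ℕ → Bool
  | [], _ => true
  | p :: ps, done =>
      bif tb s p then kidLoop lo ch s sym ok rec ps done
      else bif ok p then
        (bif sym && (Nat.blt p lo &&
            done.any fun p' => ch.all fun c => memB (swapMask p' p c) ch)
          then kidLoop lo ch s sym ok rec ps done
          else rec p && kidLoop lo ch s sym ok rec ps (bif Nat.blt p lo then p :: done else done))
      else kidLoop lo ch s sym ok rec ps done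

theorem kidLoop_sound {v lo : ℕ} {ch : List ℕ} {s : ℕ} {sym : Bool} {ok rec : ℕ → Bool}
    (Q : ℕ → Prop)
    (hrec : ∀ p, p < v → s.testBit p = false → rec p = true → Q p)
    (hsym : ∀ p p', p < v → p' < v → p < lo → p' < lo → s.testBit p = false →
      s.testBit p' = false → (ch.all fun c => memB (swapMask p' p c) ch) = true → Q p' → Q p) :
    ∀ (ps done : List ℕ), (∀ p ∈ ps, p < v) →
      (∀ p' ∈ done, p' < v ∧ p' < lo ∧ s.testBit p' = false ∧ Q p') →
      kidLoop lo ch s sym ok rec ps done = true →
      ∀ p ∈ ps, s.testBit p = false → ok p = true → Q p := by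
  intro ps
  induction ps with
  | nil => intro done _ _ _ p hp; exact absurd hp List.not_mem_nil
  | cons p0 ps ih =>
    intro done hps hdone hk p hp hsp hcp
    have hp0 : p0 < v := hps p0 List.mem_cons_self
    have hps' : ∀ p ∈ ps, p < v := fun p hp => hps p (List.mem_cons_of_mem _ hp)
    rw [kidLoop, tb_eq] at hk
    by_cases h1 : s.testBit p0 = true
    · rw [h1, cond_true] at hk
      rcases List.mem_cons.mp hp with h | hp'
      · rw [h, h1] at hsp; exact absurd hsp (by simp)
      · exact ih done hps' hdone hk p hp' hsp hcp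
    · have h1' : s.testBit p0 = false := by simpa using h1
      rw [h1', cond_false] at hk
      by_cases h2 : ok p0 = true
      · rw [h2, cond_true] at hk
        by_cases h3 : (sym && (Nat.blt p0 lo &&
            done.any fun p' => ch.all fun c => memB (swapMask p' p0 c) ch)) = true
        · rw [h3, cond_true] at hk
          rcases List.mem_cons.mp hp with h | hp'
          · rw [Bool.and_eq_true, Bool.and_eq_true, List.any_eq_true] at h3
            obtain ⟨_, htp, p', hp'd, hchk⟩ := h3
            have htp0 : p0 < lo := by simpa [Nat.blt_eq] using htp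
            obtain ⟨hp'v, htp', hsp', hQ⟩ := hdone p' hp'd
            rw [h]
            exact hsym p0 p' hp0 hp'v htp0 htp' h1' hsp' hchk hQ
          · exact ih done hps' hdone hk p hp' hsp hcp
        · have h3' : (sym && (Nat.blt p0 lo &&
              done.any fun p' => ch.all fun c => memB (swapMask p' p0 c) ch)) = false := by
            simpa using h3
          rw [h3', cond_false, Bool.and_eq_true] at hk
          obtain ⟨hk1, hk2⟩ := hk
          have hQ0 : Q p0 := hrec p0 hp0 h1' hk1
          rcases List.mem_cons.mp hp with h | hp'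
          · rw [h]; exact hQ0
          · refine ih _ hps' ?_ hk2 p hp' hsp hcp
            intro p' hp'd
            by_cases htp : Nat.blt p0 lo = true
            · rw [htp, cond_true] at hp'd
              rcases List.mem_cons.mp hp'd with h | h
              · rw [h]; exact ⟨hp0, by simpa [Nat.blt_eq] using htp, h1', hQ0⟩
              · exact hdone p' h
            · have htp' : Nat.blt p0 lo = false := by rw [← Bool.not_eq_true]; exact htp
              rw [htp', cond_false] at hp'd
              exact hdone p' hp'd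
      · have h2' : ok p0 = false := by simpa using h2
        rw [h2', cond_false] at hk
        rcases List.mem_cons.mp hp with h | hp'
        · rw [h] at hcp; exact absurd hcp h2
        · exact ih done hps' hdone hk p hp' hsp hcp

/-- the exact-cover search: `ch` the chosen blocks, `cov` the bitset of covered `t`-subsets,
the last argument the `t`-subsets still to be treated; `sd` bounds the depth down to which
transposition symmetries are tried -/
def dfs (v lo B0 : ℕ) (certs : List (List ℕ)) : ℕ → List ℕ → ℕ → List ℕ → Bool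
  | _, ch, _, [] => leafOk B0 certs ch
  | sd, ch, cov, s :: rem =>
      bif tb cov s then dfs v lo B0 certs sd ch cov rem
      else kidLoop lo ch s (Nat.blt 0 sd) (fun p => !tb (badAux cov s v) (Nat.pow 2 p))
        (fun p => dfs v lo B0 certs (sd - 1) (Nat.lor s (Nat.pow 2 p) :: ch)
          (addCovAux (Nat.lor s (Nat.pow 2 p)) v cov) rem)
        (downList v) []

theorem dfs_cons (v lo B0 : ℕ) (certs : List (List ℕ)) (sd : ℕ) (ch : List ℕ) (cov s : ℕ)
    (rem : List ℕ) :
    dfs v lo B0 certs sd ch cov (s :: rem) =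
      bif tb cov s then dfs v lo B0 certs sd ch cov rem
      else kidLoop lo ch s (Nat.blt 0 sd) (fun p => !tb (badAux cov s v) (2 ^ p))
        (fun p => dfs v lo B0 certs (sd - 1) ((s ||| 2 ^ p) :: ch)
          (addCovAux (s ||| 2 ^ p) v cov) rem)
        (downList v) [] := by
  rw [dfs]
  rfl

/-- the invariant of the search -/
structure Inv (v t : ℕ) (ch : List ℕ) (cov : ℕ) (rem : List ℕ) : Prop where
  lt : ∀ c ∈ ch, c < 2 ^ v
  cov_iff : ∀ x, cov.testBit x = true ↔
    ∃ c ∈ ch, ∃ q, q < v ∧ c.testBit q = true ∧ x = c ^^^ 2 ^ q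
  rem_cov : ∀ s, s < 2 ^ v → popc v s = t → s ∈ rem ∨ cov.testBit s = true
  rem_ok : ∀ s ∈ rem, s < 2 ^ v ∧ popc v s = t

theorem sym_step {v t lo B0 : ℕ} {ch : List ℕ} {s p p' : ℕ} (hp : p < v) (hp' : p' < v)
    (htp : p < lo) (htp' : p' < lo) (hsp : s.testBit p = false) (hsp' : s.testBit p' = false)
    (hchk : (ch.all fun c => memB (swapMask p' p c) ch) = true)
    (hQ : P v t lo B0 ((s ||| 2 ^ p') :: ch)) : P v t lo B0 ((s ||| 2 ^ p) :: ch) := by
  intro B hB hch
  have hπ : ∀ i : Fin v, lo ≤ i.val →
      Equiv.swap (⟨p', hp'⟩ : Fin v) ⟨p, hp⟩ i = i := by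
    intro i hi
    apply Equiv.swap_apply_of_ne_of_ne
    · intro e
      have : i.val = p' := by rw [e]
      omega
    · intro e
      have : i.val = p := by rw [e]
      omega
  apply good_of_image (Equiv.swap (⟨p', hp'⟩ : Fin v) ⟨p, hp⟩) hπ
  apply hQ _ (steiner_image' hB _)
  intro c hc
  rcases List.mem_cons.mp hc with h | hc'
  · refine ⟨fs v (s ||| 2 ^ p), hch _ List.mem_cons_self, ?_⟩
    show (fs v (s ||| 2 ^ p)).image (Equiv.swap (⟨p', hp'⟩ : Fin v) ⟨p, hp⟩) = fs v c
    rw [h, fs_or_pow hp, fs_or_pow hp', Finset.image_insert, Equiv.swap_apply_right]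
    congr 1
    conv_rhs => rw [← Finset.image_id (s := fs v s)]
    apply Finset.image_congr
    intro i hi
    rw [Finset.mem_coe, mem_fs] at hi
    show Equiv.swap (⟨p', hp'⟩ : Fin v) ⟨p, hp⟩ i = id i
    apply Equiv.swap_apply_of_ne_of_ne
    · intro e
      rw [e, hsp'] at hi
      exact Bool.false_ne_true hi
    · intro e
      rw [e, hsp] at hi
      exact Bool.false_ne_true hi
  · have h1 : swapMask p' p c ∈ ch := by
      rw [List.all_eq_true] at hchk
      exact (memB_iff _ _).mp (hchk c hc')
    refine ⟨fs v (swapMask p' p c), hch _ (List.mem_cons_of_mem _ h1), ?_⟩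
    show (fs v (swapMask p' p c)).image (Equiv.swap (⟨p', hp'⟩ : Fin v) ⟨p, hp⟩) = fs v c
    rw [fs_swapMask hp' hp, Finset.image_image]
    have : (⇑(Equiv.swap (⟨p', hp'⟩ : Fin v) ⟨p, hp⟩) ∘ ⇑(Equiv.swap (⟨p', hp'⟩ : Fin v) ⟨p, hp⟩))
        = id := by
      funext i; exact Equiv.swap_apply_self _ _ _
    rw [this, Finset.image_id]

/-- bitset of a list of masks -/
def bitsOf : List ℕ → ℕ
  | [] => 0
  | s :: l => Nat.lor (bitsOf l) (Nat.pow 2 s)

theorem testBit_bitsOf (l : List ℕ) (x : ℕ) : (bitsOf l).testBit x = true ↔ x ∈ l := by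
  induction l with
  | nil => simp [bitsOf]
  | cons s l ih =>
    have h : bitsOf (s :: l) = bitsOf l ||| 2 ^ s := rfl
    rw [h, Nat.testBit_lor, Nat.testBit_two_pow, Bool.or_eq_true, ih, decide_eq_true_eq,
      List.mem_cons]
    constructor
    · rintro (h | h)
      · exact Or.inr h
      · exact Or.inl h.symm
    · rintro (h | h)
      · exact Or.inr h.symm
      · exact Or.inl h

/-- check on the list of `t`-subsets: all are masks of weight `t`, and all such masks occur -/
def tsubsOk (v t : ℕ) (tsubs : List ℕ) : Bool :=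
  tsubs.all (fun s => Nat.blt s (2 ^ v) && Nat.beq (wtF v s) t) &&
  allB (2 ^ v) (fun s => !Nat.beq (wtF v s) t || tb (bitsOf tsubs) s)

theorem dfs_sound {v t lo B0 : ℕ} {certs : List (List ℕ)}
    (hU : uchk v t B0 = true) (hcerts : certs.all (validTbl v lo) = true) :
    ∀ (rem : List ℕ) (sd : ℕ) (ch : List ℕ) (cov : ℕ), Inv v t ch cov rem →
      dfs v lo B0 certs sd ch cov rem = true → P v t lo B0 ch := by
  intro rem
  induction rem with
  | nil =>
    intro sd ch cov inv h
    rw [dfs] at h
    refine leaf_sound hU hcerts inv.lt ?_ h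
    intro s hs hpop
    rcases inv.rem_cov s hs hpop with h1 | h1
    · exact absurd h1 List.not_mem_nil
    · exact (inv.cov_iff s).mp h1
  | cons s rem ih =>
    intro sd ch cov inv h
    rw [dfs_cons, tb_eq] at h
    by_cases hc0 : cov.testBit s = true
    · rw [hc0, cond_true] at h
      refine ih sd ch cov ?_ h
      refine ⟨inv.lt, inv.cov_iff, ?_, fun s' hs' => inv.rem_ok s' (List.mem_cons_of_mem _ hs')⟩
      intro s' hs' hpop
      rcases inv.rem_cov s' hs' hpop with h1 | h1
      · rcases List.mem_cons.mp h1 with h2 | h2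
        · right; rw [h2]; exact hc0
        · left; exact h2
      · right; exact h1
    · have hc : cov.testBit s = false := by rw [← Bool.not_eq_true]; exact hc0
      rw [hc, cond_false] at h
      obtain ⟨hs_lt, hs_pop⟩ := inv.rem_ok s List.mem_cons_self
      intro B hB hch
      have hcard : (fs v s).card = t := by rw [card_fs hs_lt, hs_pop]
      obtain ⟨b, ⟨hbB, hsb⟩, _⟩ := hB.2 (fs v s) hcard
      have hbc : b.card = t + 1 := hB.1 b hbB
      obtain ⟨a, ha, hba⟩ := exists_insert hsb (by rw [hbc, hcard])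
      have hsa : s.testBit a.val = false := by
        rw [mem_fs] at ha; rw [← Bool.not_eq_true]; exact ha
      have hb' : b = fs v (s ||| 2 ^ a.val) := by
        rw [fs_or_pow a.2]; exact hba
      have hcompat : (!tb (badAux cov s v) (2 ^ a.val)) = true := by
        by_contra hcf
        have hcf' : tb (badAux cov s v) (2 ^ a.val) = true := by
          cases hx : tb (badAux cov s v) (2 ^ a.val)
          · rw [hx] at hcf; exact absurd rfl hcf
          · rfl
        obtain ⟨q, hq, hsq, hcq⟩ := bad_spec hsa hcf'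
        have hbq : (s ||| 2 ^ a.val).testBit q = true := by
          rw [Nat.testBit_lor, hsq, Bool.true_or]
        obtain ⟨c, hcch, q', hq', hcq', hx⟩ := (inv.cov_iff _).mp hcq
        have hqb : (⟨q, hq⟩ : Fin v) ∈ b := by rw [hb', mem_fs]; exact hbq
        have hu1 : fs v ((s ||| 2 ^ a.val) ^^^ 2 ^ q) = b.erase ⟨q, hq⟩ := by
          rw [fs_xor_pow hq hbq, ← hb']
        have hu2 : fs v ((s ||| 2 ^ a.val) ^^^ 2 ^ q) = (fs v c).erase ⟨q', hq'⟩ := by
          rw [hx, fs_xor_pow hq' hcq']
        have hucard : (b.erase ⟨q, hq⟩).card = t := by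
          rw [Finset.card_erase_of_mem hqb, hbc]; rfl
        have hsub2 : b.erase ⟨q, hq⟩ ⊆ fs v c := by
          rw [← hu1, hu2]; exact Finset.erase_subset _ _
        have hbeq2 : b = fs v c :=
          (hB.2 _ hucard).unique ⟨hbB, Finset.erase_subset _ _⟩ ⟨hch c hcch, hsub2⟩
        have hca : c.testBit a.val = true := by
          rw [← mem_fs (v := v), ← hbeq2, hba]; exact Finset.mem_insert_self _ _
        have hseq : s = c ^^^ 2 ^ a.val :=
          eq_xor_of_fs (inv.lt c hcch) hs_lt a.2 hsa (by rw [← hbeq2]; exact hba)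
        have := (inv.cov_iff s).mpr ⟨c, hcch, a.val, a.2, hca, hseq⟩
        rw [hc] at this
        exact Bool.false_ne_true this
      have key := kidLoop_sound (v := v) (lo := lo) (ch := ch) (s := s)
        (Q := fun p => P v t lo B0 ((s ||| 2 ^ p) :: ch))
        (by
          intro p hp hsp hr
          refine ih _ _ _ ?_ hr
          refine ⟨?_, ?_, ?_, fun s' hs' => inv.rem_ok s' (List.mem_cons_of_mem _ hs')⟩
          · intro c hc'
            rcases List.mem_cons.mp hc' with h1 | h1
            · rw [h1]; exact or_pow_lt hs_lt hp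
            · exact inv.lt c h1
          · intro x
            rw [testBit_addCovAux, inv.cov_iff]
            constructor
            · rintro (⟨c, hc', q, hq⟩ | ⟨q, hq, hb, hx⟩)
              · exact ⟨c, List.mem_cons_of_mem _ hc', q, hq⟩
              · exact ⟨_, List.mem_cons_self, q, hq, hb, hx⟩
            · rintro ⟨c, hc', q, hq, hb, hx⟩
              rcases List.mem_cons.mp hc' with h1 | h1
              · right; rw [h1] at hb hx; exact ⟨q, hq, hb, hx⟩
              · left; exact ⟨c, h1, q, hq, hb, hx⟩
          · intro s' hs' hpop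
            rw [testBit_addCovAux]
            rcases inv.rem_cov s' hs' hpop with h1 | h1
            · rcases List.mem_cons.mp h1 with h2 | h2
              · right; right
                exact ⟨p, hp, testBit_or_pow_self s p, by rw [h2, or_xor_pow hsp]⟩
              · left; exact h2
            · right; left; exact h1)
        (by
          intro p p' hp hp' htp htp' hsp hsp' hchk hQ
          exact sym_step hp hp' htp htp' hsp hsp' hchk hQ)
        (downList v) [] (fun p hp => mem_downList.mp hp)
        (by intro p' hp'; exact absurd hp' List.not_mem_nil) h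
        a.val (mem_downList.mpr a.2) hsa hcompat
      apply key B hB
      intro c hc'
      rcases List.mem_cons.mp hc' with h1 | h1
      · rw [h1, ← hb']; exact hbB
      · exact hch c h1

theorem search_sound {v t lo B0 sd : ℕ} {certs : List (List ℕ)} {tsubs : List ℕ}
    (hU : uchk v t B0 = true) (hcerts : certs.all (validTbl v lo) = true)
    (hts : tsubsOk v t tsubs = true) (hd : dfs v lo B0 certs sd [] 0 tsubs = true)
    (B : Set (Finset (Fin v))) (hB : IsSteinerSystem t (t + 1) B) : Good v lo B0 B := by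
  rw [tsubsOk, Bool.and_eq_true, List.all_eq_true] at hts
  obtain ⟨hts1, hts2⟩ := hts
  refine dfs_sound hU hcerts tsubs sd [] 0 ?_ hd B hB (fun c hc => absurd hc List.not_mem_nil)
  refine ⟨fun c hc => absurd hc List.not_mem_nil, ?_, ?_, ?_⟩
  · intro x
    rw [Nat.zero_testBit]
    constructor
    · intro h; exact absurd h Bool.false_ne_true
    · rintro ⟨c, hc, _⟩; exact absurd hc List.not_mem_nil
  · intro s hs hpop
    left
    have h1 := allB_spec hts2 s hs
    rw [wtF_eq, hpop, Nat.beq_refl, Bool.not_true, Bool.false_or, tb_eq, testBit_bitsOf] at h1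
    exact h1
  · intro s hs
    have h1 := hts1 s hs
    rw [Bool.and_eq_true, wtF_eq] at h1
    exact ⟨by simpa [Nat.blt_eq] using h1.1, Nat.eq_of_beq_eq_true h1.2⟩

end Cfsg.Agent.Helper27.SD
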