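import Mathlib
import Cfsg.Prelude.Def_Sporadic_a
import Cfsg.Agent.Helper27.SteinerDfsB
import Cfsg.Agent.Helper93.AutTransfer

/-!
Rigidity search for the standard small Steiner systems, and transfer of the search results to
Steiner systems on an arbitrary finite type: uniqueness, multiple transitivity and sharpness of
the automorphism group.
-/

set_option autoImplicit false

namespace Cfsg.Agent.Helper27.SD

open Cfsg
open scoped Pointwise

/-! ### rigidity -/

/-- value table of a permutation of `Fin v`, as a function on `ℕ` -/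
def gval {v : ℕ} (g : Equiv.Perm (Fin v)) (i : ℕ) : ℕ := if h : i < v then (g ⟨i, h⟩).val else 0

/-- the table of the values of `g` at the points `k, ..., v - 1` -/
def gsuf {v : ℕ} (g : Equiv.Perm (Fin v)) (k : ℕ) : List ℕ :=
  (List.range (v - k)).map fun j => gval g (k + j)

theorem gsuf_succ {v : ℕ} (g : Equiv.Perm (Fin v)) {k : ℕ} (hk : k < v) :
    gsuf g k = gval g k :: gsuf g (k + 1) := by
  unfold gsuf
  have h : v - k = (v - (k + 1)) + 1 := by omega
  rw [h, List.range_succ_eq_map, List.map_cons, List.map_map]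
  congr 1
  apply List.map_congr_left
  intro j _
  show gval g (k + (j + 1)) = gval g (k + 1 + j)
  congr 1; omega

theorem gsuf_getD {v : ℕ} (g : Equiv.Perm (Fin v)) (k i : ℕ) (hi : i < v - k) :
    (gsuf g k).getD i 0 = gval g (k + i) := by
  unfold gsuf
  rw [List.getD_eq_getElem _ _ (by simpa using hi)]
  simp

theorem msk_image_suf {v : ℕ} (g : Equiv.Perm (Fin v)) {k : ℕ} {b : ℕ}
    (hb : b % 2 ^ k = 0) : msk ((fs v b).image g) = pmL (gsuf g k) (b >>> k) := by
  have hlow : ∀ i, i < k → b.testBit i = false := by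
    intro i hi
    have h := Nat.testBit_mod_two_pow b k i
    rw [hb, Nat.zero_testBit] at h
    cases hx : b.testBit i
    · rfl
    · rw [hx] at h; simp [hi] at h
  have hlen : (gsuf g k).length = v - k := by simp [gsuf]
  apply Nat.eq_of_testBit_eq
  intro j
  rw [Bool.eq_iff_iff, testBit_pmL, hlen]
  by_cases hj : j < v
  · have h1 := testBit_msk ((fs v b).image g) ⟨j, hj⟩
    rw [h1, Finset.mem_image]
    constructor
    · rintro ⟨i, hi, hij⟩
      rw [mem_fs] at hi
      have hik : k ≤ i.val := by
        by_contra hc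
        rw [hlow i.val (not_le.mp hc)] at hi
        exact Bool.false_ne_true hi
      have hi2 : i.val - k < v - k := by have := i.2; omega
      have hki : k + (i.val - k) = i.val := by omega
      refine ⟨i.val - k, hi2, ?_, ?_⟩
      · rw [Nat.testBit_shiftRight, hki]; exact hi
      · rw [gsuf_getD g k _ hi2, hki, gval, dif_pos i.2]
        exact congrArg Fin.val hij
    · rintro ⟨i, hi, h2, h3⟩
      rw [Nat.testBit_shiftRight] at h2
      have hiv : k + i < v := by omega
      refine ⟨⟨k + i, hiv⟩, mem_fs.mpr h2, ?_⟩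
      apply Fin.ext
      rw [gsuf_getD g k i hi, gval, dif_pos hiv] at h3
      exact h3
  · rw [testBit_of_lt (msk_lt _) (not_lt.mp hj)]
    constructor
    · intro h0; exact absurd h0 Bool.false_ne_true
    · rintro ⟨i, hi, h2, h3⟩
      have hiv : k + i < v := by omega
      rw [gsuf_getD g k i hi, gval, dif_pos hiv] at h3
      have := (g ⟨k + i, hiv⟩).2
      omega

/-- are all the blocks supported on the points `≥ k` mapped into the system by the table `σ` of
the values at these points? -/
def autOk (B0 k : ℕ) (blocks : List ℕ) (σ : List ℕ) : Bool :=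
  blocks.all fun b => !Nat.beq (Nat.mod b (Nat.pow 2 k)) 0 || tb B0 (pmL σ (Nat.shiftRight b k))

/-- rigidity search: every completion of the partial table `σ` (values at the points `≥ k`) to
a table preserving the system is the identity table -/
def rig (v B0 : ℕ) (blocks : List ℕ) : ℕ → List ℕ → Bool
  | 0, σ => !autOk B0 0 blocks σ || allB v (fun i => Nat.beq (σ.getD i 0) i)
  | k + 1, σ => !autOk B0 (k + 1) blocks σ || allB v (fun a => rig v B0 blocks k (a :: σ))

theorem autOk_of_mem {v B0 : ℕ} {blocks : List ℕ}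
    (hbl : blocks.all (fun b => Nat.blt b (2 ^ v) && tb B0 b) = true)
    (g : Equiv.Perm (Fin v)) (hg : g ∈ setSystemAut (sysOf v B0)) (k : ℕ) :
    autOk B0 k blocks (gsuf g k) = true := by
  rw [autOk, List.all_eq_true]
  intro b hb
  rw [List.all_eq_true] at hbl
  have h1 := hbl b hb
  rw [Bool.and_eq_true, tb_eq] at h1
  have hbv : b < 2 ^ v := by simpa [Nat.blt_eq] using h1.1
  by_cases hmod : b % 2 ^ k = 0
  · rw [Bool.or_eq_true]; right
    have hmem : fs v b ∈ sysOf v B0 := by
      show B0.testBit (msk (fs v b)) = true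
      rw [msk_fs hbv]; exact h1.2
    have hg' : g • sysOf v B0 = sysOf v B0 := hg
    have h2 : g • fs v b ∈ g • sysOf v B0 := Set.smul_mem_smul_set hmem
    rw [hg'] at h2
    have h3 : B0.testBit (msk ((fs v b).image g)) = true := h2
    rw [msk_image_suf g hmod] at h3
    rw [tb_eq]; exact h3
  · rw [Bool.or_eq_true]; left
    have h4 : Nat.beq (b % 2 ^ k) 0 = false := by
      cases hx : Nat.beq (b % 2 ^ k) 0
      · rfl
      · exact absurd (Nat.eq_of_beq_eq_true hx) hmod
    show (!Nat.beq (b % 2 ^ k) 0) = true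
    rw [h4]; rfl

theorem rig_sound_aux {v B0 : ℕ} {blocks : List ℕ}
    (hbl : blocks.all (fun b => Nat.blt b (2 ^ v) && tb B0 b) = true)
    (g : Equiv.Perm (Fin v)) (hg : g ∈ setSystemAut (sysOf v B0)) :
    ∀ k, k ≤ v → rig v B0 blocks k (gsuf g k) = true → g = 1 := by
  intro k
  induction k with
  | zero =>
    intro _ h
    rw [rig, autOk_of_mem hbl g hg 0, Bool.not_true, Bool.false_or] at h
    apply Equiv.ext
    intro i
    apply Fin.ext
    have h1 := allB_spec h i.val i.2
    rw [gsuf_getD g 0 i.val (by have := i.2; omega), Nat.zero_add, gval, dif_pos i.2] at h1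
    exact Nat.eq_of_beq_eq_true h1
  | succ k ih =>
    intro hk h
    rw [rig, autOk_of_mem hbl g hg (k + 1), Bool.not_true, Bool.false_or] at h
    have hkv : k < v := hk
    have h1 := allB_spec h (gval g k) (by rw [gval, dif_pos hkv]; exact (g ⟨k, hkv⟩).2)
    rw [← gsuf_succ g hkv] at h1
    exact ih (le_of_lt hkv) h1

theorem rig_sound {v lo B0 : ℕ} {blocks init : List ℕ} (hlo : lo ≤ v)
    (hinit : init = List.range' lo (v - lo))
    (hbl : blocks.all (fun b => Nat.blt b (2 ^ v) && tb B0 b) = true)
    (hr : rig v B0 blocks lo init = true)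
    (g : Equiv.Perm (Fin v)) (hg : g ∈ setSystemAut (sysOf v B0))
    (hfix : ∀ i : Fin v, lo ≤ i.val → g i = i) : g = 1 := by
  apply rig_sound_aux hbl g hg lo hlo
  have h : gsuf g lo = init := by
    rw [hinit, List.range'_eq_map_range]
    unfold gsuf
    apply List.map_congr_left
    intro j hj
    rw [List.mem_range] at hj
    have hv : lo + j < v := by omega
    rw [gval, dif_pos hv, hfix ⟨lo + j, hv⟩ (Nat.le_add_right lo j)]
  rw [h]; exact hr

/-! ### transfer to an arbitrary finite type -/

section transfer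

variable {α : Type*} [Fintype α] [DecidableEq α]

theorem exists_label {v t lo B0 : ℕ}
    (hmain : ∀ B : Set (Finset (Fin v)), IsSteinerSystem t (t + 1) B → Good v lo B0 B)
    (hv : lo + t = v) (hα : Fintype.card α = v) {B : Set (Finset α)}
    (hB : IsSteinerSystem t (t + 1) B) (x : Fin t ↪ α) :
    ∃ e : α ≃ Fin v, (∀ i : Fin t, (e (x i)).val = lo + i.val) ∧
      (fun b : Finset α => b.image e) '' B = sysOf v B0 := by
  let e₀ : α ≃ Fin v := Fintype.equivFinOfCardEq hα
  let std : Fin t ↪ Fin v := ⟨fun i => ⟨lo + i.val, by have := i.2; omega⟩, by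
    intro i j h
    apply Fin.ext
    have h' := congrArg Fin.val h
    have h'' : lo + i.val = lo + j.val := h'
    omega⟩
  obtain ⟨g, hg⟩ := Equiv.Perm.exists_smul_eq_embedding (x.trans e₀.toEmbedding) std
  obtain ⟨σ, hσ, hσB⟩ := hmain _ (steiner_image' hB (e₀.trans g))
  refine ⟨(e₀.trans g).trans σ, ?_, ?_⟩
  · intro i
    have h1 : g (e₀ (x i)) = std i := DFunLike.congr_fun hg i
    show (σ (g (e₀ (x i)))).val = lo + i.val
    rw [h1, hσ (std i) (Nat.le_add_right lo i.val)]
    rfl
  · rw [← hσB, Set.image_image]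
    apply Set.image_congr
    intro b _
    rw [Finset.image_image]
    rfl

theorem aut_pretransitive {v t lo B0 : ℕ}
    (hmain : ∀ B : Set (Finset (Fin v)), IsSteinerSystem t (t + 1) B → Good v lo B0 B)
    (hv : lo + t = v) (hα : Fintype.card α = v) {B : Set (Finset α)}
    (hB : IsSteinerSystem t (t + 1) B) :
    MulAction.IsMultiplyPretransitive (setSystemAut B) α t := by
  rw [MulAction.isMultiplyPretransitive_iff]
  intro x y
  obtain ⟨ex, hx, hxB⟩ := exists_label hmain hv hα hB x
  obtain ⟨ey, hy, hyB⟩ := exists_label hmain hv hα hB y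
  have hmem : ex.trans ey.symm ∈ setSystemAut B := by
    rw [MulAction.mem_stabilizer_iff]
    have h1 : (ex.trans ey.symm : Equiv.Perm α) • B =
        (fun b : Finset α => b.image (ex.trans ey.symm)) '' B := rfl
    have h2 : (fun b : Finset α => b.image (ex.trans ey.symm)) '' B =
        (fun c : Finset (Fin v) => c.image ey.symm) '' ((fun b : Finset α => b.image ex) '' B) := by
      rw [Set.image_image]
      apply Set.image_congr
      intro b _
      rw [Finset.image_image]
      rfl
    rw [h1, h2, hxB, ← hyB, Set.image_image]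
    conv_rhs => rw [← Set.image_id B]
    apply Set.image_congr
    intro b _
    rw [Finset.image_image]
    have : (⇑ey.symm ∘ ⇑ey) = id := by funext a; simp
    rw [this, Finset.image_id]
    rfl
  refine ⟨⟨ex.trans ey.symm, hmem⟩, ?_⟩
  apply Function.Embedding.ext
  intro i
  show ey.symm (ex (x i)) = y i
  rw [Equiv.symm_apply_eq]
  apply Fin.ext
  rw [hx, hy]

theorem aut_sharp {v t lo B0 : ℕ}
    (hmain : ∀ B : Set (Finset (Fin v)), IsSteinerSystem t (t + 1) B → Good v lo B0 B)
    (hrig : ∀ g : Equiv.Perm (Fin v), g ∈ setSystemAut (sysOf v B0) →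
      (∀ i : Fin v, lo ≤ i.val → g i = i) → g = 1)
    (hv : lo + t = v) (hα : Fintype.card α = v) {B : Set (Finset α)}
    (hB : IsSteinerSystem t (t + 1) B) (x : Fin t ↪ α) :
    MulAction.stabilizer (setSystemAut B) x = ⊥ := by
  rw [eq_bot_iff]
  intro g hg
  rw [MulAction.mem_stabilizer_iff] at hg
  rw [Subgroup.mem_bot]
  obtain ⟨e, hx, hxB⟩ := exists_label hmain hv hα hB x
  have hgx : ∀ i, (g : Equiv.Perm α) (x i) = x i := fun i => DFunLike.congr_fun hg i
  have h1 : e.permCongr (g : Equiv.Perm α) ∈ setSystemAut (sysOf v B0) :=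
    (Cfsg.Agent.Helper93.aut_mem_iff e hxB g).mp g.2
  have h2 : e.permCongr (g : Equiv.Perm α) = 1 := by
    apply hrig _ h1
    intro i hi
    have hj : i.val - lo < t := by have := i.2; omega
    have hi' : i = e (x ⟨i.val - lo, hj⟩) := by
      apply Fin.ext
      rw [hx]
      show i.val = lo + (i.val - lo)
      omega
    rw [hi', Equiv.permCongr_apply, Equiv.symm_apply_apply, hgx]
  apply Subtype.ext
  apply Equiv.ext
  intro a
  have h3 := DFunLike.congr_fun h2 (e a)
  rw [Equiv.permCongr_apply, Equiv.symm_apply_apply] at h3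
  exact e.injective h3

theorem iso_std {v t lo B0 : ℕ}
    (hmain : ∀ B : Set (Finset (Fin v)), IsSteinerSystem t (t + 1) B → Good v lo B0 B)
    (hv : lo + t = v) (hα : Fintype.card α = v) {B : Set (Finset α)}
    (hB : IsSteinerSystem t (t + 1) B) :
    ∃ e : α ≃ Fin v, (fun b : Finset α => b.image e) '' B = sysOf v B0 := by
  obtain ⟨x⟩ : Nonempty (Fin t ↪ α) :=
    Function.Embedding.nonempty_of_card_le (by rw [hα, Fintype.card_fin]; omega)
  obtain ⟨e, _, he⟩ := exists_label hmain hv hα hB x
  exact ⟨e, he⟩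

end transfer

theorem iso_of_two {α : Type*} {β : Type*} [Fintype α] [DecidableEq α] [Fintype β]
    [DecidableEq β] {v t lo B0 : ℕ}
    (hmain : ∀ B : Set (Finset (Fin v)), IsSteinerSystem t (t + 1) B → Good v lo B0 B)
    (hv : lo + t = v) (hα : Fintype.card α = v) (hβ : Fintype.card β = v)
    {B : Set (Finset α)} {B' : Set (Finset β)}
    (hB : IsSteinerSystem t (t + 1) B) (hB' : IsSteinerSystem t (t + 1) B') :
    SetSystemIso B B' := by
  obtain ⟨e, he⟩ := iso_std hmain hv hα hB
  obtain ⟨e', he'⟩ := iso_std hmain hv hβ hB'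
  refine ⟨e.trans e'.symm, ?_⟩
  have h2 : (fun b : Finset α => b.image (e.trans e'.symm)) '' B =
      (fun c : Finset (Fin v) => c.image e'.symm) '' ((fun b : Finset α => b.image e) '' B) := by
    rw [Set.image_image]
    apply Set.image_congr
    intro b _
    rw [Finset.image_image]
    rfl
  rw [h2, he, ← he', Set.image_image]
  conv_rhs => rw [← Set.image_id B']
  apply Set.image_congr
  intro b _
  rw [Finset.image_image]
  have : (⇑e'.symm ∘ ⇑e') = id := by funext a; simp
  rw [this, Finset.image_id]
  rfl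

end Cfsg.Agent.Helper27.SD
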