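import Mathlib
import Cfsg.Prelude.Def_SporadicCombinatorics
import Cfsg.Agent.Helper27.Mask

set_option autoImplicit false

namespace Cfsg.Agent.Helper27

open Cfsg

theorem sum_zmod3 {M : Type*} [AddCommMonoid M] (f : ZMod 3 → M) :
    ∑ r : ZMod 3, f r = f 0 + f 1 + f 2 := Fin.sum_univ_three f

theorem tet_mem (a b : ZMod 3) (t : Fin 4 → ZMod 3)
    (h : a • ![0, 1, 1, 1] + b • ![1, 0, 1, 2] = t) : t ∈ Cfsg.tetracode := by
  rw [Cfsg.tetracode, Submodule.mem_span_pair]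
  exact ⟨a, b, h⟩

/-- a systematic basis of the ternary code: `tgTab j i r` is the entry of the `j`-th basis word
in column `i` and row `r` of the array -/
def tgTab : Fin 6 → Fin 4 → Fin 3 → ZMod 3 :=
  ![![![1, 0, 0], ![0, 0, 1], ![0, 0, 1], ![1, 1, 2]],
    ![![0, 1, 0], ![0, 0, 1], ![0, 2, 2], ![2, 0, 2]],
    ![![0, 0, 1], ![0, 0, 1], ![0, 1, 0], ![2, 1, 1]],
    ![![0, 0, 0], ![1, 0, 2], ![0, 2, 1], ![2, 1, 0]],
    ![![0, 0, 0], ![0, 1, 2], ![0, 1, 2], ![0, 1, 2]],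
    ![![0, 0, 0], ![0, 0, 0], ![1, 1, 1], ![2, 2, 2]]]

/-- the basis words -/
def tgB (j : Fin 6) : ArrayPt → ZMod 3 := fun p => tgTab j p.1 p.2

/-- the parametrisation of the ternary code -/
def tgEnc (c : Fin 6 → ZMod 3) : ArrayPt → ZMod 3 := fun p => ∑ j, c j * tgB j p

/-- the information positions -/
def tgInfo : Fin 6 → ArrayPt := ![(0, 0), (0, 1), (0, 2), (1, 0), (1, 1), (2, 0)]

theorem tgB_info : ∀ j k : Fin 6, tgB j (tgInfo k) = if j = k then 1 else 0 := by decide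

theorem tgEnc_info (c : Fin 6 → ZMod 3) (k : Fin 6) : tgEnc c (tgInfo k) = c k := by
  simp only [tgEnc, tgB_info]
  simp

theorem tgB_mem (j : Fin 6) : tgB j ∈ ternaryGolayCode := by
  show IsTernaryGolayWord (tgB j)
  refine ⟨-(tgB j (0, 0) + tgB j (0, 1) + tgB j (0, 2)), ?_, ?_⟩
  · revert j
    decide
  · intro t ht
    rw [tetracode, Submodule.mem_span_pair] at ht
    obtain ⟨a, b, rfl⟩ := ht
    revert j a b
    decide

theorem tgEnc_eq_sum (c : Fin 6 → ZMod 3) : tgEnc c = ∑ j, c j • tgB j := by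
  funext p
  simp [tgEnc, Finset.sum_apply]

theorem tgEnc_mem (c : Fin 6 → ZMod 3) : tgEnc c ∈ ternaryGolayCode := by
  rw [tgEnc_eq_sum]
  exact Submodule.sum_mem _ (fun j _ => Submodule.smul_mem _ _ (tgB_mem j))

theorem arrayPt_forall (P : ArrayPt → Prop) (h00 : P (0, 0)) (h01 : P (0, 1)) (h02 : P (0, 2))
    (h10 : P (1, 0)) (h11 : P (1, 1)) (h12 : P (1, 2)) (h20 : P (2, 0)) (h21 : P (2, 1))
    (h22 : P (2, 2)) (h30 : P (3, 0)) (h31 : P (3, 1)) (h32 : P (3, 2)) : ∀ p, P p := by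
  rintro ⟨i, r⟩
  fin_cases i <;> fin_cases r <;> assumption

theorem tgEnc_apply' (x : ArrayPt → ZMod 3) (p : ArrayPt) (a0 a1 a2 a3 a4 a5 : ZMod 3)
    (h : ∀ j, tgB j p = ![a0, a1, a2, a3, a4, a5] j) :
    tgEnc (fun j => x (tgInfo j)) p = x (0, 0) * a0 + x (0, 1) * a1 + x (0, 2) * a2
      + x (1, 0) * a3 + x (1, 1) * a4 + x (2, 0) * a5 := by
  simp only [tgEnc, Fin.sum_univ_six, h]
  rfl

theorem eq_tgEnc_of_mem (x : ArrayPt → ZMod 3) (hx : x ∈ ternaryGolayCode) :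
    x = tgEnc (fun j => x (tgInfo j)) := by
  obtain ⟨s, h1, h2⟩ := hx
  have h3 : (3 : ZMod 3) = 0 := by decide
  have hc0 : x (0, 0) + x (0, 1) + x (0, 2) = -s := by
    have := h1 0
    rwa [sum_zmod3] at this
  have hc1 : x (1, 0) + x (1, 1) + x (1, 2) = -s := by
    have := h1 1
    rwa [sum_zmod3] at this
  have hc2 : x (2, 0) + x (2, 1) + x (2, 2) = -s := by
    have := h1 2
    rwa [sum_zmod3] at this
  have hc3 : x (3, 0) + x (3, 1) + x (3, 2) = -s := by
    have := h1 3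
    rwa [sum_zmod3] at this
  have ht00 : x (0, 0) + x (1, 0) + x (2, 0) + x (3, 0) = s := by
    have := h2 ![0, 0, 0, 0] (tet_mem 0 0 _ (by decide))
    simpa [Fin.sum_univ_four] using this
  have ht01 : x (0, 1) + x (1, 0) + x (2, 1) + x (3, 2) = s := by
    have := h2 ![1, 0, 1, 2] (tet_mem 0 1 _ (by decide))
    simpa [Fin.sum_univ_four] using this
  have ht10 : x (0, 0) + x (1, 1) + x (2, 1) + x (3, 1) = s := by
    have := h2 ![0, 1, 1, 1] (tet_mem 1 0 _ (by decide))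
    simpa [Fin.sum_univ_four] using this
  have p5 : x (1, 2) = 1 * x (0, 0) + 1 * x (0, 1) + 1 * x (0, 2) + 2 * x (1, 0) + 2 * x (1, 1) + 0 * x (2, 0) := by
    linear_combination 2 * hc0 + 1 * hc1 + ((-1) * x (0, 0) + (-1) * x (0, 1) + (-1) * x (0, 2) + (-1) * x (1, 0) + (-1) * x (1, 1) + (-1) * s) * h3
  have p7 : x (2, 1) = 0 * x (0, 0) + 2 * x (0, 1) + 1 * x (0, 2) + 2 * x (1, 0) + 1 * x (1, 1) + 1 * x (2, 0) := by
    linear_combination 2 * hc0 + 1 * hc3 + 2 * ht00 + 2 * ht01 + 2 * ht10 + ((-2) * x (0, 0) + (-2) * x (0, 1) + (-1) * x (0, 2) + (-2) * x (1, 0) + (-1) * x (1, 1) + (-1) * x (2, 0) + (-1) * x (2, 1) + (-1) * x (3, 0) + (-1) * x (3, 1) + (-1) * x (3, 2) + (1) * s) * h3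
  have p8 : x (2, 2) = 1 * x (0, 0) + 2 * x (0, 1) + 0 * x (0, 2) + 1 * x (1, 0) + 2 * x (1, 1) + 1 * x (2, 0) := by
    linear_combination 1 * hc2 + 2 * hc3 + 1 * ht00 + 1 * ht01 + 1 * ht10 + ((-1) * x (0, 0) + (-1) * x (0, 1) + (-1) * x (1, 0) + (-1) * x (1, 1) + (-1) * x (2, 0) + (-1) * x (2, 1) + (-1) * x (3, 0) + (-1) * x (3, 1) + (-1) * x (3, 2)) * h3
  have p9 : x (3, 0) = 1 * x (0, 0) + 2 * x (0, 1) + 2 * x (0, 2) + 2 * x (1, 0) + 0 * x (1, 1) + 2 * x (2, 0) := by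
    linear_combination 1 * hc0 + 1 * ht00 + ((-1) * x (0, 0) + (-1) * x (0, 1) + (-1) * x (0, 2) + (-1) * x (1, 0) + (-1) * x (2, 0)) * h3
  have p10 : x (3, 1) = 1 * x (0, 0) + 0 * x (0, 1) + 1 * x (0, 2) + 1 * x (1, 0) + 1 * x (1, 1) + 2 * x (2, 0) := by
    linear_combination 2 * hc0 + 2 * hc3 + 1 * ht00 + 1 * ht01 + 2 * ht10 + ((-2) * x (0, 0) + (-1) * x (0, 1) + (-1) * x (0, 2) + (-1) * x (1, 0) + (-1) * x (1, 1) + (-1) * x (2, 0) + (-1) * x (2, 1) + (-1) * x (3, 0) + (-1) * x (3, 1) + (-1) * x (3, 2)) * h3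
  have p11 : x (3, 2) = 2 * x (0, 0) + 2 * x (0, 1) + 1 * x (0, 2) + 0 * x (1, 0) + 2 * x (1, 1) + 2 * x (2, 0) := by
    linear_combination 2 * hc0 + 2 * hc3 + 1 * ht00 + 2 * ht01 + 1 * ht10 + ((-2) * x (0, 0) + (-2) * x (0, 1) + (-1) * x (0, 2) + (-1) * x (1, 0) + (-1) * x (1, 1) + (-1) * x (2, 0) + (-1) * x (2, 1) + (-1) * x (3, 0) + (-1) * x (3, 1) + (-1) * x (3, 2)) * h3
  funext p
  revert p
  refine arrayPt_forall _ ?_ ?_ ?_ ?_ ?_ ?_ ?_ ?_ ?_ ?_ ?_ ?_
  · exact (tgEnc_info (fun j => x (tgInfo j)) 0).symm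
  · exact (tgEnc_info (fun j => x (tgInfo j)) 1).symm
  · exact (tgEnc_info (fun j => x (tgInfo j)) 2).symm
  · exact (tgEnc_info (fun j => x (tgInfo j)) 3).symm
  · exact (tgEnc_info (fun j => x (tgInfo j)) 4).symm
  · rw [tgEnc_apply' x (1, 2) 1 1 1 2 2 0 (by decide)]
    linear_combination p5
  · exact (tgEnc_info (fun j => x (tgInfo j)) 5).symm
  · rw [tgEnc_apply' x (2, 1) 0 2 1 2 1 1 (by decide)]
    linear_combination p7
  · rw [tgEnc_apply' x (2, 2) 1 2 0 1 2 1 (by decide)]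
    linear_combination p8
  · rw [tgEnc_apply' x (3, 0) 1 2 2 2 0 2 (by decide)]
    linear_combination p9
  · rw [tgEnc_apply' x (3, 1) 1 0 1 1 1 2 (by decide)]
    linear_combination p10
  · rw [tgEnc_apply' x (3, 2) 2 2 1 0 2 2 (by decide)]
    linear_combination p11


theorem tgEnc_injective : Function.Injective tgEnc := by
  intro c c' h
  funext k
  rw [← tgEnc_info c k, ← tgEnc_info c' k, h]

theorem mem_code_iff (x : ArrayPt → ZMod 3) : x ∈ ternaryGolayCode ↔ ∃ c, tgEnc c = x :=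
  ⟨fun h => ⟨_, (eq_tgEnc_of_mem x h).symm⟩, by rintro ⟨c, rfl⟩; exact tgEnc_mem c⟩

theorem card_code : Nat.card ternaryGolayCode = 729 := by
  have h : (ternaryGolayCode : Set (ArrayPt → ZMod 3)) = Set.range tgEnc := by
    ext x; exact mem_code_iff x
  have : Nat.card ternaryGolayCode = Nat.card (Set.range tgEnc) := by
    rw [← h]; rfl
  rw [this, Nat.card_range_of_injective tgEnc_injective]
  simp

/-- weight of the codeword with parameter `c` -/
def tgWt (c : Fin 6 → ZMod 3) : ℕ := (ternarySupport (tgEnc c)).card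

theorem ncard_code_filter (P : (ArrayPt → ZMod 3) → Prop) [DecidablePred P] :
    {x : ArrayPt → ZMod 3 | x ∈ ternaryGolayCode ∧ P x}.ncard
      = (Finset.univ.filter (fun c : Fin 6 → ZMod 3 => P (tgEnc c))).card := by
  have h : {x : ArrayPt → ZMod 3 | x ∈ ternaryGolayCode ∧ P x}
      = tgEnc '' ((Finset.univ.filter (fun c : Fin 6 → ZMod 3 => P (tgEnc c)) :
          Finset (Fin 6 → ZMod 3)) : Set (Fin 6 → ZMod 3)) := by
    ext x
    simp only [Set.mem_ofPred_eq, Set.mem_image, Finset.coe_filter, Finset.mem_univ, true_and,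
      mem_code_iff]
    constructor
    · rintro ⟨⟨c, rfl⟩, hP⟩
      exact ⟨c, hP, rfl⟩
    · rintro ⟨c, hP, rfl⟩
      exact ⟨⟨c, rfl⟩, hP⟩
  rw [h, Set.ncard_image_of_injective _ tgEnc_injective, Set.ncard_coe_finset]

/-- index of an array position -/
def tgIdx (p : ArrayPt) : ℕ := 3 * p.1.val + ZMod.val p.2

theorem tgIdx_injective : Function.Injective tgIdx := by
  unfold Function.Injective
  decide

theorem tgIdx_lt : ∀ p, tgIdx p < 12 := by decide

/-- bitmask of a set of array positions -/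
def tgMask (s : Finset ArrayPt) : ℕ := maskOf tgIdx s

/-- the masks of the 132 hexads -/
def tgHexMasks : List ℕ := [63, 222, 237, 243, 347, 366, 373, 413, 427, 438, 455, 504, 591, 630, 633, 667, 679, 700, 725, 746, 791, 813, 826, 860, 867, 910, 945, 969, 978, 996, 1117, 1127, 1146, 1175, 1198, 1209, 1227, 1268, 1295, 1331, 1340, 1366, 1385, 1434, 1445, 1484, 1489, 1506, 1566, 1579, 1589, 1619, 1644, 1677, 1714, 1734, 1752, 1761, 1817, 1830, 1861, 1866, 1904, 1923, 1940, 1960, 2135, 2155, 2172, 2191, 2229, 2234, 2265, 2278, 2334, 2343, 2361, 2381, 2418, 2451, 2476, 2506, 2516, 2529, 2589, 2606, 2611, 2650, 2661, 2710, 2729, 2755, 2764, 2800, 2827, 2868, 2886, 2897, 2920, 2949, 2968, 2978, 3099, 3117, 3126, 3150, 3185, 3228, 3235, 3269, 3282, 3304, 3349, 3370, 3395, 3416, 3428, 3462, 3465, 3504, 3591, 3640, 3657, 3668, 3682, 3722, 3729, 3748, 3852, 3858, 3873, 4032]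

/-- the hexads (supports of the weight-6 words) as a finset -/
def tgHex : Finset (Finset ArrayPt) :=
  (Finset.univ.filter (fun c : Fin 6 → ZMod 3 => tgWt c = 6)).image
    (fun c => ternarySupport (tgEnc c))

theorem tgHex_coe : {h : Finset ArrayPt | ∃ x ∈ ternaryGolayCode, ternarySupport x = h ∧
    h.card = 6} = (↑tgHex : Set (Finset ArrayPt)) := by
  ext h
  simp only [Set.mem_ofPred_eq, tgHex, Finset.coe_image, Finset.coe_filter, Finset.mem_univ,
    true_and, Set.mem_image, mem_code_iff]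
  constructor
  · rintro ⟨x, ⟨c, rfl⟩, rfl, h6⟩
    exact ⟨c, h6, rfl⟩
  · rintro ⟨c, h6, rfl⟩
    exact ⟨tgEnc c, ⟨c, rfl⟩, rfl, h6⟩

theorem tgMask_injective : Function.Injective tgMask := maskOf_injective tgIdx tgIdx_injective

theorem tgMask_lt (s : Finset ArrayPt) : tgMask s < 4096 :=
  maskOf_lt tgIdx tgIdx_injective 12 tgIdx_lt s

theorem popc_tgMask (s : Finset ArrayPt) : popc 12 (tgMask s) = s.card :=
  popc_maskOf tgIdx tgIdx_injective 12 tgIdx_lt s

theorem subset_iff_tgMask (s t : Finset ArrayPt) : s ⊆ t ↔ tgMask s &&& tgMask t = tgMask s :=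
  subset_iff_maskOf tgIdx tgIdx_injective s t

/-! ### The table of supports

The supports of the 729 words are computed once, in nine pieces, as 12-bit masks; the weight
distribution and the list of hexads are then read off the table. -/

/-- number of a parameter vector -/
def tgCode (c : Fin 6 → ZMod 3) : ℕ :=
  (c 0).val + 3 * (c 1).val + 9 * (c 2).val + 27 * (c 3).val + 81 * (c 4).val + 243 * (c 5).val

/-- the support masks of the 729 words, 12 bits each -/
def tgSuppTab : ℕ := 0x1fffffedea7fd5f77ebdd6fddfcfff5dfafe6dffff9fed7de7d35cf5bb7b47acfb3fbfda7f98d9ff875fc7fb7effffff0decfd7ddbfcfff2ffdde57fb5fe7eedd9fd7fc9fbedb7fabdb5fbefa279f79d586f7bd7df6dd7af77f6f75175e54857777f763f7cf7fd6bf5fd54f4ef3df33d2f736539725d1ff1af0cdffff3fefff4ffbde77df5d87c67f97ff5efffadf5feddd3fdefcafb7dbdfa15be7bf7abf9df96d8fff9df6fee5f37fd7e5fdafdfdc3dffffcfe8fffff7deb7d45df7cd7b77ba5a6fbddbbfafd9ef91f8b77e775569f77d7ef62d5df5ff45f7ed7bf6f57d772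76ef57f59d4fd30f3ff27f3bf3cd2c71b51770d6f24ff6e7cf9efeeeeedbed5ccbcfcef7eeb6f76fc4e0edfcdfec7ebeeb9cadebfcb2eae49569b68aef5effce3efecfdee94df6d66ce6ff4f16edcf6efbee7eddedacc4cbbebfeaf6b86b74afe93c9ce8fc77e78e6467f67b46fe5cc53e4de7be76c6ee71c7fe6745a65d64363d43e62ac3fe35e29e16e1fc0fff8ff7defff3dfcfe45db7df7c37fe5fd7e9dffff6feafd5fdfdcddb6fbbfa77bd7ba5aef9fd91f8adffff5fe97f67ff5e3fddddefc4fffffbdefffcdf3fef5d77d87ce7b15bf7a7dbafbdfadf9bf96d8d77f57276ed75f7bf67f5ef59d47d79f7ef6e77b77556df52d5ff4bf37f3cd20f3fd3ff2b51c71770b5f57fe7e2fffffdde9fdedd7fcffffff0dec7f75fb7e7ddcfdbfc5fbbdbefaedb9fb7faf79279d58fff6df9fe5dffffafee7dd7d35cd5fa7f77efff1ffede6fdbdddfc3fbcfbfdab7bf5b47a8d97f9ff8cf73f7fd6777857f76fd5bf54f4af7dd77f6bd76f7df6175f75e54653f73972df3ef33d2ff15d1af06efdcfbeef4fe6f16eded7edaccecf3efdee5efaeffcef6d94d66c86bf6b74abeb4cbfea3c9fe9ce876fb6fc4ecefbcf7eefcd0edfec9ef7cfeee24fd6ff6ebedeed5ccfcbdeb2eaeeb7eb9ca569e49b681c7ee7fe6be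7de76c6a65745d64f67467b467e7fc78e6cc5fe53e4fe3ac35e2d43363e626e19e1fc0e3f73f91e5bfe9fbbef9ddbd2bccbfb9f7bef1f03ff3e7bdbbdc9c29bdbbfbabbbebb59a939719e38d9f3bfebe6bf9bff9ef3da1d53cb3fd3f61eabf79fdbe19debdfbc7bbf9b8bac1bf3b33afb94b9b98bb7497fb6317f37c368b5fb5794f97eb71b6db77b7a96635d15b34533a33f12fb39936b2e913b1db079fabfdbed3fb3f61eebd19dfbc9bf6bff9e3bfd9febea1df3d53cf3bc1b33af9b7bb8ba4b9fb9b9803ff1ff3eb9fcbf7bebbd7bdc9ce9f5bfbbe73fe3f91edbdf9d2bcebbbbb59adbb29bfba719939e387b7db7a96eb7f971b6d15635b34f37317c36497bb7fb6fb58b5794993fb36b2a33533f123b1e91db0baff8f4ae88f7affae32dc2df0c50ff2fa2eeafdaf38efad68d9acfab1abe8a62bb0bd2ad89aa97a8dafeaf38ef2f50fa2e68dfad9ac7af88ffaef8fbaf4aec2d32df0cb0b62bd2a1abfabe8aaa9d897a8e07927726fa72a7d865a5b85ea42a7fa7d86927e07726b855a5ea4ca3783ba2783ca3ba2f21f21000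

/-- the support mask of word number `n` -/
def tgLook (n : ℕ) : ℕ := (tgSuppTab >>> (12 * n)) % 4096

theorem tgTab_00 : ∀ x0 x1 x2 x3 : ZMod 3,
    tgMask (ternarySupport (tgEnc ![x0, x1, x2, x3, 0, 0])) =
      tgLook (tgCode ![x0, x1, x2, x3, 0, 0]) := by decide +kernel

theorem tgTab_01 : ∀ x0 x1 x2 x3 : ZMod 3,
    tgMask (ternarySupport (tgEnc ![x0, x1, x2, x3, 0, 1])) =
      tgLook (tgCode ![x0, x1, x2, x3, 0, 1]) := by decide +kernel

theorem tgTab_02 : ∀ x0 x1 x2 x3 : ZMod 3,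
    tgMask (ternarySupport (tgEnc ![x0, x1, x2, x3, 0, 2])) =
      tgLook (tgCode ![x0, x1, x2, x3, 0, 2]) := by decide +kernel

theorem tgTab_10 : ∀ x0 x1 x2 x3 : ZMod 3,
    tgMask (ternarySupport (tgEnc ![x0, x1, x2, x3, 1, 0])) =
      tgLook (tgCode ![x0, x1, x2, x3, 1, 0]) := by decide +kernel

theorem tgTab_11 : ∀ x0 x1 x2 x3 : ZMod 3,
    tgMask (ternarySupport (tgEnc ![x0, x1, x2, x3, 1, 1])) =
      tgLook (tgCode ![x0, x1, x2, x3, 1, 1]) := by decide +kernel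

theorem tgTab_12 : ∀ x0 x1 x2 x3 : ZMod 3,
    tgMask (ternarySupport (tgEnc ![x0, x1, x2, x3, 1, 2])) =
      tgLook (tgCode ![x0, x1, x2, x3, 1, 2]) := by decide +kernel

theorem tgTab_20 : ∀ x0 x1 x2 x3 : ZMod 3,
    tgMask (ternarySupport (tgEnc ![x0, x1, x2, x3, 2, 0])) =
      tgLook (tgCode ![x0, x1, x2, x3, 2, 0]) := by decide +kernel

theorem tgTab_21 : ∀ x0 x1 x2 x3 : ZMod 3,
    tgMask (ternarySupport (tgEnc ![x0, x1, x2, x3, 2, 1])) =
      tgLook (tgCode ![x0, x1, x2, x3, 2, 1]) := by decide +kernel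

theorem tgTab_22 : ∀ x0 x1 x2 x3 : ZMod 3,
    tgMask (ternarySupport (tgEnc ![x0, x1, x2, x3, 2, 2])) =
      tgLook (tgCode ![x0, x1, x2, x3, 2, 2]) := by decide +kernel

theorem zmod3_cases (P : ZMod 3 → Prop) (h0 : P 0) (h1 : P 1) (h2 : P 2) (x : ZMod 3) : P x := by
  fin_cases x
  · exact h0
  · exact h1
  · exact h2

theorem tgVec_eq (c : Fin 6 → ZMod 3) : c = ![c 0, c 1, c 2, c 3, c 4, c 5] := by
  funext i
  fin_cases i <;> rfl

theorem tgMask_supp (c : Fin 6 → ZMod 3) :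
    tgMask (ternarySupport (tgEnc c)) = tgLook (tgCode c) := by
  rw [tgVec_eq c]
  generalize c 0 = x0
  generalize c 1 = x1
  generalize c 2 = x2
  generalize c 3 = x3
  generalize c 4 = x4
  generalize c 5 = x5
  revert x5
  refine zmod3_cases _ ?_ ?_ ?_
  all_goals
    revert x4
    refine zmod3_cases _ ?_ ?_ ?_
  · exact tgTab_00 x0 x1 x2 x3
  · exact tgTab_10 x0 x1 x2 x3
  · exact tgTab_20 x0 x1 x2 x3
  · exact tgTab_01 x0 x1 x2 x3
  · exact tgTab_11 x0 x1 x2 x3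
  · exact tgTab_21 x0 x1 x2 x3
  · exact tgTab_02 x0 x1 x2 x3
  · exact tgTab_12 x0 x1 x2 x3
  · exact tgTab_22 x0 x1 x2 x3

theorem tgWt_eq (c : Fin 6 → ZMod 3) : tgWt c = popc 12 (tgLook (tgCode c)) := by
  rw [← tgMask_supp, popc_tgMask]
  rfl

theorem tgCode_lt (c : Fin 6 → ZMod 3) : tgCode c < 729 := by
  have h0 := ZMod.val_lt (c 0)
  have h1 := ZMod.val_lt (c 1)
  have h2 := ZMod.val_lt (c 2)
  have h3 := ZMod.val_lt (c 3)
  have h4 := ZMod.val_lt (c 4)
  have h5 := ZMod.val_lt (c 5)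
  unfold tgCode
  omega

/-- the parameter vector with a given number -/
def tgDec (n : ℕ) : Fin 6 → ZMod 3 :=
  ![(n % 3 : ℕ), (n / 3 % 3 : ℕ), (n / 9 % 3 : ℕ), (n / 27 % 3 : ℕ), (n / 81 % 3 : ℕ),
    (n / 243 % 3 : ℕ)]

theorem tgDec_code (c : Fin 6 → ZMod 3) : tgDec (tgCode c) = c := by
  have h0 := ZMod.val_lt (c 0)
  have h1 := ZMod.val_lt (c 1)
  have h2 := ZMod.val_lt (c 2)
  have h3 := ZMod.val_lt (c 3)
  have h4 := ZMod.val_lt (c 4)
  have h5 := ZMod.val_lt (c 5)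
  have e0 : tgCode c % 3 = (c 0).val := by unfold tgCode; omega
  have e1 : tgCode c / 3 % 3 = (c 1).val := by unfold tgCode; omega
  have e2 : tgCode c / 9 % 3 = (c 2).val := by unfold tgCode; omega
  have e3 : tgCode c / 27 % 3 = (c 3).val := by unfold tgCode; omega
  have e4 : tgCode c / 81 % 3 = (c 4).val := by unfold tgCode; omega
  have e5 : tgCode c / 243 % 3 = (c 5).val := by unfold tgCode; omega
  unfold tgDec
  rw [e0, e1, e2, e3, e4, e5]
  simp only [ZMod.natCast_zmod_val]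
  exact (tgVec_eq c).symm

theorem tgCode_dec {n : ℕ} (hn : n < 729) : tgCode (tgDec n) = n := by
  have v : ∀ k : ℕ, ((k % 3 : ℕ) : ZMod 3).val = k % 3 := by
    intro k
    rw [ZMod.val_natCast]
    omega
  unfold tgCode tgDec
  simp only [Matrix.cons_val_zero, Matrix.cons_val_one, Matrix.cons_val]
  rw [v, v, v, v, v, v]
  omega

theorem tgCode_injective : Function.Injective tgCode :=
  Function.LeftInverse.injective tgDec_code

theorem tgCode_image : (Finset.univ : Finset (Fin 6 → ZMod 3)).image tgCode = Finset.range 729 := by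
  ext n
  simp only [Finset.mem_image, Finset.mem_univ, true_and, Finset.mem_range]
  constructor
  · rintro ⟨c, rfl⟩
    exact tgCode_lt c
  · intro hn
    exact ⟨tgDec n, tgCode_dec hn⟩

theorem tg_card_filter (Q : ℕ → Prop) [DecidablePred Q] :
    (Finset.univ.filter (fun c : Fin 6 → ZMod 3 => Q (tgCode c))).card =
      ((Finset.range 729).filter Q).card := by
  rw [← tgCode_image, Finset.filter_image, Finset.card_image_of_injective _ tgCode_injective]

theorem tg_weights_tab : ∀ n < 729, popc 12 (tgLook n) = 0 ∨ popc 12 (tgLook n) = 6 ∨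
    popc 12 (tgLook n) = 9 ∨ popc 12 (tgLook n) = 12 := by decide +kernel

theorem tg_count6_tab : ((Finset.range 729).filter (fun n => popc 12 (tgLook n) = 6)).card = 264 := by
  decide +kernel

theorem tg_count9_tab : ((Finset.range 729).filter (fun n => popc 12 (tgLook n) = 9)).card = 440 := by
  decide +kernel

theorem tg_count12_tab : ((Finset.range 729).filter (fun n => popc 12 (tgLook n) = 12)).card = 24 := by
  decide +kernel

theorem tgHexMasks_tab : ((Finset.range 729).filter (fun n => popc 12 (tgLook n) = 6)).image tgLook =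
    tgHexMasks.toFinset := by
  decide +kernel

theorem tg_weights : ∀ c : Fin 6 → ZMod 3, tgEnc c ≠ 0 →
    tgWt c = 6 ∨ tgWt c = 9 ∨ tgWt c = 12 := by
  intro c hc
  have h := tg_weights_tab (tgCode c) (tgCode_lt c)
  rw [← tgWt_eq] at h
  rcases h with h | h
  · exfalso
    apply hc
    funext p
    have hs : ternarySupport (tgEnc c) = ∅ := Finset.card_eq_zero.mp h
    have hp : p ∉ ternarySupport (tgEnc c) := by rw [hs]; exact Finset.notMem_empty p
    unfold ternarySupport at hp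
    simpa using hp
  · exact h

theorem tg_count6 : (Finset.univ.filter (fun c : Fin 6 → ZMod 3 => tgWt c = 6)).card = 264 := by
  simp only [tgWt_eq]
  rw [tg_card_filter (fun n => popc 12 (tgLook n) = 6)]
  exact tg_count6_tab

theorem tg_count9 : (Finset.univ.filter (fun c : Fin 6 → ZMod 3 => tgWt c = 9)).card = 440 := by
  simp only [tgWt_eq]
  rw [tg_card_filter (fun n => popc 12 (tgLook n) = 9)]
  exact tg_count9_tab

theorem tg_count12 : (Finset.univ.filter (fun c : Fin 6 → ZMod 3 => tgWt c = 12)).card = 24 := by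
  simp only [tgWt_eq]
  rw [tg_card_filter (fun n => popc 12 (tgLook n) = 12)]
  exact tg_count12_tab

theorem tgHexMasks_eq : (Finset.univ.filter (fun c : Fin 6 → ZMod 3 => tgWt c = 6)).image
    (fun c => tgMask (ternarySupport (tgEnc c))) = tgHexMasks.toFinset := by
  simp only [tgWt_eq, tgMask_supp]
  rw [← tgHexMasks_tab, ← tgCode_image, Finset.filter_image, Finset.image_image]
  rfl

theorem tgHex_image_mask : tgHex.image tgMask = tgHexMasks.toFinset := by
  rw [tgHex, Finset.image_image]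
  exact tgHexMasks_eq

theorem mem_tgHex_iff (h : Finset ArrayPt) : h ∈ tgHex ↔ tgMask h ∈ tgHexMasks := by
  rw [← List.mem_toFinset, ← tgHex_image_mask, Finset.mem_image]
  constructor
  · intro hh
    exact ⟨h, hh, rfl⟩
  · rintro ⟨h', hh', e⟩
    rw [← tgMask_injective e]
    exact hh'

theorem card_of_mem_tgHex (h : Finset ArrayPt) (hh : h ∈ tgHex) : h.card = 6 := by
  rw [tgHex, Finset.mem_image] at hh
  obtain ⟨c, hc, rfl⟩ := hh
  exact (Finset.mem_filter.mp hc).2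

theorem tgHex_card : tgHex.card = 132 := by
  rw [← Finset.card_image_of_injective tgHex tgMask_injective, tgHex_image_mask]
  decide +kernel

theorem tgSteiner_0 : ∀ m < 512, popc 12 (m + 0) = 5 →
    (tgHexMasks.filter (fun q => (m + 0) &&& q == (m + 0))).length = 1 := by
  decide +kernel

theorem tgSteiner_1 : ∀ m < 512, popc 12 (m + 512) = 5 →
    (tgHexMasks.filter (fun q => (m + 512) &&& q == (m + 512))).length = 1 := by
  decide +kernel

theorem tgSteiner_2 : ∀ m < 512, popc 12 (m + 1024) = 5 →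
    (tgHexMasks.filter (fun q => (m + 1024) &&& q == (m + 1024))).length = 1 := by
  decide +kernel

theorem tgSteiner_3 : ∀ m < 512, popc 12 (m + 1536) = 5 →
    (tgHexMasks.filter (fun q => (m + 1536) &&& q == (m + 1536))).length = 1 := by
  decide +kernel

theorem tgSteiner_4 : ∀ m < 512, popc 12 (m + 2048) = 5 →
    (tgHexMasks.filter (fun q => (m + 2048) &&& q == (m + 2048))).length = 1 := by
  decide +kernel

theorem tgSteiner_5 : ∀ m < 512, popc 12 (m + 2560) = 5 →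
    (tgHexMasks.filter (fun q => (m + 2560) &&& q == (m + 2560))).length = 1 := by
  decide +kernel

theorem tgSteiner_6 : ∀ m < 512, popc 12 (m + 3072) = 5 →
    (tgHexMasks.filter (fun q => (m + 3072) &&& q == (m + 3072))).length = 1 := by
  decide +kernel

theorem tgSteiner_7 : ∀ m < 512, popc 12 (m + 3584) = 5 →
    (tgHexMasks.filter (fun q => (m + 3584) &&& q == (m + 3584))).length = 1 := by
  decide +kernel

theorem tgHex_steiner_masks : ∀ m < 4096, popc 12 m = 5 →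
    (tgHexMasks.filter (fun k => m &&& k == m)).length = 1 := by
  intro m hm h5
  have hq : m / 512 < 8 := by omega
  have hr : m % 512 < 512 := Nat.mod_lt _ (by norm_num)
  have e : m = m % 512 + 512 * (m / 512) := by omega
  rw [e] at h5 ⊢
  generalize m % 512 = r at hr h5 ⊢
  generalize m / 512 = q at hq h5 ⊢
  interval_cases q
  · exact tgSteiner_0 r hr h5
  · exact tgSteiner_1 r hr h5
  · exact tgSteiner_2 r hr h5
  · exact tgSteiner_3 r hr h5
  · exact tgSteiner_4 r hr h5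
  · exact tgSteiner_5 r hr h5
  · exact tgSteiner_6 r hr h5
  · exact tgSteiner_7 r hr h5

theorem tgHex_steiner : IsSteinerSystem 5 6 (↑tgHex : Set (Finset ArrayPt)) := by
  refine ⟨fun b hb => card_of_mem_tgHex b hb, ?_⟩
  intro s hs
  have h1 := tgHex_steiner_masks (tgMask s) (tgMask_lt s) (by rw [popc_tgMask, hs])
  obtain ⟨k, hk⟩ := List.length_eq_one_iff.mp h1
  have hkm : k ∈ tgHexMasks.filter (fun k => tgMask s &&& k == tgMask s) := by
    rw [hk]; exact List.mem_singleton_self k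
  rw [List.mem_filter] at hkm
  obtain ⟨hk1, hk2⟩ := hkm
  have hk3 : k ∈ tgHex.image tgMask := by
    rw [tgHex_image_mask, List.mem_toFinset]; exact hk1
  obtain ⟨b, hb, rfl⟩ := Finset.mem_image.mp hk3
  refine ⟨b, ⟨hb, ?_⟩, ?_⟩
  · rw [subset_iff_tgMask]
    exact beq_iff_eq.mp hk2
  · rintro b' ⟨hb', hsb'⟩
    have h2 : tgMask b' ∈ tgHexMasks.filter (fun k => tgMask s &&& k == tgMask s) := by
      rw [List.mem_filter]
      refine ⟨(mem_tgHex_iff b').mp hb', ?_⟩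
      rw [beq_iff_eq]
      exact (subset_iff_tgMask s b').mp hsb'
    rw [hk, List.mem_singleton] at h2
    exact tgMask_injective h2

theorem tgB_dot : ∀ j k : Fin 6, ∑ p, tgB j p * tgB k p = 0 := by decide +kernel

theorem code_dot (x y : ArrayPt → ZMod 3) (hx : x ∈ ternaryGolayCode)
    (hy : y ∈ ternaryGolayCode) : ∑ p, x p * y p = 0 := by
  rw [eq_tgEnc_of_mem x hx, eq_tgEnc_of_mem y hy]
  generalize (fun j => x (tgInfo j)) = c
  generalize (fun j => y (tgInfo j)) = d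
  have h : ∀ p, tgEnc c p * tgEnc d p = ∑ j, ∑ k, (c j * d k) * (tgB j p * tgB k p) := by
    intro p
    simp only [tgEnc, Finset.sum_mul_sum]
    apply Finset.sum_congr rfl
    intro j _
    apply Finset.sum_congr rfl
    intro k _
    ring
  simp only [h]
  rw [Finset.sum_comm]
  apply Finset.sum_eq_zero
  intro j _
  rw [Finset.sum_comm]
  apply Finset.sum_eq_zero
  intro k _
  rw [← Finset.mul_sum, tgB_dot, mul_zero]

end Cfsg.Agent.Helper27
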